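import Mathlib
import Cfsg.Agent.Helper8.RgGenD
import Cfsg.Agent.Helper7.QuadFormMatrices

set_option autoImplicit false
set_option linter.unusedSectionVars false
set_option linter.unusedVariables false
set_option linter.unusedSimpArgs false

/-! S2279 (helper2): the design.  `n = m + 5`, `v = 1 + N`, `U = v * Y`,
`Y = 1 + ℓ ⊗ μ1 + mm ⊗ μ2`. -/

namespace Cfsg.Agent.SLNG

open Matrix Cfsg.Agent.Helper8.RgGen

variable {F : Type*} [Field F]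

/-- `ℓ = c (e_n + e_{n-1})`. -/
def dl (m : ℕ) (c : F) : Fin (m + 5) → F :=
  c • (bv (m + 5) F (m + 4) + bv (m + 5) F (m + 3))

/-- `mm = e_1 - c e_n`. -/
def dm (m : ℕ) (c : F) : Fin (m + 5) → F :=
  bv (m + 5) F 0 - c • bv (m + 5) F (m + 4)

/-- `κ = c ((1+s) e_n + s e_{n-1})`. -/
def dk (m : ℕ) (s c : F) : Fin (m + 5) → F :=
  c • ((1 + s) • bv (m + 5) F (m + 4) + s • bv (m + 5) F (m + 3))

def dmu1 (m : ℕ) (s c : F) : Fin (m + 5) → F :=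
  c⁻¹ • (s • bv (m + 5) F (m + 4) - (2 + s) • bv (m + 5) F (m + 3)
    + (5 + s) • bv (m + 5) F (m + 2)) + bv (m + 5) F 1

def dmu2 (m : ℕ) (s c : F) : Fin (m + 5) → F :=
  c⁻¹ • (bv (m + 5) F (m + 4) - bv (m + 5) F (m + 3) - (8 + s) • bv (m + 5) F (m + 2)
    - (5 + s) • bv (m + 5) F (m + 1)) - bv (m + 5) F 2 - (2 : F) • bv (m + 5) F 1
    - bv (m + 5) F 0

theorem bv_dot' {n : ℕ} {j : ℕ} (hj : j < n) (v : Fin n → F) : v ⬝ᵥ bv n F j = v ⟨j, hj⟩ := by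
  rw [dotProduct_comm, bv_dot hj]

/-- dot product of basis vectors, explicit form. -/
theorem bvd (n i j : ℕ) (hi : i < n) : bv n F i ⬝ᵥ bv n F j = if i = j then 1 else 0 :=
  bv_dot_bv hi

section shifts

theorem vecMul_apply_bv {n : ℕ} (ψ : Fin n → F) (M : Matrix (Fin n) (Fin n) F) (i : Fin n) :
    (ψ ᵥ* M) i = ψ ⬝ᵥ (M *ᵥ bv n F i.val) := by
  rw [dotProduct_mulVec, bv_dot' i.isLt]

theorem vec_ext_bv {n : ℕ} {x y : Fin n → F} (h : ∀ j, j < n → x ⬝ᵥ bv n F j = y ⬝ᵥ bv n F j) :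
    x = y := by
  funext i
  have := h i.val i.isLt
  rwa [bv_dot' i.isLt, bv_dot' i.isLt] at this

theorem shift_top (k : ℕ) (ψ : Fin (k + 3) → F) (h0 : ψ ⬝ᵥ bv (k + 3) F 0 = 0) :
    ψ ᵥ* (Nm (k + 3) F) ^ (k + 1) = (ψ ⬝ᵥ bv (k + 3) F 1) • bv (k + 3) F (k + 2) := by
  apply vec_ext_bv
  intro j hj
  rw [← dotProduct_mulVec, smul_dotProduct, bvd _ _ _ (by omega)]
  rcases Nat.lt_or_ge j (k + 1) with h | h
  · rw [Nm_pow_mulVec_bv_lt _ _ h, dotProduct_zero, if_neg (by omega), smul_zero]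
  · rcases Nat.eq_or_lt_of_le h with h | h
    · subst h
      have := Nm_pow_mulVec_bv_add (F := F) (n := k + 3) (k + 1) 0 (by omega)
      rw [zero_add] at this
      rw [this, h0, if_neg (by omega), smul_zero]
    · have hj2 : j = 1 + (k + 1) := by omega
      subst hj2
      rw [Nm_pow_mulVec_bv_add (F := F) (n := k + 3) (k + 1) 1 (by omega), if_pos (by omega),
        smul_eq_mul, mul_one]

theorem shift_top2 (k : ℕ) (ψ : Fin (k + 3) → F) (h0 : ψ ⬝ᵥ bv (k + 3) F 0 = 0) :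
    ψ ᵥ* (Nm (k + 3) F) ^ k = (ψ ⬝ᵥ bv (k + 3) F 1) • bv (k + 3) F (k + 1)
      + (ψ ⬝ᵥ bv (k + 3) F 2) • bv (k + 3) F (k + 2) := by
  apply vec_ext_bv
  intro j hj
  rw [← dotProduct_mulVec, add_dotProduct, smul_dotProduct, smul_dotProduct,
    bvd _ _ _ (by omega), bvd _ _ _ (by omega)]
  rcases Nat.lt_or_ge j k with h | h
  · rw [Nm_pow_mulVec_bv_lt _ _ h, dotProduct_zero, if_neg (by omega), if_neg (by omega),
      smul_zero, smul_zero, add_zero]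
  · obtain ⟨d, rfl⟩ : ∃ d, j = d + k := ⟨j - k, by omega⟩
    rw [Nm_pow_mulVec_bv_add (F := F) (n := k + 3) k d (by omega)]
    have hd : d = 0 ∨ d = 1 ∨ d = 2 := by omega
    rcases hd with rfl | rfl | rfl
    · rw [h0, if_neg (by omega), if_neg (by omega), smul_zero, smul_zero, add_zero]
    · rw [if_pos (by omega), if_neg (by omega), smul_zero, add_zero, smul_eq_mul, mul_one]
    · rw [if_neg (by omega), if_pos (by omega), smul_zero, zero_add, smul_eq_mul, mul_one]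


end shifts

section pairings

variable (m : ℕ) (s c : F)

theorem dmu1_bv (j : ℕ) : dmu1 m s c ⬝ᵥ bv (m + 5) F j =
    c⁻¹ * (s * (if m + 4 = j then 1 else 0) - (2 + s) * (if m + 3 = j then 1 else 0)
      + (5 + s) * (if m + 2 = j then 1 else 0)) + (if 1 = j then 1 else 0) := by
  simp only [dmu1, add_dotProduct, smul_dotProduct, sub_dotProduct,
    bvd (m+5) (m+4) _ (by omega), bvd (m+5) (m+3) _ (by omega), bvd (m+5) (m+2) _ (by omega),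
    bvd (m+5) 1 _ (by omega), smul_eq_mul]

theorem dmu2_bv (j : ℕ) : dmu2 m s c ⬝ᵥ bv (m + 5) F j =
    c⁻¹ * ((if m + 4 = j then 1 else 0) - (if m + 3 = j then 1 else 0)
      - (8 + s) * (if m + 2 = j then 1 else 0) - (5 + s) * (if m + 1 = j then 1 else 0))
      - (if 2 = j then 1 else 0) - 2 * (if 1 = j then 1 else 0)
      - (if 0 = j then 1 else 0) := by
  simp only [dmu2, add_dotProduct, smul_dotProduct, sub_dotProduct,
    bvd (m+5) (m+4) _ (by omega), bvd (m+5) (m+3) _ (by omega), bvd (m+5) (m+2) _ (by omega),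
    bvd (m+5) (m+1) _ (by omega), bvd (m+5) 2 _ (by omega), bvd (m+5) 1 _ (by omega),
    bvd (m+5) 0 _ (by omega), smul_eq_mul]

theorem dmu1_e0 : dmu1 m s c ⬝ᵥ bv (m + 5) F 0 = 0 := by
  rw [dmu1_bv]; simp

theorem dmu2_e0 : dmu2 m s c ⬝ᵥ bv (m + 5) F 0 = -1 := by
  rw [dmu2_bv]; simp

theorem dmu1_dl (hc : c ≠ 0) : dmu1 m s c ⬝ᵥ dl m c = -2 := by
  simp only [dl, dotProduct_smul, dotProduct_add, dmu1_bv]
  simp
  try field_simp
  try ring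

theorem dmu2_dl (hc : c ≠ 0) : dmu2 m s c ⬝ᵥ dl m c = 0 := by
  simp only [dl, dotProduct_smul, dotProduct_add, dmu2_bv]
  simp

theorem dmu1_dm (hc : c ≠ 0) : dmu1 m s c ⬝ᵥ dm m c = -s := by
  simp only [dm, dotProduct_smul, dotProduct_sub, dmu1_bv]
  simp
  try field_simp

theorem dmu2_dm (hc : c ≠ 0) : dmu2 m s c ⬝ᵥ dm m c = -2 := by
  simp only [dm, dotProduct_smul, dotProduct_sub, dmu2_bv]
  simp
  try field_simp
  try ring

theorem dmu1_dk (hc : c ≠ 0) : dmu1 m s c ⬝ᵥ dk m s c = -s := by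
  simp only [dk, dotProduct_smul, dotProduct_add, dmu1_bv]
  simp
  try field_simp
  try ring

theorem dmu2_dk (hc : c ≠ 0) : dmu2 m s c ⬝ᵥ dk m s c = 1 := by
  simp only [dk, dotProduct_smul, dotProduct_add, dmu2_bv]
  simp
  try field_simp
  try ring

end pairings

section abstractY

variable {ι : Type} [Fintype ι] [DecidableEq ι]

/-- `(1 + ℓ⊗μ1 + mm⊗μ2)² = 1 - s ℓ⊗μ2` from the four pairings. -/
theorem ysq (l mm mu1 mu2 : ι → F) (s : F) (h1 : mu1 ⬝ᵥ l = -2) (h2 : mu2 ⬝ᵥ l = 0)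
    (h3 : mu1 ⬝ᵥ mm = -s) (h4 : mu2 ⬝ᵥ mm = -2) :
    (1 + vecMulVec l mu1 + vecMulVec mm mu2) * (1 + vecMulVec l mu1 + vecMulVec mm mu2)
      = 1 + vecMulVec l ((-s) • mu2) := by
  have e1 : vecMulVec l mu1 * vecMulVec l mu1 = (-2 : F) • vecMulVec l mu1 := by
    rw [vmv_mul_vmv, h1]
  have e2 : vecMulVec l mu1 * vecMulVec mm mu2 = (-s) • vecMulVec l mu2 := by
    rw [vmv_mul_vmv, h3]
  have e3 : vecMulVec mm mu2 * vecMulVec l mu1 = 0 := by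
    rw [vmv_mul_vmv, h2, zero_smul]
  have e4 : vecMulVec mm mu2 * vecMulVec mm mu2 = (-2 : F) • vecMulVec mm mu2 := by
    rw [vmv_mul_vmv, h4]
  rw [vecMulVec_smul]
  generalize vecMulVec l mu1 = A at *
  generalize vecMulVec mm mu2 = B at *
  generalize vecMulVec l mu2 = C at *
  have : (1 + A + B) * (1 + A + B) = 1 + A + B + A + A * A + A * B + B + B * A + B * B := by
    noncomm_ring
  rw [this, e1, e2, e3, e4]
  module

/-- `1 + ℓ⊗μ1 + mm⊗μ2` has determinant one. -/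
theorem ydet (l mm mu1 mu2 : ι → F) (h1 : mu1 ⬝ᵥ l = -2) (h2 : mu2 ⬝ᵥ l = 0)
    (h4 : mu2 ⬝ᵥ mm = -2) :
    (1 + vecMulVec l mu1 + vecMulVec mm mu2).det = 1 := by
  have e : 1 + vecMulVec l mu1 + vecMulVec mm mu2
      = (1 + vecMulVec mm mu2) * (1 + vecMulVec l mu1) := by
    rw [add_mul, one_mul, mul_add, mul_one, vmv_mul_vmv, h2, zero_smul, add_zero]
  rw [e, det_mul]
  have d1 := Cfsg.Agent.Helper7.QF.det_one_add_smul_vecMulVec (1 : F) mm mu2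
  have d2 := Cfsg.Agent.Helper7.QF.det_one_add_smul_vecMulVec (1 : F) l mu1
  rw [one_smul, one_mul] at d1 d2
  rw [d1, d2, h1, h4]
  ring

end abstractY

section design

variable (m : ℕ) (s c : F)

/-- the matrix `Y`. -/
def dY : Matrix (Fin (m + 5)) (Fin (m + 5)) F :=
  1 + vecMulVec (dl m c) (dmu1 m s c) + vecMulVec (dm m c) (dmu2 m s c)

theorem dY_det (hc : c ≠ 0) : (dY m s c).det = 1 :=
  ydet _ _ _ _ (dmu1_dl m s c hc) (dmu2_dl m s c hc) (dmu2_dm m s c hc)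

/-- `Y` in `SL`. -/
def Ysl (hc : c ≠ 0) : Matrix.SpecialLinearGroup (Fin (m + 5)) F :=
  ⟨dY m s c, dY_det m s c hc⟩

/-- `U = v Y` in `SL`. -/
def Usl (hc : c ≠ 0) : Matrix.SpecialLinearGroup (Fin (m + 5)) F :=
  u1 (m + 5) F * Ysl m s c hc

theorem Ysl_coe (hc : c ≠ 0) : ((Ysl m s c hc : Matrix.SpecialLinearGroup (Fin (m + 5)) F) :
    Matrix (Fin (m + 5)) (Fin (m + 5)) F) = dY m s c := rfl

theorem Usl_coe (hc : c ≠ 0) : ((Usl m s c hc : Matrix.SpecialLinearGroup (Fin (m + 5)) F) :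
    Matrix (Fin (m + 5)) (Fin (m + 5)) F) = (1 + Nm (m + 5) F) * dY m s c := rfl

theorem dY_mulVec (x : Fin (m + 5) → F) :
    dY m s c *ᵥ x = x + (dmu1 m s c ⬝ᵥ x) • dl m c + (dmu2 m s c ⬝ᵥ x) • dm m c := by
  rw [dY, add_mulVec, add_mulVec, one_mulVec, vecMulVec_mulVec, vecMulVec_mulVec,
    op_smul_eq_smul, op_smul_eq_smul]

theorem Usl_mulVec (hc : c ≠ 0) (x : Fin (m + 5) → F) :
    (Usl m s c hc).1 *ᵥ x
      = (1 + Nm (m + 5) F) *ᵥ (x + (dmu1 m s c ⬝ᵥ x) • dl m c + (dmu2 m s c ⬝ᵥ x) • dm m c) := by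
  show ((1 + Nm (m + 5) F) * dY m s c) *ᵥ x = _
  rw [← mulVec_mulVec, dY_mulVec]

/-- `Y e_1 = q = c e_n`. -/
theorem dY_e0 : dY m s c *ᵥ bv (m + 5) F 0 = c • bv (m + 5) F (m + 4) := by
  rw [dY_mulVec, dmu1_e0, dmu2_e0, dm]
  module

theorem one_add_Nm_mulVec_bv_succ {n j : ℕ} (hj : j + 1 < n) :
    (1 + Nm n F) *ᵥ bv n F (j + 1) = bv n F (j + 1) + bv n F j := by
  rw [add_mulVec, one_mulVec, Nm_mulVec_bv_succ hj]

theorem one_add_Nm_mulVec_bv_zero {n : ℕ} :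
    (1 + Nm n F) *ᵥ bv n F 0 = bv n F 0 := by
  rw [add_mulVec, one_mulVec, Nm_mulVec_bv_zero, add_zero]

/-- `U e_1 = ℓ`. -/
theorem Usl_e0 (hc : c ≠ 0) : (Usl m s c hc).1 *ᵥ bv (m + 5) F 0 = dl m c := by
  show ((1 + Nm (m + 5) F) * dY m s c) *ᵥ bv (m + 5) F 0 = _
  rw [← mulVec_mulVec, dY_e0, mulVec_smul,
    one_add_Nm_mulVec_bv_succ (show (m + 3) + 1 < m + 5 by omega), dl]

/-- `Y κ = e_1`. -/
theorem dY_dk (hc : c ≠ 0) : dY m s c *ᵥ dk m s c = bv (m + 5) F 0 := by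
  rw [dY_mulVec, dmu1_dk m s c hc, dmu2_dk m s c hc, dk, dl, dm]
  module

/-- `U κ = e_1`. -/
theorem Usl_dk (hc : c ≠ 0) : (Usl m s c hc).1 *ᵥ dk m s c = bv (m + 5) F 0 := by
  show ((1 + Nm (m + 5) F) * dY m s c) *ᵥ dk m s c = _
  rw [← mulVec_mulVec, dY_dk m s c hc, one_add_Nm_mulVec_bv_zero]

/-- `Y² = 1 - s ℓ⊗μ2`. -/
theorem dY_sq (hc : c ≠ 0) :
    dY m s c * dY m s c = 1 + vecMulVec (dl m c) ((-s) • dmu2 m s c) :=
  ysq _ _ _ _ s (dmu1_dl m s c hc) (dmu2_dl m s c hc) (dmu1_dm m s c hc) (dmu2_dm m s c hc)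

/-- the functional of the transvection word. -/
def dpsi0 (hc : c ≠ 0) : Fin (m + 5) → F :=
  ((-s) • dmu2 m s c) ᵥ* (Usl m s c hc).1

/-- the word `u⁻¹ (v⁻¹ u)² u` is the transvection `1 + e_1 ⊗ ψ0`. -/
theorem tv_psi0 (hc : c ≠ 0) (H : Subgroup (Matrix.SpecialLinearGroup (Fin (m + 5)) F))
    (hv : u1 (m + 5) F ∈ H) (hU : Usl m s c hc ∈ H) :
    TV H (bv (m + 5) F 0) (dpsi0 m s c hc) := by
  have hY : Ysl m s c hc ∈ H := by
    have : Ysl m s c hc = (u1 (m + 5) F)⁻¹ * Usl m s c hc := by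
      rw [Usl, inv_mul_cancel_left]
    rw [this]
    exact H.mul_mem (H.inv_mem hv) hU
  have h1 : TV H (dl m c) ((-s) • dmu2 m s c) :=
    ⟨Ysl m s c hc * Ysl m s c hc, H.mul_mem hY hY, by
      rw [Matrix.SpecialLinearGroup.coe_mul, Ysl_coe, dY_sq m s c hc]⟩
  have h2 := h1.conj (H.inv_mem hU)
  rw [inv_inv] at h2
  have h3 : ((Usl m s c hc)⁻¹ : Matrix.SpecialLinearGroup (Fin (m + 5)) F).1 *ᵥ dl m c
      = bv (m + 5) F 0 := by
    rw [← Usl_e0 m s c hc, mulVec_mulVec, coe_inv_mul, one_mulVec]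
  rw [h3] at h2
  exact h2

/-- `γ1 = v ℓ`. -/
def dg1 : Fin (m + 5) → F :=
  c • (bv (m + 5) F (m + 4) + (2 : F) • bv (m + 5) F (m + 3) + bv (m + 5) F (m + 2))

/-- `γ2 = v mm`. -/
def dg2 : Fin (m + 5) → F :=
  bv (m + 5) F 0 - c • (bv (m + 5) F (m + 4) + bv (m + 5) F (m + 3))

theorem v_dl : (1 + Nm (m + 5) F) *ᵥ dl m c = dg1 m c := by
  rw [dl, dg1, mulVec_smul, mulVec_add,
    one_add_Nm_mulVec_bv_succ (show (m + 3) + 1 < m + 5 by omega),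
    one_add_Nm_mulVec_bv_succ (show (m + 2) + 1 < m + 5 by omega)]
  module

theorem v_dm : (1 + Nm (m + 5) F) *ᵥ dm m c = dg2 m c := by
  rw [dm, dg2, mulVec_sub, mulVec_smul, one_add_Nm_mulVec_bv_zero,
    one_add_Nm_mulVec_bv_succ (show (m + 3) + 1 < m + 5 by omega)]

/-- `U x = v x + μ1(x) γ1 + μ2(x) γ2`. -/
theorem Usl_mulVec' (hc : c ≠ 0) (x : Fin (m + 5) → F) :
    (Usl m s c hc).1 *ᵥ x
      = (1 + Nm (m + 5) F) *ᵥ x + (dmu1 m s c ⬝ᵥ x) • dg1 m c + (dmu2 m s c ⬝ᵥ x) • dg2 m c := by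
  rw [Usl_mulVec, mulVec_add, mulVec_add, mulVec_smul, mulVec_smul, v_dl, v_dm]

theorem dmu2_dg2 (hc : c ≠ 0) : dmu2 m s c ⬝ᵥ dg2 m c = -1 := by
  simp only [dg2, dotProduct_smul, dotProduct_add, dotProduct_sub, dmu2_bv]
  simp
  try field_simp
  try ring

theorem dmu1_dg2 (hc : c ≠ 0) : dmu1 m s c ⬝ᵥ dg2 m c = 2 := by
  simp only [dg2, dotProduct_smul, dotProduct_add, dotProduct_sub, dmu1_bv]
  simp
  try field_simp
  try ring

theorem dpsi0_dot (hc : c ≠ 0) (x : Fin (m + 5) → F) :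
    dpsi0 m s c hc ⬝ᵥ x = (-s) * (dmu2 m s c ⬝ᵥ ((Usl m s c hc).1 *ᵥ x)) := by
  rw [dpsi0, ← dotProduct_mulVec, smul_dotProduct, smul_eq_mul]

theorem dpsi0_dk (hc : c ≠ 0) : dpsi0 m s c hc ⬝ᵥ dk m s c = s := by
  rw [dpsi0_dot, Usl_dk, dmu2_e0]
  ring

end design

section designBig

/-! facts needing `n ≥ 6`: stated for `m + 1`. -/

variable (m : ℕ) (s c : F)

theorem dmu2_dg1 (hc : c ≠ 0) : dmu2 (m + 1) s c ⬝ᵥ dg1 (m + 1) c = -(9 + s) := by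
  simp only [dg1, dotProduct_smul, dotProduct_add, dotProduct_sub, dmu2_bv]
  simp
  try field_simp
  try ring

theorem dpsi0_bv1 (hc : c ≠ 0) :
    dpsi0 (m + 1) s c hc ⬝ᵥ bv (m + 1 + 5) F 1 = s * (10 + s) := by
  rw [dpsi0_dot, Usl_mulVec', one_add_Nm_mulVec_bv_succ (show 0 + 1 < m + 1 + 5 by omega)]
  simp only [dotProduct_add, dotProduct_smul, dmu2_dg1 m s c hc, dmu2_dg2 (m + 1) s c hc,
    dmu1_bv, dmu2_bv]
  simp
  ring

theorem dpsi0_bv2 (hc : c ≠ 0) :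
    dpsi0 (m + 1) s c hc ⬝ᵥ bv (m + 1 + 5) F 2 = 2 * s := by
  rw [dpsi0_dot, Usl_mulVec', one_add_Nm_mulVec_bv_succ (show 1 + 1 < m + 1 + 5 by omega)]
  simp only [dotProduct_add, dotProduct_smul, dmu2_dg1 m s c hc, dmu2_dg2 (m + 1) s c hc,
    dmu1_bv, dmu2_bv]
  simp
  ring

end designBig

end Cfsg.Agent.SLNG
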