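import Mathlib
import Cfsg.Agent.Helper7.Transvections

set_option autoImplicit false

/-!
Design-independent generic layer for the generation of `SL_n(F)` by a pair `v = 1 + N`, `u = v * y`
(`y` of rank two with `y ^ 2` a transvection).
-/

namespace Cfsg.Agent.SLNG

open Matrix

variable {F : Type*} [Field F] {n : ℕ}

/-- `HasM H A`: the explicit matrix `A` is (the matrix of) an element of the subgroup `H`. -/
def HasM (H : Subgroup (Matrix.SpecialLinearGroup (Fin n) F)) (A : Matrix (Fin n) (Fin n) F) : Prop :=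
  ∃ M ∈ H, (M : Matrix (Fin n) (Fin n) F) = A

variable {H : Subgroup (Matrix.SpecialLinearGroup (Fin n) F)}

theorem HasM.of_mem {g : Matrix.SpecialLinearGroup (Fin n) F} (hg : g ∈ H) :
    HasM H (g : Matrix (Fin n) (Fin n) F) := ⟨g, hg, rfl⟩

theorem HasM.mem {g : Matrix.SpecialLinearGroup (Fin n) F}
    (h : HasM H (g : Matrix (Fin n) (Fin n) F)) : g ∈ H := by
  obtain ⟨M, hM, hMg⟩ := h
  have : M = g := Subtype.ext hMg
  rwa [← this]

theorem HasM.one : HasM H (1 : Matrix (Fin n) (Fin n) F) := ⟨1, H.one_mem, rfl⟩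

theorem HasM.mul {A B : Matrix (Fin n) (Fin n) F} (hA : HasM H A) (hB : HasM H B) :
    HasM H (A * B) := by
  obtain ⟨M, hM, rfl⟩ := hA
  obtain ⟨N, hN, rfl⟩ := hB
  exact ⟨M * N, H.mul_mem hM hN, Matrix.SpecialLinearGroup.coe_mul M N⟩

theorem HasM.inv {A B : Matrix (Fin n) (Fin n) F} (hA : HasM H A) (h : A * B = 1) : HasM H B := by
  obtain ⟨M, hM, rfl⟩ := hA
  refine ⟨M⁻¹, H.inv_mem hM, ?_⟩
  have h1 : ((M⁻¹ : Matrix.SpecialLinearGroup (Fin n) F) : Matrix (Fin n) (Fin n) F) * (M : Matrix (Fin n) (Fin n) F) = 1 := by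
    rw [← Matrix.SpecialLinearGroup.coe_mul, inv_mul_cancel, Matrix.SpecialLinearGroup.coe_one]
  calc ((M⁻¹ : Matrix.SpecialLinearGroup (Fin n) F) : Matrix (Fin n) (Fin n) F)
      = ((M⁻¹ : Matrix.SpecialLinearGroup (Fin n) F) : Matrix (Fin n) (Fin n) F) * ((M : Matrix (Fin n) (Fin n) F) * B) := by
        rw [h, Matrix.mul_one]
    _ = B := by rw [← Matrix.mul_assoc, h1, Matrix.one_mul]

theorem HasM.congr {A B : Matrix (Fin n) (Fin n) F} (hA : HasM H A) (h : A = B) : HasM H B := h ▸ hA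

theorem HasM.conj {A P Q : Matrix (Fin n) (Fin n) F} (hA : HasM H A) (hP : HasM H P) (h : P * Q = 1) :
    HasM H (P * A * Q) := (hP.mul hA).mul (hP.inv h)

/-- conjugation the other way round. -/
theorem HasM.conj' {A P Q : Matrix (Fin n) (Fin n) F} (hA : HasM H A) (hP : HasM H P) (h : P * Q = 1) :
    HasM H (Q * A * P) := ((hP.inv h).mul hA).mul hP

theorem HasM.pow {A : Matrix (Fin n) (Fin n) F} (hA : HasM H A) (k : ℕ) : HasM H (A ^ k) := by
  induction k with
  | zero => rw [pow_zero]; exact HasM.one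
  | succ k ih => rw [pow_succ]; exact ih.mul hA

/-! ### transvections `1 + a ⊗ φ` -/

/-- the matrix `1 + a ⊗ φ` (a transvection when `φ ⬝ᵥ a = 0`). -/
def h1_TV (a φ : Fin n → F) : Matrix (Fin n) (Fin n) F := 1 + vecMulVec a φ

theorem h1_TV_zero (a : Fin n → F) : h1_TV a (0 : Fin n → F) = 1 := by
  simp [h1_TV]

theorem h1_TV_zero_left (φ : Fin n → F) : h1_TV (0 : Fin n → F) φ = 1 := by
  simp [h1_TV]

theorem h1_TV_mul (a φ ψ : Fin n → F) (h : φ ⬝ᵥ a = 0) :
    h1_TV a φ * h1_TV a ψ = h1_TV a (φ + ψ) := by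
  simp only [h1_TV, Matrix.add_mul, Matrix.mul_add, Matrix.one_mul, Matrix.mul_one,
    vecMulVec_mul_vecMulVec, h, zero_smul, vecMulVec_zero, vecMulVec_add]
  abel

theorem h1_TV_smul (a φ : Fin n → F) (t : F) : h1_TV (t • a) φ = h1_TV a (t • φ) := by
  simp only [h1_TV, smul_vecMulVec, vecMulVec_smul]

/-- conjugation of `1 + a ⊗ φ`. -/
theorem h1_TV_conj (P Q : Matrix (Fin n) (Fin n) F) (h : P * Q = 1) (a φ : Fin n → F) :
    P * h1_TV a φ * Q = h1_TV (P *ᵥ a) (φ ᵥ* Q) := by
  simp only [h1_TV, Matrix.mul_add, Matrix.add_mul, Matrix.mul_one, h, mul_vecMulVec, vecMulVec_mul]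

theorem h1_TV_mulVec (a φ x : Fin n → F) : h1_TV a φ *ᵥ x = x + (φ ⬝ᵥ x) • a := by
  simp only [h1_TV, Matrix.add_mulVec, Matrix.one_mulVec, vecMulVec_mulVec]
  congr 1
  ext i
  simp [mul_comm]

theorem h1_vecMul_TV (a φ x : Fin n → F) : x ᵥ* h1_TV a φ = x + (x ⬝ᵥ a) • φ := by
  simp only [h1_TV, Matrix.vecMul_add, Matrix.vecMul_one, vecMul_vecMulVec]

theorem h1_TV_det (a φ : Fin n → F) (h : φ ⬝ᵥ a = 0) : (h1_TV a φ).det = 1 := by
  have : vecMulVec a φ = replicateCol Unit a * replicateRow Unit φ := by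
    ext i j
    simp [vecMulVec_apply, Matrix.mul_apply]
  rw [h1_TV, this, det_one_add_replicateCol_mul_replicateRow, h, add_zero]

/-- commutator rule: `[1 + a ⊗ ψ, 1 + b ⊗ χ] = 1 + (ψ·b) a ⊗ χ` when `χ·a = 0`, `χ·b = 0`
(written without inverses). -/
theorem h1_TV_comm (a b ψ χ : Fin n → F) (h1 : χ ⬝ᵥ a = 0) (h2 : χ ⬝ᵥ b = 0) :
    h1_TV a ψ * h1_TV b χ = h1_TV a ((ψ ⬝ᵥ b) • χ) * (h1_TV b χ * h1_TV a ψ) := by
  simp only [h1_TV, Matrix.add_mul, Matrix.mul_add, Matrix.one_mul, Matrix.mul_one,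
    vecMulVec_mul_vecMulVec, h1, h2, zero_smul, vecMulVec_zero, vecMulVec_smul,
    Matrix.smul_mul, add_zero, smul_zero]
  abel

/-! ### the Jordan block `N` and its shifts -/

/-- the nilpotent Jordan block: `N e_j = e_{j-1}` (ones on the superdiagonal). -/
def h1_N (F : Type*) [Field F] (n : ℕ) : Matrix (Fin n) (Fin n) F :=
  Matrix.of fun i j => if j.val = i.val + 1 then 1 else 0

theorem h1_N_apply (i j : Fin n) : h1_N F n i j = if j.val = i.val + 1 then 1 else 0 := rfl

theorem h1_vecMul_N (ψ : Fin n → F) (j : Fin n) :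
    (ψ ᵥ* h1_N F n) j = if h : 0 < j.val then ψ ⟨j.val - 1, by omega⟩ else 0 := by
  simp only [Matrix.vecMul, dotProduct, h1_N_apply]
  split_ifs with h
  · rw [Finset.sum_eq_single (⟨j.val - 1, by omega⟩ : Fin n)]
    · have : j.val = j.val - 1 + 1 := by omega
      simp [← this]
    · intro b _ hb
      have : ¬ j.val = b.val + 1 := by
        intro hj
        apply hb
        apply Fin.ext
        simp only
        omega
      simp [this]
    · intro hh
      exact absurd (Finset.mem_univ _) hh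
  · apply Finset.sum_eq_zero
    intro b _
    have : ¬ j.val = b.val + 1 := by omega
    simp [this]

theorem h1_N_mulVec (x : Fin n → F) (i : Fin n) :
    (h1_N F n *ᵥ x) i = if h : i.val + 1 < n then x ⟨i.val + 1, h⟩ else 0 := by
  simp only [Matrix.mulVec, dotProduct, h1_N_apply]
  split_ifs with h
  · rw [Finset.sum_eq_single (⟨i.val + 1, h⟩ : Fin n)]
    · simp
    · intro b _ hb
      have : ¬ b.val = i.val + 1 := by
        intro hj
        apply hb
        apply Fin.ext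
        simp only
        omega
      simp [this]
    · intro hh
      exact absurd (Finset.mem_univ _) hh
  · apply Finset.sum_eq_zero
    intro b _
    have : ¬ b.val = i.val + 1 := by
      have := b.isLt
      omega
    simp [this]

theorem h1_vecMul_N_pow (ψ : Fin n → F) (k : ℕ) (j : Fin n) :
    (ψ ᵥ* (h1_N F n) ^ k) j = if h : k ≤ j.val then ψ ⟨j.val - k, by omega⟩ else 0 := by
  induction k generalizing j with
  | zero => simp
  | succ k ih =>
    rw [pow_succ, ← Matrix.vecMul_vecMul, h1_vecMul_N]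
    by_cases h0 : 0 < j.val
    · rw [dif_pos h0, ih]
      by_cases hk : k + 1 ≤ j.val
      · have hk' : k ≤ j.val - 1 := by omega
        rw [dif_pos hk]
        simp only [hk', dite_true]
        congr 1
        apply Fin.ext
        simp only
        omega
      · have hk' : ¬ k ≤ j.val - 1 := by omega
        rw [dif_neg hk]
        simp only [hk', dite_false]
    · rw [dif_neg h0, dif_neg (by omega)]

theorem h1_N_pow_apply (k : ℕ) (i j : Fin n) :
    ((h1_N F n) ^ k) i j = if j.val = i.val + k then 1 else 0 := by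
  have h := h1_vecMul_N_pow (F := F) (Pi.single i 1) k j
  rw [Matrix.single_one_vecMul] at h
  change ((h1_N F n) ^ k) i j = _ at h
  rw [h]
  by_cases hk : k ≤ j.val
  · rw [dif_pos hk]
    by_cases hj : j.val = i.val + k
    · rw [if_pos hj]
      have : (⟨j.val - k, by omega⟩ : Fin n) = i := by
        apply Fin.ext
        simp only
        omega
      rw [this, Pi.single_eq_same]
    · rw [if_neg hj]
      have : (⟨j.val - k, by omega⟩ : Fin n) ≠ i := by
        intro h
        apply hj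
        have := congrArg Fin.val h
        simp only at this
        omega
      rw [Pi.single_eq_of_ne this]
  · rw [dif_neg hk, if_neg (by omega)]

theorem h1_N_pow_n : (h1_N F n) ^ n = 0 := by
  ext i j
  rw [h1_N_pow_apply, if_neg (by have := j.isLt; omega)]
  rfl

theorem h1_N_isNilpotent : IsNilpotent (h1_N F n) := ⟨n, h1_N_pow_n⟩

theorem h1_N_pow_pred_ne (hn : 0 < n) : (h1_N F n) ^ (n - 1) ≠ 0 := by
  intro h
  have := congrFun (congrFun h ⟨0, hn⟩) ⟨n - 1, by omega⟩
  rw [h1_N_pow_apply, if_pos (by simp)] at this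
  exact one_ne_zero this

/-- reversal intertwines the two shifts. -/
theorem h1_rev_shift (y : Fin n → F) :
    (y ᵥ* h1_N F n) ∘ Fin.rev = h1_N F n *ᵥ (y ∘ Fin.rev) := by
  ext i
  rw [Function.comp_apply, h1_vecMul_N, h1_N_mulVec]
  by_cases h : i.val + 1 < n
  · have h0 : 0 < (Fin.rev i).val := by rw [Fin.val_rev]; omega
    rw [dif_pos h0, dif_pos h, Function.comp_apply]
    congr 1
  · have h0 : ¬ 0 < (Fin.rev i).val := by rw [Fin.val_rev]; omega
    rw [dif_neg h0, dif_neg h]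

/-! ### triangular induction -/

/-- row vectors, right shift: a family closed under `+`, scalars and `ψ ↦ ψ N` which contains a
vector `w` with `w_j = 0` for `j < k`, `w_k ≠ 0` contains every `x` with `x_j = 0` for `j < k`. -/
theorem h1_tri_row (P : (Fin n → F) → Prop) (hP0 : P 0) (hadd : ∀ x y, P x → P y → P (x + y))
    (hsmul : ∀ (t : F) x, P x → P (t • x)) (hshift : ∀ x, P x → P (x ᵥ* h1_N F n))
    (w : Fin n → F) (hw : P w) (k : ℕ) (hk : k < n)
    (hwlow : ∀ j : Fin n, j.val < k → w j = 0) (hwk : w ⟨k, hk⟩ ≠ 0) :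
    ∀ x : Fin n → F, (∀ j : Fin n, j.val < k → x j = 0) → P x := by
  have hpow : ∀ (r : ℕ) x, P x → P (x ᵥ* (h1_N F n) ^ r) := by
    intro r
    induction r with
    | zero => intro x hx; simpa using hx
    | succ r ih =>
      intro x hx
      rw [pow_succ, ← Matrix.vecMul_vecMul]
      exact hshift _ (ih x hx)
  have key : ∀ d : ℕ, ∀ x : Fin n → F, (∀ j : Fin n, j.val + d < n → x j = 0) →
      (∀ j : Fin n, j.val < k → x j = 0) → P x := by
    intro d
    induction d with
    | zero =>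
      intro x hx _
      have : x = 0 := by
        ext j
        exact hx j (by simp)
      rw [this]; exact hP0
    | succ d ih =>
      intro x hx hxk
      by_cases hd : n ≤ d
      · exact ih x (fun j hj => by omega) hxk
      · -- m = n - 1 - d
        have hm : n - 1 - d < n := by omega
        by_cases hmk : n - 1 - d < k
        · refine ih x (fun j hj => ?_) hxk
          by_cases hj' : j.val + (d + 1) < n
          · exact hx j hj'
          · exact hxk j (by omega)
        · -- k ≤ m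
          set m := n - 1 - d with hmdef
          set t : F := x ⟨m, hm⟩ / w ⟨k, hk⟩ with ht
          set w' : Fin n → F := w ᵥ* (h1_N F n) ^ (m - k) with hw'
          have hPw' : P w' := hpow _ _ hw
          have hw'j : ∀ j : Fin n, w' j = if h : m - k ≤ j.val then w ⟨j.val - (m - k), by omega⟩ else 0 :=
            fun j => h1_vecMul_N_pow w (m - k) j
          have hx' : P (x + (-t) • w') := by
            refine ih _ (fun j hj => ?_) (fun j hj => ?_)
            · -- j ≤ m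
              rw [Pi.add_apply, Pi.smul_apply, smul_eq_mul, hw'j]
              by_cases hjm : j.val = m
              · have hj1 : m - k ≤ j.val := by omega
                rw [dif_pos hj1]
                have e1 : (⟨j.val - (m - k), by omega⟩ : Fin n) = ⟨k, hk⟩ := by
                  apply Fin.ext; simp only; omega
                have e2 : j = ⟨m, hm⟩ := Fin.ext hjm
                rw [e1, e2, ht]
                field_simp
                ring
              · have hjlt : j.val + (d + 1) < n := by omega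
                rw [hx j hjlt]
                by_cases hj1 : m - k ≤ j.val
                · rw [dif_pos hj1, hwlow _ (by simp only; omega)]
                  ring
                · rw [dif_neg hj1]; ring
            · rw [Pi.add_apply, Pi.smul_apply, smul_eq_mul, hw'j, hxk j hj]
              by_cases hj1 : m - k ≤ j.val
              · rw [dif_pos hj1, hwlow _ (by simp only; omega)]
                ring
              · rw [dif_neg hj1]; ring
          have : x = (x + (-t) • w') + t • w' := by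
            rw [neg_smul]; abel
          rw [this]
          exact hadd _ _ hx' (hsmul _ _ hPw')
  intro x hx
  exact key n x (fun j hj => by omega) hx

/-- column vectors, up shift: a family closed under `+`, scalars and `x ↦ N x` which contains a
vector with nonzero last coordinate is everything. -/
theorem h1_tri_col (P : (Fin n → F) → Prop) (hP0 : P 0) (hadd : ∀ x y, P x → P y → P (x + y))
    (hsmul : ∀ (t : F) x, P x → P (t • x)) (hshift : ∀ x, P x → P (h1_N F n *ᵥ x))
    (w : Fin n → F) (hw : P w) (iL : Fin n) (hL : iL.val + 1 = n) (hwL : w iL ≠ 0) :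
    ∀ x : Fin n → F, P x := by
  have hrr : ∀ x : Fin n → F, (x ∘ Fin.rev) ∘ Fin.rev = x := by
    intro x; ext i; simp
  have hn : 0 < n := by omega
  have h := h1_tri_row (fun y => P (y ∘ Fin.rev)) (by simpa using hP0)
    (fun x y hx hy => by
      have : (x + y) ∘ Fin.rev = x ∘ Fin.rev + y ∘ Fin.rev := rfl
      rw [this]; exact hadd _ _ hx hy)
    (fun t x hx => by
      have : (t • x) ∘ Fin.rev = t • (x ∘ Fin.rev) := rfl
      rw [this]; exact hsmul _ _ hx)
    (fun x hx => by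
      rw [h1_rev_shift]; exact hshift _ hx)
    (w ∘ Fin.rev) (by rw [hrr]; exact hw) 0 hn (fun j hj => by omega)
    (by
      have : Fin.rev (⟨0, hn⟩ : Fin n) = iL := by
        apply Fin.ext
        rw [Fin.val_rev]
        simp only
        omega
      rw [Function.comp_apply, this]; exact hwL)
  intro x
  have := h (x ∘ Fin.rev) (fun j hj => by omega)
  rwa [hrr] at this

/-! ### Lemma A: the axes of the transvections of `H` with centre `e_0` -/

theorem h1_N_mulVec_single0 (i0 : Fin n) (h0 : i0.val = 0) :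
    h1_N F n *ᵥ (Pi.single i0 1 : Fin n → F) = 0 := by
  ext i
  rw [h1_N_mulVec]
  by_cases h : i.val + 1 < n
  · rw [dif_pos h, Pi.single_eq_of_ne]
    · rfl
    · intro hh
      have := congrArg Fin.val hh
      simp only at this
      omega
  · rw [dif_neg h]; rfl

theorem h1_vecMul_N_zero (ψ : Fin n → F) (i0 : Fin n) (h0 : i0.val = 0) :
    (ψ ᵥ* h1_N F n) i0 = 0 := by
  rw [h1_vecMul_N, dif_neg (by omega)]

/-- if `v = 1 + N ∈ H` then the axes `ψ` (with `ψ_0 = 0`) of the transvections `1 + e_0 ⊗ ψ ∈ H`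
are stable under `ψ ↦ ψ N`. -/
theorem h1_axes_shift (i0 : Fin n) (h0 : i0.val = 0) (hv : HasM H (1 + h1_N F n))
    (ψ : Fin n → F) (hψ : HasM H (h1_TV (Pi.single i0 1) ψ)) (hψ0 : ψ i0 = 0) :
    HasM H (h1_TV (Pi.single i0 1) (ψ ᵥ* h1_N F n)) := by
  obtain ⟨V, hVH, hV⟩ := hv
  have hVinv : ((V⁻¹ : Matrix.SpecialLinearGroup (Fin n) F) : Matrix (Fin n) (Fin n) F) * (1 + h1_N F n) = 1 := by
    rw [← hV, ← Matrix.SpecialLinearGroup.coe_mul, inv_mul_cancel, Matrix.SpecialLinearGroup.coe_one]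
  have hVinv' : (1 + h1_N F n) * ((V⁻¹ : Matrix.SpecialLinearGroup (Fin n) F) : Matrix (Fin n) (Fin n) F) = 1 := by
    rw [← hV, ← Matrix.SpecialLinearGroup.coe_mul, mul_inv_cancel, Matrix.SpecialLinearGroup.coe_one]
  have hve : (1 + h1_N F n) *ᵥ (Pi.single i0 1 : Fin n → F) = Pi.single i0 1 := by
    rw [Matrix.add_mulVec, Matrix.one_mulVec, h1_N_mulVec_single0 i0 h0, add_zero]
  have hVe : ((V⁻¹ : Matrix.SpecialLinearGroup (Fin n) F) : Matrix (Fin n) (Fin n) F) *ᵥ (Pi.single i0 1 : Fin n → F)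
      = Pi.single i0 1 := by
    conv_lhs => rw [← hve]
    rw [Matrix.mulVec_mulVec, hVinv, Matrix.one_mulVec]
  have h1 : HasM H (((V⁻¹ : Matrix.SpecialLinearGroup (Fin n) F) : Matrix (Fin n) (Fin n) F) *
      h1_TV (Pi.single i0 1) ψ * (1 + h1_N F n)) :=
    ((HasM.of_mem (H.inv_mem hVH)).mul hψ).mul ⟨V, hVH, hV⟩
  rw [h1_TV_conj _ _ hVinv, hVe, Matrix.vecMul_add, Matrix.vecMul_one] at h1
  -- now subtract `ψ`
  have h2 : HasM H (h1_TV (Pi.single i0 1) (-ψ)) := by
    refine hψ.inv ?_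
    rw [h1_TV_mul _ _ _ (by simp [hψ0]), add_neg_cancel, h1_TV_zero]
  have h3 := h1.mul h2
  rw [h1_TV_mul _ _ _ (by
    rw [add_dotProduct]
    simp [hψ0, h1_vecMul_N_zero ψ i0 h0])] at h3
  refine h3.congr ?_
  congr 1
  abel

/-- **Lemma A** (general form): if the axes are moreover stable under all scalars, then every
`ψ` with `ψ_0 = 0` is an axis. -/
theorem h1_psi_full_of_smul (i0 i1 : Fin n) (h0 : i0.val = 0) (h1 : i1.val = 1)
    (hv : HasM H (1 + h1_N F n)) (ψ0 : Fin n → F) (hψ00 : ψ0 i0 = 0) (hψ01 : ψ0 i1 ≠ 0)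
    (hψ0 : HasM H (h1_TV (Pi.single i0 1) ψ0))
    (hsc : ∀ (t : F) (ψ : Fin n → F), ψ i0 = 0 → HasM H (h1_TV (Pi.single i0 1) ψ) →
      HasM H (h1_TV (Pi.single i0 1) (t • ψ))) :
    ∀ ψ : Fin n → F, ψ i0 = 0 → HasM H (h1_TV (Pi.single i0 1) ψ) := by
  have hn : 1 < n := by have := i1.isLt; omega
  have hi0 : i0 = ⟨0, by omega⟩ := Fin.ext h0
  have hi1 : i1 = ⟨1, hn⟩ := Fin.ext h1
  have key := h1_tri_row (fun ψ : Fin n → F => ψ i0 = 0 ∧ HasM H (h1_TV (Pi.single i0 1) ψ))
    ⟨rfl, by rw [h1_TV_zero]; exact HasM.one⟩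
    (fun x y hx hy => ⟨by rw [Pi.add_apply, hx.1, hy.1, add_zero], by
      rw [← h1_TV_mul _ _ _ (by simp [hx.1])]; exact hx.2.mul hy.2⟩)
    (fun t x hx => ⟨by rw [Pi.smul_apply, hx.1, smul_zero], hsc t x hx.1 hx.2⟩)
    (fun x hx => ⟨h1_vecMul_N_zero x i0 h0, h1_axes_shift i0 h0 hv x hx.2 hx.1⟩)
    ψ0 ⟨hψ00, hψ0⟩ 1 hn
    (fun j hj => by
      have : j = i0 := Fin.ext (by omega)
      rw [this]; exact hψ00)
    (by rw [← hi1]; exact hψ01)
  intro ψ hψ
  exact (key ψ (fun j hj => by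
    have : j = i0 := Fin.ext (by omega)
    rw [this]; exact hψ)).2

/-- over a field of prime cardinality every element is a natural number. -/
theorem h1_prime_field_nat [Fintype F] (hp : (Fintype.card F).Prime) (t : F) : ∃ m : ℕ, t = (m : F) := by
  have : Fact (Fintype.card F).Prime := ⟨hp⟩
  let e := ZMod.ringEquivOfPrime F hp rfl
  refine ⟨(e.symm t).val, ?_⟩
  have : t = e (e.symm t) := (e.apply_symm_apply t).symm
  conv_lhs => rw [this]
  conv_lhs => rw [← ZMod.natCast_zmod_val (e.symm t)]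
  rw [map_natCast]

/-- **Lemma A** over a prime field. -/
theorem h1_psi_full_prime [Fintype F] (hp : (Fintype.card F).Prime) (i0 i1 : Fin n) (h0 : i0.val = 0)
    (h1 : i1.val = 1)
    (hv : HasM H (1 + h1_N F n)) (ψ0 : Fin n → F) (hψ00 : ψ0 i0 = 0) (hψ01 : ψ0 i1 ≠ 0)
    (hψ0 : HasM H (h1_TV (Pi.single i0 1) ψ0)) :
    ∀ ψ : Fin n → F, ψ i0 = 0 → HasM H (h1_TV (Pi.single i0 1) ψ) := by
  refine h1_psi_full_of_smul i0 i1 h0 h1 hv ψ0 hψ00 hψ01 hψ0 ?_
  intro t ψ hψ hH
  obtain ⟨m, rfl⟩ := h1_prime_field_nat hp t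
  induction m with
  | zero => simp only [Nat.cast_zero, zero_smul, h1_TV_zero]; exact HasM.one
  | succ m ih =>
    have : ((m + 1 : ℕ) : F) • ψ = (m : F) • ψ + ψ := by
      rw [Nat.cast_succ, add_smul, one_smul]
    rw [this, ← h1_TV_mul _ _ _ (by simp [hψ])]
    exact ih.mul hH

/-! ### Lemma B: all transvections with centre `e_0` plus a cyclic image of `e_0` give `⊤` -/

/-- `W H a`: every transvection with centre `a` lies in `H`. -/
def h1_W (H : Subgroup (Matrix.SpecialLinearGroup (Fin n) F)) (a : Fin n → F) : Prop :=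
  ∀ φ : Fin n → F, φ ⬝ᵥ a = 0 → HasM H (h1_TV a φ)

theorem h1_W_zero : h1_W H (0 : Fin n → F) := by
  intro φ _
  rw [h1_TV_zero_left]; exact HasM.one

theorem h1_W_smul (t : F) (a : Fin n → F) (ha : h1_W H a) : h1_W H (t • a) := by
  intro φ hφ
  rw [h1_TV_smul]
  by_cases ht : t = 0
  · subst ht
    rw [zero_smul, h1_TV_zero]; exact HasM.one
  · refine ha _ ?_
    rw [dotProduct_smul, smul_dotProduct] at *
    rcases smul_eq_zero.mp hφ with h | h
    · exact absurd h ht
    · rw [h, smul_zero]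

theorem h1_W_map (a : Fin n → F) (ha : h1_W H a) (A : Matrix (Fin n) (Fin n) F) (hA : HasM H A) :
    h1_W H (A *ᵥ a) := by
  intro φ hφ
  obtain ⟨M, hM, rfl⟩ := hA
  have hMinv : (M : Matrix (Fin n) (Fin n) F) * ((M⁻¹ : Matrix.SpecialLinearGroup (Fin n) F) : Matrix (Fin n) (Fin n) F) = 1 := by
    rw [← Matrix.SpecialLinearGroup.coe_mul, mul_inv_cancel, Matrix.SpecialLinearGroup.coe_one]
  have hMinv' : ((M⁻¹ : Matrix.SpecialLinearGroup (Fin n) F) : Matrix (Fin n) (Fin n) F) * (M : Matrix (Fin n) (Fin n) F) = 1 := by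
    rw [← Matrix.SpecialLinearGroup.coe_mul, inv_mul_cancel, Matrix.SpecialLinearGroup.coe_one]
  have h1 : HasM H (h1_TV a (φ ᵥ* (M : Matrix (Fin n) (Fin n) F))) := by
    refine ha _ ?_
    rw [← Matrix.dotProduct_mulVec]; exact hφ
  have h2 := h1.conj (HasM.of_mem hM) hMinv
  rw [h1_TV_conj _ _ hMinv, Matrix.vecMul_vecMul, hMinv, Matrix.vecMul_one] at h2
  exact h2

theorem h1_W_add (x y : Fin n → F) (hx : h1_W H x) (hy : h1_W H y) : h1_W H (x + y) := by
  by_cases hdep : ∀ i j, x i * y j = x j * y i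
  · -- dependent
    by_cases hx0 : x = 0
    · rw [hx0, zero_add]; exact hy
    · obtain ⟨i, hi⟩ : ∃ i, x i ≠ 0 := by
        by_contra hh
        push Not at hh
        exact hx0 (funext hh)
      have hyx : y = (y i / x i) • x := by
        ext j
        rw [Pi.smul_apply, smul_eq_mul]
        field_simp
        rw [mul_comm, hdep i j, mul_comm]
      have : x + y = (1 + y i / x i) • x := by
        rw [add_smul, one_smul, ← hyx]
      rw [this]
      exact h1_W_smul _ _ hx
  · push Not at hdep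
    obtain ⟨i, j, hij⟩ := hdep
    -- φ with φ·x = 0, φ·y = 1
    set D : F := x i * y j - x j * y i with hD
    have hD0 : D ≠ 0 := sub_ne_zero.mpr hij
    set φ : Fin n → F := (D⁻¹ * x i) • Pi.single j 1 + (-(D⁻¹ * x j)) • Pi.single i 1 with hφ
    have hφx : φ ⬝ᵥ x = 0 := by
      simp only [hφ, add_dotProduct, smul_dotProduct, single_dotProduct, smul_eq_mul, one_mul]
      ring
    have hφy : φ ⬝ᵥ y = 1 := by
      simp only [hφ, add_dotProduct, smul_dotProduct, single_dotProduct, smul_eq_mul, one_mul]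
      field_simp
      rw [hD]; ring
    have h1 := h1_W_map y hy _ (hx φ hφx)
    rw [h1_TV_mulVec, hφy, one_smul, add_comm] at h1
    exact h1

/-- **Lemma B**: if `H` contains `v = 1 + N`, all transvections with centre `e_0`, and an element
`g` whose first column has a nonzero last entry, then `H = ⊤`. -/
theorem h1_top_of_centre (i0 iL : Fin n) (hL : iL.val + 1 = n) (hn : 2 ≤ n)
    (hv : HasM H (1 + h1_N F n))
    (hT : ∀ ψ : Fin n → F, ψ i0 = 0 → HasM H (h1_TV (Pi.single i0 1) ψ))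
    (g : Matrix (Fin n) (Fin n) F) (hg : HasM H g) (hgL : g iL i0 ≠ 0) : H = ⊤ := by
  have hW0 : h1_W H (Pi.single i0 1 : Fin n → F) := by
    intro φ hφ
    refine hT φ ?_
    simpa using hφ
  have hall : ∀ x : Fin n → F, h1_W H x := by
    refine h1_tri_col (h1_W H) h1_W_zero h1_W_add h1_W_smul ?_ (g *ᵥ Pi.single i0 1)
      (h1_W_map _ hW0 g hg) iL hL ?_
    · intro x hx
      have h1 := h1_W_map x hx _ hv
      rw [Matrix.add_mulVec, Matrix.one_mulVec] at h1
      have h2 := h1_W_add _ _ h1 (h1_W_smul (-1) x hx)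
      have : x + h1_N F n *ᵥ x + (-1 : F) • x = h1_N F n *ᵥ x := by
        rw [neg_smul, one_smul]; abel
      rwa [this] at h2
    · simpa using hgL
  have : Nontrivial (Fin n) := Fin.nontrivial_iff_two_le.mpr hn
  rw [eq_top_iff]
  intro M _
  refine Cfsg.Agent.Helper7.Transv.transvection_induction (fun M => M ∈ H) ?_
    (fun A B hA hB => H.mul_mem hA hB) M
  intro i j hij a
  apply HasM.mem
  rw [Matrix.SpecialLinearGroup.transvection_coe]
  have : (1 : Matrix (Fin n) (Fin n) F) + Matrix.single i j a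
      = h1_TV (Pi.single i a) (Pi.single j 1) := by
    rw [h1_TV]
    congr 1
    ext p r
    simp only [Matrix.single_apply, vecMulVec_apply, Pi.single_apply]
    by_cases hp : p = i
    · by_cases hr : r = j
      · simp [hp, hr]
      · have hr' : ¬ j = r := fun h => hr h.symm
        simp [hp, hr, hr']
    · have hp' : ¬ i = p := fun h => hp h.symm
      simp [hp, hp']
  rw [this]
  refine hall _ _ ?_
  rw [single_dotProduct, one_mul, Pi.single_eq_of_ne hij.symm]

/-! ### cancellation in the `HasM` calculus -/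

theorem HasM.of_mul_left {A B : Matrix (Fin n) (Fin n) F} (hA : HasM H A) (hAB : HasM H (A * B)) :
    HasM H B := by
  obtain ⟨M, hM, rfl⟩ := hA
  obtain ⟨K, hK, hKe⟩ := hAB
  refine ⟨M⁻¹ * K, H.mul_mem (H.inv_mem hM) hK, ?_⟩
  have h1 : ((M⁻¹ : Matrix.SpecialLinearGroup (Fin n) F) : Matrix (Fin n) (Fin n) F) * (M : Matrix (Fin n) (Fin n) F) = 1 := by
    rw [← Matrix.SpecialLinearGroup.coe_mul, inv_mul_cancel, Matrix.SpecialLinearGroup.coe_one]
  rw [Matrix.SpecialLinearGroup.coe_mul, hKe, ← Matrix.mul_assoc, h1, Matrix.one_mul]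

theorem HasM.of_mul_right {A B : Matrix (Fin n) (Fin n) F} (hB : HasM H B) (hAB : HasM H (A * B)) :
    HasM H A := by
  obtain ⟨M, hM, rfl⟩ := hB
  obtain ⟨K, hK, hKe⟩ := hAB
  refine ⟨K * M⁻¹, H.mul_mem hK (H.inv_mem hM), ?_⟩
  have h1 : (M : Matrix (Fin n) (Fin n) F) * ((M⁻¹ : Matrix.SpecialLinearGroup (Fin n) F) : Matrix (Fin n) (Fin n) F) = 1 := by
    rw [← Matrix.SpecialLinearGroup.coe_mul, mul_inv_cancel, Matrix.SpecialLinearGroup.coe_one]
  rw [Matrix.SpecialLinearGroup.coe_mul, hKe, Matrix.mul_assoc, h1, Matrix.mul_one]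

/-- commutator rule in `HasM` form. -/
theorem h1_TV_comm_has (a b ψ χ : Fin n → F) (h1 : χ ⬝ᵥ a = 0) (h2 : χ ⬝ᵥ b = 0)
    (hA : HasM H (h1_TV a ψ)) (hB : HasM H (h1_TV b χ)) :
    HasM H (h1_TV a ((ψ ⬝ᵥ b) • χ)) := by
  have h := hA.mul hB
  rw [h1_TV_comm a b ψ χ h1 h2] at h
  exact HasM.of_mul_right (hB.mul hA) h

/-! ### (C): the rank-two element `y` with `y ^ 2` a transvection, and the word -/

/-- `y = 1 + l ⊗ μ₁ + m ⊗ μ₂`. -/
def h1_Y (l m μ1 μ2 : Fin n → F) : Matrix (Fin n) (Fin n) F :=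
  1 + vecMulVec l μ1 + vecMulVec m μ2

theorem h1_Y_sq (l m μ1 μ2 : Fin n → F) (s : F) (h11 : μ1 ⬝ᵥ l = -2) (h21 : μ2 ⬝ᵥ l = 0)
    (h12 : μ1 ⬝ᵥ m = -s) (h22 : μ2 ⬝ᵥ m = -2) :
    h1_Y l m μ1 μ2 * h1_Y l m μ1 μ2 = h1_TV l ((-s) • μ2) := by
  simp only [h1_Y, h1_TV, Matrix.add_mul, Matrix.mul_add, Matrix.one_mul, Matrix.mul_one,
    vecMulVec_mul_vecMulVec, h11, h21, h12, h22, zero_smul, vecMulVec_zero, vecMulVec_smul]
  module

theorem h1_Y_det (l m μ1 μ2 : Fin n → F) (s : F) (h11 : μ1 ⬝ᵥ l = -2) (h21 : μ2 ⬝ᵥ l = 0)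
    (h12 : μ1 ⬝ᵥ m = -s) (h22 : μ2 ⬝ᵥ m = -2) : (h1_Y l m μ1 μ2).det = 1 := by
  set U : Matrix (Fin n) (Fin 2) F := Matrix.of fun i k => ![l i, m i] k with hU
  set V : Matrix (Fin 2) (Fin n) F := Matrix.of fun k j => ![μ1 j, μ2 j] k with hV
  have hUV : h1_Y l m μ1 μ2 = 1 + U * V := by
    ext i j
    simp [h1_Y, hU, hV, Matrix.mul_apply, Fin.sum_univ_two, vecMulVec_apply, Matrix.one_apply, add_assoc]
  have hVU : V * U = !![μ1 ⬝ᵥ l, μ1 ⬝ᵥ m; μ2 ⬝ᵥ l, μ2 ⬝ᵥ m] := by
    ext a b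
    fin_cases a <;> fin_cases b <;> simp [hU, hV, Matrix.mul_apply, dotProduct]
  rw [hUV, det_one_add_mul_comm, hVU, h11, h21, h12, h22, Matrix.det_fin_two]
  simp only [Matrix.add_apply, Matrix.one_apply_eq, Matrix.of_apply, Matrix.cons_val', Matrix.cons_val_zero,
    Matrix.cons_val_one, Matrix.one_apply_ne, ne_eq, one_ne_zero, not_false_eq_true, zero_ne_one]
  simp
  ring

/-- **the word**: with `u = v y`, `u e_0 = l`, the transvection
`u⁻¹ y² u = 1 + e_0 ⊗ (-s • μ₂ u)` lies in `⟨u, v⟩`. -/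
theorem h1_word (i0 : Fin n) (l m μ1 μ2 : Fin n → F) (s : F) (h11 : μ1 ⬝ᵥ l = -2) (h21 : μ2 ⬝ᵥ l = 0)
    (h12 : μ1 ⬝ᵥ m = -s) (h22 : μ2 ⬝ᵥ m = -2) (U V : Matrix (Fin n) (Fin n) F)
    (hU : HasM H U) (hV : HasM H V) (hUV : U = V * h1_Y l m μ1 μ2)
    (hUe : U *ᵥ (Pi.single i0 1) = l) :
    HasM H (h1_TV (Pi.single i0 1) ((-s) • (μ2 ᵥ* U))) := by
  have hY : HasM H (h1_Y l m μ1 μ2) := HasM.of_mul_left hV (hUV ▸ hU)
  have hYY := (hY.mul hY).mul hU
  rw [h1_Y_sq l m μ1 μ2 s h11 h21 h12 h22] at hYY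
  refine HasM.of_mul_left hU (hYY.congr ?_)
  simp only [h1_TV, Matrix.add_mul, Matrix.mul_add, Matrix.one_mul, Matrix.mul_one, vecMulVec_mul,
    mul_vecMulVec, hUe, Matrix.smul_vecMul]

theorem h1_word_axis0 (i0 : Fin n) (l μ2 : Fin n → F) (s : F) (h21 : μ2 ⬝ᵥ l = 0)
    (U : Matrix (Fin n) (Fin n) F) (hUe : U *ᵥ (Pi.single i0 1) = l) :
    ((-s) • (μ2 ᵥ* U)) i0 = 0 := by
  have : (μ2 ᵥ* U) i0 = μ2 ⬝ᵥ (U *ᵥ Pi.single i0 1) := by
    rw [Matrix.dotProduct_mulVec, dotProduct_single, mul_one]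
  rw [Pi.smul_apply, this, hUe, h21, smul_zero]

/-! ### scalars (for non-prime fields) -/

/-- the scalars `t` under which the set of axes is stable. -/
def h1_Good (H : Subgroup (Matrix.SpecialLinearGroup (Fin n) F)) (i0 : Fin n) (t : F) : Prop :=
  ∀ ψ : Fin n → F, ψ i0 = 0 → HasM H (h1_TV (Pi.single i0 1) ψ) →
    HasM H (h1_TV (Pi.single i0 1) (t • ψ))

theorem h1_Good_zero (i0 : Fin n) : h1_Good H i0 0 := by
  intro ψ _ _
  rw [zero_smul, h1_TV_zero]; exact HasM.one

theorem h1_Good_one (i0 : Fin n) : h1_Good H i0 1 := by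
  intro ψ _ h
  rwa [one_smul]

theorem h1_Good_add (i0 : Fin n) (s t : F) (hs : h1_Good H i0 s) (ht : h1_Good H i0 t) :
    h1_Good H i0 (s + t) := by
  intro ψ hψ h
  rw [add_smul, ← h1_TV_mul _ _ _ (by simp [hψ])]
  exact (hs ψ hψ h).mul (ht ψ hψ h)

theorem h1_Good_neg (i0 : Fin n) (s : F) (hs : h1_Good H i0 s) : h1_Good H i0 (-s) := by
  intro ψ hψ h
  refine (hs ψ hψ h).inv ?_
  rw [h1_TV_mul _ _ _ (by simp [hψ]), neg_smul, add_neg_cancel, h1_TV_zero]

theorem h1_Good_mul (i0 : Fin n) (s t : F) (hs : h1_Good H i0 s) (ht : h1_Good H i0 t) :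
    h1_Good H i0 (s * t) := by
  intro ψ hψ h
  rw [mul_smul]
  exact hs _ (by rw [Pi.smul_apply, hψ, smul_zero]) (ht ψ hψ h)

/-- if the good scalars contain a set generating `F` as a ring, every scalar is good. -/
theorem h1_Good_all (i0 : Fin n) (S : Set F) (hS : Subring.closure S = ⊤)
    (h : ∀ t ∈ S, h1_Good H i0 t) : ∀ t : F, h1_Good H i0 t := by
  intro t
  have ht : t ∈ Subring.closure S := by rw [hS]; trivial
  induction ht using Subring.closure_induction with
  | mem x hx => exact h x hx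
  | zero => exact h1_Good_zero i0
  | one => exact h1_Good_one i0
  | add x y _ _ hx hy => exact h1_Good_add i0 x y hx hy
  | neg x _ hx => exact h1_Good_neg i0 x hx
  | mul x y _ _ hx hy => exact h1_Good_mul i0 x y hx hy

end Cfsg.Agent.SLNG
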