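import Mathlib
import Cfsg.Agent.SLNG.Base
import Cfsg.Agent.SLNG.H1_Core

set_option autoImplicit false

/-!
S2279, piece CONJ + REG: an explicit conjugator `K` with `K * U = (1 + N) * K` (row chain of `U`),
uniform for all `n = m + 5 ≥ 5`, and `det K = (-1) ^ m * c`.
-/

namespace Cfsg.Agent.SLNG

open Matrix Cfsg.Agent.Helper8.RgGen

variable {F : Type*} [Field F]

/-! ### row shifts of basis vectors -/

theorem h1_bv_vecMul_Nm {n : ℕ} (k : ℕ) :
    bv n F k ᵥ* Nm n F = bv n F (k + 1) := by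
  have e : Nm n F = h1_N F n := rfl
  ext j
  rw [e, h1_vecMul_N]
  by_cases h : 0 < j.val
  · rw [dif_pos h, bv_apply, bv_apply]
    simp only
    by_cases h2 : j.val - 1 = k
    · rw [if_pos h2, if_pos (by omega)]
    · rw [if_neg h2, if_neg (by omega)]
  · rw [dif_neg h, bv_apply, if_neg (by omega)]

theorem h1_bv_out {n : ℕ} (k : ℕ) (hk : n ≤ k) : bv n F k = 0 := by
  ext j
  rw [bv_apply, if_neg (by have := j.isLt; omega)]
  rfl

section design

variable (m : ℕ) (s c : F)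

/-- `U = v + γ1 ⊗ μ1 + γ2 ⊗ μ2` acting on row vectors. -/
theorem h1_vecMul_U (hc : c ≠ 0) (k : Fin (m + 5) → F) :
    k ᵥ* (Usl m s c hc).1
      = k + k ᵥ* Nm (m + 5) F + (k ⬝ᵥ dg1 m c) • dmu1 m s c + (k ⬝ᵥ dg2 m c) • dmu2 m s c := by
  have hU : (Usl m s c hc).1 = (1 + Nm (m + 5) F) * dY m s c := rfl
  rw [hU, ← vecMul_vecMul, dY, vecMul_add, vecMul_add, vecMul_one, vecMul_vecMulVec,
    vecMul_vecMulVec, ← dotProduct_mulVec, ← dotProduct_mulVec, v_dl, v_dm, vecMul_add, vecMul_one]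

/-- pairing of a basis covector with `γ1 = c (e_n + 2 e_{n-1} + e_{n-2})`. -/
theorem h1_bv_dg1 (j : ℕ) (hj : j < m + 5) : bv (m + 5) F j ⬝ᵥ dg1 m c =
    c * ((if j = m + 4 then 1 else 0) + 2 * (if j = m + 3 then 1 else 0)
      + (if j = m + 2 then 1 else 0)) := by
  simp only [dg1, dotProduct_smul, dotProduct_add, bvd (m + 5) j _ hj, smul_eq_mul]

/-- pairing of a basis covector with `γ2 = e_1 - c (e_n + e_{n-1})`. -/
theorem h1_bv_dg2 (j : ℕ) (hj : j < m + 5) : bv (m + 5) F j ⬝ᵥ dg2 m c =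
    (if j = 0 then 1 else 0) - c * ((if j = m + 4 then 1 else 0) + (if j = m + 3 then 1 else 0)) := by
  simp only [dg2, dotProduct_smul, dotProduct_add, dotProduct_sub, bvd (m + 5) j _ hj, smul_eq_mul]

theorem h1_c_dmu1 (hc : c ≠ 0) : c • dmu1 m s c =
    s • bv (m + 5) F (m + 4) - (2 + s) • bv (m + 5) F (m + 3) + (5 + s) • bv (m + 5) F (m + 2)
      + c • bv (m + 5) F 1 := by
  rw [dmu1, smul_add, smul_smul, mul_inv_cancel₀ hc, one_smul]

theorem h1_c_dmu2 (hc : c ≠ 0) : c • dmu2 m s c =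
    bv (m + 5) F (m + 4) - bv (m + 5) F (m + 3) - (8 + s) • bv (m + 5) F (m + 2)
      - (5 + s) • bv (m + 5) F (m + 1) - c • bv (m + 5) F 2 - (2 * c) • bv (m + 5) F 1
      - c • bv (m + 5) F 0 := by
  rw [dmu2, smul_sub, smul_sub, smul_sub, smul_smul, mul_inv_cancel₀ hc, one_smul, smul_smul,
    mul_comm c 2]

/-- the three explicit rows of `K`. -/
def h1_kA : Fin (m + 5) → F :=
  c • bv (m + 5) F 1 + (5 + s) • bv (m + 5) F (m + 2) - (1 + s) • bv (m + 5) F (m + 3)
    + s • bv (m + 5) F (m + 4)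

def h1_kB : Fin (m + 5) → F :=
  (-c) • bv (m + 5) F 0 + c • bv (m + 5) F 1 - (5 + s) • bv (m + 5) F (m + 1)
    + (7 + 2 * s) • bv (m + 5) F (m + 2) - (2 + 2 * s) • bv (m + 5) F (m + 3)
    + (2 * s) • bv (m + 5) F (m + 4)

def h1_kC : Fin (m + 5) → F :=
  (-c) • bv (m + 5) F 0 - (5 + s) • bv (m + 5) F (m + 1) + (2 + s) • bv (m + 5) F (m + 2)
    - s • bv (m + 5) F (m + 3) + (s - 1) • bv (m + 5) F (m + 4)

/-- unit rows: `e_j (U - 1) = e_{j+1}` for `1 ≤ j ≤ m + 1` (0-based). -/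
theorem h1_row_unit (hc : c ≠ 0) (j : ℕ) (hj1 : 1 ≤ j) (hj2 : j ≤ m + 1) :
    bv (m + 5) F j ᵥ* (Usl m s c hc).1 = bv (m + 5) F j + bv (m + 5) F (j + 1) := by
  rw [h1_vecMul_U, h1_bv_vecMul_Nm, h1_bv_dg1 m c j (by omega), h1_bv_dg2 m c j (by omega),
    if_neg (by omega), if_neg (by omega), if_neg (by omega), if_neg (by omega)]
  simp

theorem h1_row_m2 (hc : c ≠ 0) :
    bv (m + 5) F (m + 2) ᵥ* (Usl m s c hc).1 = bv (m + 5) F (m + 2) + h1_kA m s c := by
  rw [h1_vecMul_U, h1_bv_vecMul_Nm, h1_bv_dg1 m c _ (by omega), h1_bv_dg2 m c _ (by omega),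
    if_neg (by omega), if_neg (by omega), if_pos rfl, if_neg (by omega)]
  simp only [mul_zero, add_zero, zero_add, mul_one, sub_zero, zero_smul]
  rw [h1_c_dmu1 m s c hc, h1_kA]
  module

theorem h1_kA_dg1 : h1_kA m s c ⬝ᵥ dg1 m c = 3 * c := by
  simp only [h1_kA, add_dotProduct, sub_dotProduct, smul_dotProduct, smul_eq_mul,
    h1_bv_dg1 m c 1 (by omega), h1_bv_dg1 m c (m + 2) (by omega), h1_bv_dg1 m c (m + 3) (by omega),
    h1_bv_dg1 m c (m + 4) (by omega)]
  simp
  ring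

theorem h1_kA_dg2 : h1_kA m s c ⬝ᵥ dg2 m c = c := by
  simp only [h1_kA, add_dotProduct, sub_dotProduct, smul_dotProduct, smul_eq_mul,
    h1_bv_dg2 m c 1 (by omega), h1_bv_dg2 m c (m + 2) (by omega), h1_bv_dg2 m c (m + 3) (by omega),
    h1_bv_dg2 m c (m + 4) (by omega)]
  simp
  ring

theorem h1_kB_dg1 : h1_kB m s c ⬝ᵥ dg1 m c = 3 * c := by
  simp only [h1_kB, add_dotProduct, sub_dotProduct, smul_dotProduct, smul_eq_mul,
    h1_bv_dg1 m c 0 (by omega), h1_bv_dg1 m c 1 (by omega), h1_bv_dg1 m c (m + 1) (by omega),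
    h1_bv_dg1 m c (m + 2) (by omega), h1_bv_dg1 m c (m + 3) (by omega),
    h1_bv_dg1 m c (m + 4) (by omega)]
  simp
  ring

theorem h1_kB_dg2 : h1_kB m s c ⬝ᵥ dg2 m c = c := by
  simp only [h1_kB, add_dotProduct, sub_dotProduct, smul_dotProduct, smul_eq_mul,
    h1_bv_dg2 m c 0 (by omega), h1_bv_dg2 m c 1 (by omega), h1_bv_dg2 m c (m + 1) (by omega),
    h1_bv_dg2 m c (m + 2) (by omega), h1_bv_dg2 m c (m + 3) (by omega),
    h1_bv_dg2 m c (m + 4) (by omega)]
  simp
  ring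

theorem h1_kC_dg1 : h1_kC m s c ⬝ᵥ dg1 m c = c := by
  simp only [h1_kC, add_dotProduct, sub_dotProduct, smul_dotProduct, smul_eq_mul,
    h1_bv_dg1 m c 0 (by omega), h1_bv_dg1 m c (m + 1) (by omega),
    h1_bv_dg1 m c (m + 2) (by omega), h1_bv_dg1 m c (m + 3) (by omega),
    h1_bv_dg1 m c (m + 4) (by omega)]
  simp
  ring

theorem h1_kC_dg2 : h1_kC m s c ⬝ᵥ dg2 m c = 0 := by
  simp only [h1_kC, add_dotProduct, sub_dotProduct, smul_dotProduct, smul_eq_mul,
    h1_bv_dg2 m c 0 (by omega), h1_bv_dg2 m c (m + 1) (by omega),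
    h1_bv_dg2 m c (m + 2) (by omega), h1_bv_dg2 m c (m + 3) (by omega),
    h1_bv_dg2 m c (m + 4) (by omega)]
  simp
  ring

theorem h1_row_kA (hc : c ≠ 0) :
    h1_kA m s c ᵥ* (Usl m s c hc).1 = h1_kA m s c + h1_kB m s c := by
  rw [h1_vecMul_U, h1_kA_dg1, h1_kA_dg2]
  have e1 : (3 * c) • dmu1 m s c = (3 : F) • (c • dmu1 m s c) := by rw [smul_smul]
  rw [e1, h1_c_dmu1 m s c hc, h1_c_dmu2 m s c hc]
  have e2 : h1_kA m s c ᵥ* Nm (m + 5) F = c • bv (m + 5) F 2 + (5 + s) • bv (m + 5) F (m + 3)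
      - (1 + s) • bv (m + 5) F (m + 4) := by
    simp only [h1_kA, add_vecMul, sub_vecMul, smul_vecMul, h1_bv_vecMul_Nm]
    rw [h1_bv_out (m + 4 + 1) (by omega), smul_zero, add_zero]
  rw [e2, h1_kA, h1_kB]
  module

theorem h1_row_kB (hc : c ≠ 0) :
    h1_kB m s c ᵥ* (Usl m s c hc).1 = h1_kB m s c + h1_kC m s c := by
  rw [h1_vecMul_U, h1_kB_dg1, h1_kB_dg2]
  have e1 : (3 * c) • dmu1 m s c = (3 : F) • (c • dmu1 m s c) := by rw [smul_smul]
  rw [e1, h1_c_dmu1 m s c hc, h1_c_dmu2 m s c hc]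
  have e2 : h1_kB m s c ᵥ* Nm (m + 5) F = (-c) • bv (m + 5) F 1 + c • bv (m + 5) F 2
      - (5 + s) • bv (m + 5) F (m + 2) + (7 + 2 * s) • bv (m + 5) F (m + 3)
      - (2 + 2 * s) • bv (m + 5) F (m + 4) := by
    simp only [h1_kB, add_vecMul, sub_vecMul, smul_vecMul, h1_bv_vecMul_Nm]
    rw [h1_bv_out (m + 4 + 1) (by omega), smul_zero, add_zero]
  rw [e2, h1_kB, h1_kC]
  module

theorem h1_row_kC (hc : c ≠ 0) :
    h1_kC m s c ᵥ* (Usl m s c hc).1 = h1_kC m s c := by
  rw [h1_vecMul_U, h1_kC_dg1, h1_kC_dg2, zero_smul, add_zero]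
  rw [h1_c_dmu1 m s c hc]
  have e2 : h1_kC m s c ᵥ* Nm (m + 5) F = (-c) • bv (m + 5) F 1
      - (5 + s) • bv (m + 5) F (m + 2) + (2 + s) • bv (m + 5) F (m + 3)
      - s • bv (m + 5) F (m + 4) := by
    simp only [h1_kC, add_vecMul, sub_vecMul, smul_vecMul, h1_bv_vecMul_Nm]
    rw [h1_bv_out (m + 4 + 1) (by omega), smul_zero, add_zero]
  rw [e2, h1_kC]
  module

/-- rows of `N * K`. -/
theorem h1_N_mul_row {n : ℕ} (K : Matrix (Fin n) (Fin n) F) (i : Fin n) :
    (Nm n F * K) i = if h : i.val + 1 < n then K ⟨i.val + 1, h⟩ else 0 := by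
  have e : Nm n F = h1_N F n := rfl
  ext j
  have h1 : (Nm n F * K) i j = (h1_N F n *ᵥ (fun l => K l j)) i := by
    rw [e]; rfl
  rw [h1, h1_N_mulVec]
  split_ifs <;> rfl

/-- the conjugator. -/
def h1_K : Matrix (Fin (m + 5)) (Fin (m + 5)) F :=
  Matrix.of fun i => if i.val ≤ m + 1 then bv (m + 5) F (i.val + 1)
    else if i.val = m + 2 then h1_kA m s c else if i.val = m + 3 then h1_kB m s c
    else h1_kC m s c

theorem h1_K_row_low (i : Fin (m + 5)) (hi : i.val ≤ m + 1) :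
    h1_K m s c i = bv (m + 5) F (i.val + 1) := by
  ext j
  simp only [h1_K, Matrix.of_apply, if_pos hi]

theorem h1_K_row_A (i : Fin (m + 5)) (hi : i.val = m + 2) : h1_K m s c i = h1_kA m s c := by
  ext j
  simp only [h1_K, Matrix.of_apply, if_neg (show ¬ i.val ≤ m + 1 by omega), if_pos hi]

theorem h1_K_row_B (i : Fin (m + 5)) (hi : i.val = m + 3) : h1_K m s c i = h1_kB m s c := by
  ext j
  simp only [h1_K, Matrix.of_apply, if_neg (show ¬ i.val ≤ m + 1 by omega),
    if_neg (show ¬ i.val = m + 2 by omega), if_pos hi]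

theorem h1_K_row_C (i : Fin (m + 5)) (hi : i.val = m + 4) : h1_K m s c i = h1_kC m s c := by
  ext j
  simp only [h1_K, Matrix.of_apply, if_neg (show ¬ i.val ≤ m + 1 by omega),
    if_neg (show ¬ i.val = m + 2 by omega), if_neg (show ¬ i.val = m + 3 by omega)]

/-- **`K U = v K`.** -/
theorem h1_K_mul (hc : c ≠ 0) :
    h1_K m s c * (Usl m s c hc).1 = (1 + Nm (m + 5) F) * h1_K m s c := by
  suffices hrow : ∀ i, (h1_K m s c * (Usl m s c hc).1) i = ((1 + Nm (m + 5) F) * h1_K m s c) i by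
    ext i j
    exact congrFun (hrow i) j
  intro i
  rw [Matrix.mul_apply_eq_vecMul, add_mul, one_mul]
  have hadd : (h1_K m s c + Nm (m + 5) F * h1_K m s c) i
      = h1_K m s c i + (Nm (m + 5) F * h1_K m s c) i := rfl
  rw [hadd, h1_N_mul_row]
  have hi := i.isLt
  by_cases h1 : i.val ≤ m
  · rw [dif_pos (by omega), h1_K_row_low m s c i (by omega),
      h1_K_row_low m s c ⟨i.val + 1, by omega⟩ (by simp only; omega)]
    exact h1_row_unit m s c hc (i.val + 1) (by omega) (by omega)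
  · by_cases h2 : i.val = m + 1
    · rw [dif_pos (by omega), h1_K_row_low m s c i (by omega),
        h1_K_row_A m s c ⟨i.val + 1, by omega⟩ (by simp only; omega)]
      have : i.val + 1 = m + 2 := by omega
      rw [this]
      exact h1_row_m2 m s c hc
    · by_cases h3 : i.val = m + 2
      · rw [dif_pos (by omega), h1_K_row_A m s c i h3,
          h1_K_row_B m s c ⟨i.val + 1, by omega⟩ (by simp only; omega)]
        exact h1_row_kA m s c hc
      · by_cases h4 : i.val = m + 3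
        · rw [dif_pos (by omega), h1_K_row_B m s c i h4,
            h1_K_row_C m s c ⟨i.val + 1, by omega⟩ (by simp only; omega)]
          exact h1_row_kB m s c hc
        · rw [dif_neg (by omega), h1_K_row_C m s c i (by omega), add_zero]
          exact h1_row_kC m s c hc

/-! ### the determinant of `K` -/

theorem h1_rot_val (j : Fin (m + 5)) :
    (finRotate (m + 5) j).val = if j.val = m + 4 then 0 else j.val + 1 := by
  have h := coe_finRotate (n := m + 4) j
  rw [h]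
  by_cases hj : j = Fin.last (m + 4)
  · rw [if_pos hj, if_pos (by rw [hj]; rfl)]
  · rw [if_neg hj, if_neg (fun h => hj (Fin.ext (by rw [h]; rfl)))]

theorem h1_kA_apply (j : Fin (m + 5)) : h1_kA m s c j =
    c * (if j.val = 1 then 1 else 0) + (5 + s) * (if j.val = m + 2 then 1 else 0)
      - (1 + s) * (if j.val = m + 3 then 1 else 0) + s * (if j.val = m + 4 then 1 else 0) := by
  simp only [h1_kA, Pi.add_apply, Pi.sub_apply, Pi.smul_apply, bv_apply, smul_eq_mul]

theorem h1_kB_apply (j : Fin (m + 5)) : h1_kB m s c j =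
    (-c) * (if j.val = 0 then 1 else 0) + c * (if j.val = 1 then 1 else 0)
      - (5 + s) * (if j.val = m + 1 then 1 else 0) + (7 + 2 * s) * (if j.val = m + 2 then 1 else 0)
      - (2 + 2 * s) * (if j.val = m + 3 then 1 else 0) + (2 * s) * (if j.val = m + 4 then 1 else 0) := by
  simp only [h1_kB, Pi.add_apply, Pi.sub_apply, Pi.smul_apply, bv_apply, smul_eq_mul]

theorem h1_kC_apply (j : Fin (m + 5)) : h1_kC m s c j =
    (-c) * (if j.val = 0 then 1 else 0) - (5 + s) * (if j.val = m + 1 then 1 else 0)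
      + (2 + s) * (if j.val = m + 2 then 1 else 0) - s * (if j.val = m + 3 then 1 else 0)
      + (s - 1) * (if j.val = m + 4 then 1 else 0) := by
  simp only [h1_kC, Pi.add_apply, Pi.sub_apply, Pi.smul_apply, bv_apply, smul_eq_mul]

/-- the three special row indices. -/
def h1_ri (t : Fin 3) : Fin (m + 5) := ⟨m + 2 + t.val, by have := t.isLt; omega⟩

/-- `A`: the columns `e_{m+2}, e_{m+3}, e_{m+4}`. -/
def h1_A (F : Type*) [Field F] (m : ℕ) : Matrix (Fin (m + 5)) (Fin 3) F :=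
  Matrix.of fun i t => if i.val = m + 2 + t.val then 1 else 0

/-- `B`: the three explicit rows of `K` (columns rotated) minus the unit rows. -/
def h1_B : Matrix (Fin 3) (Fin (m + 5)) F :=
  Matrix.of fun t j => h1_K m s c (h1_ri m t) (finRotate (m + 5) j)
    - (if j.val = m + 2 + t.val then 1 else 0)

theorem h1_K_rot : (h1_K m s c).submatrix id (finRotate (m + 5)) = 1 + h1_A F m * h1_B m s c := by
  ext i j
  simp only [Matrix.submatrix_apply, id, Matrix.add_apply, Matrix.mul_apply, Fin.sum_univ_three,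
    Matrix.one_apply, h1_A, h1_B, Matrix.of_apply, Fin.val_zero, Fin.val_one, Fin.val_two, add_zero]
  have hi := i.isLt
  have hji : ∀ a : ℕ, i.val = a → ((if i = j then (1 : F) else 0) = if j.val = a then 1 else 0) := by
    intro a ha
    by_cases hij : i = j
    · subst hij; rw [if_pos rfl, if_pos ha]
    · rw [if_neg hij, if_neg (fun h => hij (Fin.ext (by omega)))]
  by_cases h1 : i.val ≤ m + 1
  · have a0 : ¬ i.val = m + 2 := by omega
    have a1 : ¬ i.val = m + 2 + 1 := by omega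
    have a2 : ¬ i.val = m + 2 + 2 := by omega
    simp only [a0, a1, a2, if_false, zero_mul, add_zero]
    rw [h1_K_row_low m s c i h1, bv_apply, h1_rot_val]
    by_cases hij : i = j
    · subst hij
      rw [if_neg (show ¬ i.val = m + 4 by omega), if_pos rfl, if_pos rfl]
    · rw [if_neg hij]
      have hne : i.val ≠ j.val := fun h => hij (Fin.ext h)
      by_cases hj : j.val = m + 4
      · rw [if_pos hj, if_neg (by omega)]
      · rw [if_neg hj, if_neg (by omega)]
  · have hcase : i.val = m + 2 ∨ i.val = m + 3 ∨ i.val = m + 4 := by omega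
    rcases hcase with h | h | h
    · have e : h1_ri m (0 : Fin 3) = i := Fin.ext (by simp [h1_ri, h])
      have a0 : i.val = m + 2 := h
      have a1 : ¬ i.val = m + 2 + 1 := by omega
      have a2 : ¬ i.val = m + 2 + 2 := by omega
      rw [hji _ h, e, if_pos a0, if_neg a1, if_neg a2]
      ring
    · have e : h1_ri m (1 : Fin 3) = i := Fin.ext (by simp [h1_ri, h])
      have a0 : ¬ i.val = m + 2 := by omega
      have a1 : i.val = m + 2 + 1 := by omega
      have a2 : ¬ i.val = m + 2 + 2 := by omega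
      rw [hji _ a1, e, if_neg a0, if_pos a1, if_neg a2]
      ring
    · have e : h1_ri m (2 : Fin 3) = i := Fin.ext (by simp [h1_ri, h])
      have a0 : ¬ i.val = m + 2 := by omega
      have a1 : ¬ i.val = m + 2 + 1 := by omega
      have a2 : i.val = m + 2 + 2 := by omega
      rw [hji _ a2, e, if_neg a0, if_neg a1, if_pos a2]
      ring

theorem h1_BA_apply (t t' : Fin 3) :
    (h1_B m s c * h1_A F m) t t' = h1_B m s c t (h1_ri m t') := by
  rw [Matrix.mul_apply, Finset.sum_eq_single (h1_ri m t')]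
  · simp [h1_A, h1_ri]
  · intro i _ hi
    have : ¬ i.val = m + 2 + t'.val := fun h => hi (Fin.ext (by simp [h1_ri, h]))
    simp [h1_A, this]
  · intro h
    exact absurd (Finset.mem_univ _) h

theorem h1_one_add_BA (t t' : Fin 3) :
    ((1 : Matrix (Fin 3) (Fin 3) F) + h1_B m s c * h1_A F m) t t'
      = h1_K m s c (h1_ri m t) (finRotate (m + 5) (h1_ri m t')) := by
  rw [Matrix.add_apply, h1_BA_apply, Matrix.one_apply]
  simp only [h1_B, Matrix.of_apply]
  have ht := t.isLt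
  have ht' := t'.isLt
  by_cases h : t = t'
  · subst h
    rw [if_pos rfl, if_pos (by simp [h1_ri])]
    ring
  · have hne : t.val ≠ t'.val := fun hh => h (Fin.ext hh)
    rw [if_neg h, if_neg (by simp [h1_ri]; omega)]
    ring

theorem h1_rot_ri0 : (finRotate (m + 5) (h1_ri m 0)).val = m + 3 := by
  rw [h1_rot_val]; simp [h1_ri]

theorem h1_rot_ri1 : (finRotate (m + 5) (h1_ri m 1)).val = m + 4 := by
  rw [h1_rot_val]; simp [h1_ri]

theorem h1_rot_ri2 : (finRotate (m + 5) (h1_ri m 2)).val = 0 := by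
  rw [h1_rot_val]; simp [h1_ri]

/-- **`det K = (-1) ^ m * c`.** -/
theorem h1_K_det : (h1_K m s c).det = (-1) ^ m * c := by
  have h1 := Matrix.det_permute' (finRotate (m + 5)) (h1_K m s c)
  rw [h1_K_rot, det_one_add_mul_comm, sign_finRotate] at h1
  have h3 : ((1 : Matrix (Fin 3) (Fin 3) F) + h1_B m s c * h1_A F m).det = c := by
    rw [Matrix.det_fin_three]
    simp only [h1_one_add_BA]
    have r0 : h1_K m s c (h1_ri m 0) = h1_kA m s c := h1_K_row_A m s c _ (by simp [h1_ri])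
    have r1 : h1_K m s c (h1_ri m 1) = h1_kB m s c := h1_K_row_B m s c _ (by simp [h1_ri])
    have r2 : h1_K m s c (h1_ri m 2) = h1_kC m s c := h1_K_row_C m s c _ (by simp [h1_ri])
    rw [r0, r1, r2]
    simp only [h1_kA_apply, h1_kB_apply, h1_kC_apply, h1_rot_ri0, h1_rot_ri1, h1_rot_ri2]
    have e1 : ¬ m + 3 = 1 := by omega
    have e2 : ¬ m + 3 = m + 2 := by omega
    have e3 : ¬ m + 3 = m + 4 := by omega
    have e4 : ¬ m + 4 = 1 := by omega
    have e5 : ¬ m + 4 = m + 2 := by omega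
    have e6 : ¬ m + 4 = m + 3 := by omega
    have e7 : ¬ (0 : ℕ) = 1 := by omega
    have e8 : ¬ 0 = m + 2 := by omega
    have e9 : ¬ 0 = m + 3 := by omega
    have e10 : ¬ 0 = m + 4 := by omega
    have e11 : ¬ m + 3 = 0 := by omega
    have e12 : ¬ m + 4 = 0 := by omega
    have e13 : ¬ m + 3 = m + 1 := by omega
    have e14 : ¬ m + 4 = m + 1 := by omega
    have e15 : ¬ 0 = m + 1 := by omega
    simp only [e1, e2, e3, e4, e5, e6, e7, e8, e9, e10, e11, e12, e13, e14, e15, if_true, if_false]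
    ring
  rw [h3] at h1
  have hs : ((((-1 : ℤˣ) ^ (m + 5 - 1) : ℤˣ) : ℤ) : F) = (-1 : F) ^ m := by
    have : m + 5 - 1 = m + 4 := by omega
    rw [this]
    push_cast
    rw [pow_add]
    norm_num
  rw [hs] at h1
  have hsq : ((-1 : F) ^ m) * ((-1 : F) ^ m) = 1 := by
    rw [← mul_pow]; norm_num
  calc (h1_K m s c).det = ((-1 : F) ^ m * (-1 : F) ^ m) * (h1_K m s c).det := by rw [hsq, one_mul]
    _ = (-1 : F) ^ m * ((-1 : F) ^ m * (h1_K m s c).det) := by ring
    _ = (-1) ^ m * c := by rw [← h1]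

/-- `K (U - 1)^k = N^k K`. -/
theorem h1_K_pow (hc : c ≠ 0) (k : ℕ) :
    h1_K m s c * ((Usl m s c hc).1 - 1) ^ k = (Nm (m + 5) F) ^ k * h1_K m s c := by
  have h1 : h1_K m s c * ((Usl m s c hc).1 - 1) = Nm (m + 5) F * h1_K m s c := by
    rw [mul_sub, mul_one, h1_K_mul m s c hc, add_mul, one_mul, add_sub_cancel_left]
  induction k with
  | zero => simp
  | succ k ih =>
    rw [pow_succ, ← mul_assoc, ih, mul_assoc, h1, ← mul_assoc, ← pow_succ]

/-- **REG**: `U` is regular unipotent for every `c ≠ 0`. -/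
theorem h1_U_regular (hc : c ≠ 0) :
    IsNilpotent ((Usl m s c hc).1 - 1) ∧ ((Usl m s c hc).1 - 1) ^ (m + 5 - 1) ≠ 0 := by
  have hdet : IsUnit (h1_K m s c).det := by
    rw [h1_K_det, isUnit_iff_ne_zero]
    exact mul_ne_zero (pow_ne_zero _ (by norm_num)) hc
  have hinv : (h1_K m s c)⁻¹ * h1_K m s c = 1 := Matrix.nonsing_inv_mul _ hdet
  have hinv' : h1_K m s c * (h1_K m s c)⁻¹ = 1 := Matrix.mul_nonsing_inv _ hdet
  constructor
  · refine ⟨m + 5, ?_⟩
    have h := h1_K_pow m s c hc (m + 5)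
    rw [Nm_pow_eq_zero, zero_mul] at h
    calc ((Usl m s c hc).1 - 1) ^ (m + 5)
        = ((h1_K m s c)⁻¹ * h1_K m s c) * ((Usl m s c hc).1 - 1) ^ (m + 5) := by rw [hinv, one_mul]
      _ = 0 := by rw [mul_assoc, h, mul_zero]
  · intro h0
    have h := h1_K_pow m s c hc (m + 5 - 1)
    rw [h0, mul_zero] at h
    have : (Nm (m + 5) F) ^ (m + 5 - 1) = 0 := by
      calc (Nm (m + 5) F) ^ (m + 5 - 1)
          = (Nm (m + 5) F) ^ (m + 5 - 1) * (h1_K m s c * (h1_K m s c)⁻¹) := by rw [hinv', mul_one]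
        _ = 0 := by rw [← mul_assoc, ← h, zero_mul]
    exact Nm_pow_ne_zero (by omega) this

/-- **CONJ**: for `c = (-1) ^ m` the element `U` is conjugate to `u1 = 1 + N` in `SL`. -/
theorem h1_U_conj (hc : c ≠ 0) (hcm : c = (-1) ^ m) :
    ∃ g : Matrix.SpecialLinearGroup (Fin (m + 5)) F,
      Usl m s c hc = g * u1 (m + 5) F * g⁻¹ := by
  have hdet : (h1_K m s c).det = 1 := by
    rw [h1_K_det, hcm, ← mul_pow]; norm_num
  set Ks : Matrix.SpecialLinearGroup (Fin (m + 5)) F := ⟨h1_K m s c, hdet⟩ with hKs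
  have hmul : Ks * Usl m s c hc = u1 (m + 5) F * Ks := by
    apply Subtype.ext
    rw [Matrix.SpecialLinearGroup.coe_mul, Matrix.SpecialLinearGroup.coe_mul, u1_coe]
    exact h1_K_mul m s c hc
  refine ⟨Ks⁻¹, ?_⟩
  rw [inv_inv, mul_assoc, ← hmul, ← mul_assoc, inv_mul_cancel, one_mul]

end design

end Cfsg.Agent.SLNG
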