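import Mathlib
import Cfsg.Agent.Helper8.RgGenD
import Cfsg.Agent.SLNG.H1_Core

set_option autoImplicit false

/-!
S2279, piece `Psi`: the axes `ψ` of the transvections `1 + e_0 ⊗ ψ` of `H` fill the hyperplane
`ψ · e_0 = 0` (any finite field), in helper8's `RgGen` calculus (`TV`, `bv`, `Nm`, `u1`).
-/

namespace Cfsg.Agent.SLNG

open Matrix Cfsg.Agent.Helper8.RgGen

section dual

variable {ι : Type} [Fintype ι] [DecidableEq ι] {F : Type*} [Field F]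
  (H : Subgroup (Matrix.SpecialLinearGroup ι F))

theorem h1_tv_add_right {v ψ ψ' : ι → F} (h : TV H v ψ) (h' : TV H v ψ') : TV H v (ψ + ψ') := by
  have ho := h.orth
  obtain ⟨g, hgH, hg⟩ := h
  obtain ⟨g', hgH', hg'⟩ := h'
  refine ⟨g * g', H.mul_mem hgH hgH', ?_⟩
  rw [Matrix.SpecialLinearGroup.coe_mul, hg, hg', add_mul, one_mul, mul_add, mul_one, vmv_mul_vmv, ho,
    zero_smul, add_zero, vecMulVec_add]
  abel

theorem h1_tv_zero_right (v : ι → F) : TV H v 0 :=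
  ⟨1, H.one_mem, by rw [Matrix.SpecialLinearGroup.coe_one, vecMulVec_zero, add_zero]⟩

theorem h1_tv_neg_right {v ψ : ι → F} (h : TV H v ψ) : TV H v (-ψ) := by
  have ho := h.orth
  obtain ⟨g, hgH, hg⟩ := h
  refine ⟨g⁻¹, H.inv_mem hgH, ?_⟩
  apply coe_inv_eq
  rw [hg, add_mul, one_mul, mul_add, mul_one, vmv_mul_vmv, ho, vecMulVec_neg]
  simp

theorem h1_tv_sub_right {v ψ ψ' : ι → F} (h : TV H v ψ) (h' : TV H v ψ') : TV H v (ψ - ψ') := by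
  rw [sub_eq_add_neg]
  exact h1_tv_add_right H h (h1_tv_neg_right H h')

theorem h1_tv_nsmul_right {v ψ : ι → F} (k : ℕ) (h : TV H v ψ) : TV H v (k • ψ) := by
  induction k with
  | zero => rw [zero_smul]; exact h1_tv_zero_right H v
  | succ k ih => rw [succ_nsmul]; exact h1_tv_add_right H ih h

theorem h1_tv_zsmul_right {v ψ : ι → F} (k : ℤ) (h : TV H v ψ) : TV H v (k • ψ) := by
  obtain ⟨m, rfl | rfl⟩ := Int.eq_nat_or_neg k
  · rw [natCast_zsmul]; exact h1_tv_nsmul_right H m h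
  · rw [neg_zsmul, natCast_zsmul]; exact h1_tv_neg_right H (h1_tv_nsmul_right H m h)

end dual

variable {F : Type*} [Field F] {n : ℕ} (H : Subgroup (Matrix.SpecialLinearGroup (Fin n) F))

theorem h1_Nm_eq : Nm n F = h1_N F n := rfl

theorem h1_tv_iff (a φ : Fin n → F) : TV H a φ ↔ HasM H (h1_TV a φ) := Iff.rfl

theorem h1_tv_shift (hv : u1 n F ∈ H) {ψ : Fin n → F} (h : TV H (bv n F 0) ψ) :
    TV H (bv n F 0) (ψ ᵥ* Nm n F) := by
  rcases Nat.eq_zero_or_pos n with hn | hn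
  · subst hn
    exact ⟨1, H.one_mem, Subsingleton.elim _ _⟩
  · have ho := h.orth
    rw [bv_eq_single hn] at h ho ⊢
    rw [dotProduct_single, mul_one] at ho
    exact h1_axes_shift ⟨0, hn⟩ rfl (HasM.of_mem hv) ψ h ho

theorem h1_tv_shift_pow (hv : u1 n F ∈ H) {ψ : Fin n → F} (k : ℕ) (h : TV H (bv n F 0) ψ) :
    TV H (bv n F 0) (ψ ᵥ* (Nm n F) ^ k) := by
  induction k with
  | zero => simpa using h
  | succ k ih =>
    rw [pow_succ, ← Matrix.vecMul_vecMul]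
    exact h1_tv_shift H hv ih

/-- scalars stabilising an additive family of vectors form a subfield (finite `F`). -/
theorem h1_scal_of_closure [Finite F] (P : (Fin n → F) → Prop) (hP0 : P 0)
    (hadd : ∀ x y, P x → P y → P (x + y)) (hneg : ∀ x, P x → P (-x)) (σ : F)
    (hσ : ∀ x, P x → P (σ • x)) (hcl : Subfield.closure ({σ} : Set F) = ⊤) (t : F) :
    ∀ x, P x → P (t • x) := by
  have := Fintype.ofFinite F
  have ht : t ∈ Subfield.closure ({σ} : Set F) := by rw [hcl]; trivial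
  have hpow : ∀ (y : F), (∀ x, P x → P (y • x)) → ∀ m : ℕ, ∀ x, P x → P ((y ^ m) • x) := by
    intro y hy m
    induction m with
    | zero => intro x hx; simpa using hx
    | succ m ih =>
      intro x hx
      rw [pow_succ, mul_smul]
      exact ih _ (hy x hx)
  induction ht using Subfield.closure_induction with
  | mem y hy =>
    rw [Set.mem_singleton_iff] at hy
    subst hy
    exact hσ
  | one => intro x hx; simpa using hx
  | add y z _ _ hy hz =>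
    intro x hx
    rw [add_smul]
    exact hadd _ _ (hy x hx) (hz x hx)
  | neg y _ hy =>
    intro x hx
    rw [neg_smul]
    exact hneg _ (hy x hx)
  | inv y _ hy =>
    intro x hx
    by_cases h0 : y = 0
    · subst h0
      simpa using hP0
    · have h1 : y ^ (Fintype.card F - 1) = 1 := FiniteField.pow_card_sub_one_eq_one y h0
      have h2 : 2 ≤ Fintype.card F := Fintype.one_lt_card
      have h3 : y⁻¹ = y ^ (Fintype.card F - 2) := by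
        have : y * y ^ (Fintype.card F - 2) = 1 := by
          rw [← pow_succ']
          have : Fintype.card F - 2 + 1 = Fintype.card F - 1 := by omega
          rw [this, h1]
        exact inv_eq_of_mul_eq_one_right this
      rw [h3]
      exact hpow y hy _ x hx
  | mul y z _ _ hy hz =>
    intro x hx
    rw [mul_smul]
    exact hy _ (hz x hx)

/-- **MAIN**: the axes of the transvections of `H` with centre `e_0` fill `e_0^⊥`. -/
theorem h1_psi_full [Finite F] (hn : 2 ≤ n) (hv : u1 n F ∈ H)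
    (U : Matrix.SpecialLinearGroup (Fin n) F) (hU : U ∈ H) (ℓ κ : Fin n → F)
    (hUe : (U : Matrix (Fin n) (Fin n) F) *ᵥ bv n F 0 = ℓ)
    (hUκ : (U : Matrix (Fin n) (Fin n) F) *ᵥ κ = bv n F 0)
    (ψ0 ψa ψb ψ1 : Fin n → F) (h0 : TV H (bv n F 0) ψ0) (ha : TV H (bv n F 0) ψa)
    (hb : TV H (bv n F 0) ψb) (h1 : TV H (bv n F 0) ψ1)
    (hρ : Subfield.closure ({(ψa ⬝ᵥ κ) * (ψb ⬝ᵥ ℓ)} : Set F) = ⊤)
    (h1ℓ : ψ1 ⬝ᵥ ℓ = 0) (h1κ : ψ1 ⬝ᵥ κ ≠ 0) (h01 : ψ0 ⬝ᵥ bv n F 1 ≠ 0) :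
    ∀ ψ : Fin n → F, ψ ⬝ᵥ bv n F 0 = 0 → TV H (bv n F 0) ψ := by
  set e0 : Fin n → F := bv n F 0 with he0
  set ρ : F := (ψa ⬝ᵥ κ) * (ψb ⬝ᵥ ℓ) with hρdef
  have hUinvH : U⁻¹ ∈ H := H.inv_mem hU
  have hκ : ((U⁻¹ : Matrix.SpecialLinearGroup (Fin n) F) : Matrix (Fin n) (Fin n) F) *ᵥ e0 = κ := by
    rw [← hUκ, Matrix.mulVec_mulVec, coe_inv_mul, Matrix.one_mulVec]
  have hℓ' : ((U⁻¹ : Matrix.SpecialLinearGroup (Fin n) F) : Matrix (Fin n) (Fin n) F) *ᵥ ℓ = e0 := by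
    rw [← hUe, Matrix.mulVec_mulVec, coe_inv_mul, Matrix.one_mulVec]
  -- (M1)
  have M1 : ∀ ψ ψ' : Fin n → F, TV H e0 ψ → TV H e0 ψ' → ψ ⬝ᵥ ℓ = 0 →
      TV H e0 ((ψ' ⬝ᵥ κ) • (ψ ᵥ* (U : Matrix (Fin n) (Fin n) F))) := by
    intro ψ ψ' hψ hψ' hψℓ
    have c1 := hψ.conj hUinvH
    rw [hκ, inv_inv] at c1
    have c2 := hψ'.comm c1 (by rw [← Matrix.dotProduct_mulVec, hUe, hψℓ])
    exact (TV.smul_iff _).mp c2
  -- (M2)
  have M2 : ∀ ψ ψ' : Fin n → F, TV H e0 ψ → TV H e0 ψ' → ψ ⬝ᵥ κ = 0 →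
      TV H e0 ((ψ' ⬝ᵥ ℓ) • (ψ ᵥ* ((U⁻¹ : Matrix.SpecialLinearGroup (Fin n) F) : Matrix (Fin n) (Fin n) F))) := by
    intro ψ ψ' hψ hψ' hψκ
    have c1 := hψ.conj hU
    rw [hUe] at c1
    have c2 := hψ'.comm c1 (by rw [← Matrix.dotProduct_mulVec, hκ, hψκ])
    exact (TV.smul_iff _).mp c2
  -- (R)
  have Rℓ : ∀ ψ : Fin n → F, TV H e0 ψ → ψ ⬝ᵥ ℓ = 0 → TV H e0 (ρ • ψ) := by
    intro ψ hψ hψℓ
    have s1 := M1 ψ ψa hψ ha hψℓ
    have hs1κ : ((ψa ⬝ᵥ κ) • (ψ ᵥ* (U : Matrix (Fin n) (Fin n) F))) ⬝ᵥ κ = 0 := by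
      rw [smul_dotProduct, ← Matrix.dotProduct_mulVec, hUκ, hψ.orth, smul_zero]
    have s2 := M2 _ ψb s1 hb hs1κ
    have : (ψb ⬝ᵥ ℓ) • (((ψa ⬝ᵥ κ) • (ψ ᵥ* (U : Matrix (Fin n) (Fin n) F))) ᵥ*
        ((U⁻¹ : Matrix.SpecialLinearGroup (Fin n) F) : Matrix (Fin n) (Fin n) F)) = ρ • ψ := by
      rw [Matrix.smul_vecMul, Matrix.vecMul_vecMul, coe_mul_inv, Matrix.vecMul_one, smul_smul, hρdef,
        mul_comm]
    rwa [this] at s2
  have Rκ : ∀ ψ : Fin n → F, TV H e0 ψ → ψ ⬝ᵥ κ = 0 → TV H e0 (ρ • ψ) := by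
    intro ψ hψ hψκ
    have s1 := M2 ψ ψb hψ hb hψκ
    have hs1ℓ : ((ψb ⬝ᵥ ℓ) • (ψ ᵥ* ((U⁻¹ : Matrix.SpecialLinearGroup (Fin n) F) : Matrix (Fin n) (Fin n) F))) ⬝ᵥ ℓ = 0 := by
      rw [smul_dotProduct, ← Matrix.dotProduct_mulVec, hℓ', hψ.orth, smul_zero]
    have s2 := M1 _ ψa s1 ha hs1ℓ
    have : (ψa ⬝ᵥ κ) • (((ψb ⬝ᵥ ℓ) • (ψ ᵥ* ((U⁻¹ : Matrix.SpecialLinearGroup (Fin n) F) : Matrix (Fin n) (Fin n) F))) ᵥ*
        (U : Matrix (Fin n) (Fin n) F)) = ρ • ψ := by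
      rw [Matrix.smul_vecMul, Matrix.vecMul_vecMul, coe_inv_mul, Matrix.vecMul_one, smul_smul, hρdef]
    rwa [this] at s2
  -- (S)
  have Sℓ : ∀ (t : F) (ψ : Fin n → F), TV H e0 ψ → ψ ⬝ᵥ ℓ = 0 → TV H e0 (t • ψ) := by
    intro t ψ hψ hψℓ
    have := h1_scal_of_closure (fun ψ : Fin n → F => TV H e0 ψ ∧ ψ ⬝ᵥ ℓ = 0)
      ⟨h1_tv_zero_right H e0, zero_dotProduct _⟩
      (fun x y hx hy => ⟨h1_tv_add_right H hx.1 hy.1, by rw [add_dotProduct, hx.2, hy.2, add_zero]⟩)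
      (fun x hx => ⟨h1_tv_neg_right H hx.1, by rw [neg_dotProduct, hx.2, neg_zero]⟩)
      ρ (fun x hx => ⟨Rℓ x hx.1 hx.2, by rw [smul_dotProduct, hx.2, smul_zero]⟩) hρ t ψ ⟨hψ, hψℓ⟩
    exact this.1
  have Sκ : ∀ (t : F) (ψ : Fin n → F), TV H e0 ψ → ψ ⬝ᵥ κ = 0 → TV H e0 (t • ψ) := by
    intro t ψ hψ hψκ
    have := h1_scal_of_closure (fun ψ : Fin n → F => TV H e0 ψ ∧ ψ ⬝ᵥ κ = 0)
      ⟨h1_tv_zero_right H e0, zero_dotProduct _⟩
      (fun x y hx hy => ⟨h1_tv_add_right H hx.1 hy.1, by rw [add_dotProduct, hx.2, hy.2, add_zero]⟩)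
      (fun x hx => ⟨h1_tv_neg_right H hx.1, by rw [neg_dotProduct, hx.2, neg_zero]⟩)
      ρ (fun x hx => ⟨Rκ x hx.1 hx.2, by rw [smul_dotProduct, hx.2, smul_zero]⟩) hρ t ψ ⟨hψ, hψκ⟩
    exact this.1
  -- (T)
  have T : ∀ (t : F) (ψ : Fin n → F), TV H e0 ψ → TV H e0 (t • ψ) := by
    intro t ψ hψ
    set r : F := (ψ ⬝ᵥ κ) / (ψ1 ⬝ᵥ κ) with hr
    have hψ' : TV H e0 (ψ - r • ψ1) := h1_tv_sub_right H hψ (Sℓ r ψ1 h1 h1ℓ)
    have hψ'κ : (ψ - r • ψ1) ⬝ᵥ κ = 0 := by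
      rw [sub_dotProduct, smul_dotProduct, smul_eq_mul, hr, div_mul_cancel₀ _ h1κ, sub_self]
    have a1 := Sκ t _ hψ' hψ'κ
    have a2 := Sℓ (t * r) ψ1 h1 h1ℓ
    have := h1_tv_add_right H a1 a2
    have e : t • (ψ - r • ψ1) + (t * r) • ψ1 = t • ψ := by
      rw [smul_sub, smul_smul]; abel
    rwa [e] at this
  -- (Δ)
  have hn0 : 0 < n := by omega
  have hn1 : 1 < n := by omega
  have he0s : e0 = Pi.single (⟨0, hn0⟩ : Fin n) 1 := bv_eq_single hn0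
  intro ψ hψ
  have key := h1_psi_full_of_smul (H := H) (⟨0, hn0⟩ : Fin n) (⟨1, hn1⟩ : Fin n) rfl rfl
    (HasM.of_mem hv) ψ0
    (by
      have := h0.orth
      rw [he0s, dotProduct_single, mul_one] at this
      exact this)
    (by
      have := h01
      rw [bv_eq_single hn1, dotProduct_single, mul_one] at this
      exact this)
    (by rw [← he0s]; exact h0)
    (by
      intro t ψ' _ hψ'
      rw [← he0s] at hψ' ⊢
      exact T t ψ' hψ')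
    ψ
    (by
      rw [he0s, dotProduct_single, mul_one] at hψ
      exact hψ)
  rw [← he0s] at key
  exact key

end Cfsg.Agent.SLNG
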