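import Mathlib
import Cfsg.Agent.Helper8.RgGenD
import Cfsg.Agent.SLNG.H1_Core

set_option autoImplicit false

/-!
S2279, piece `Spread`: a subgroup `H` of `SL_n(F)` containing the upper regular unipotent `u1 = 1 + N`,
all transvections with centre `e_0`, and an element `U` with `U e_0 = c (e_{n-1} + e_{n-2})`, `c ≠ 0`,
is everything.  Stated in helper8's `RgGen` calculus (`TV`, `bv`, `u1`); derived from helper1's
`h1_top_of_centre`.
-/

namespace Cfsg.Agent.SLNG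

open Matrix Cfsg.Agent.Helper8.RgGen

variable {F : Type*} [Field F] {n : ℕ}

theorem h5_spread_top (hn : 3 ≤ n) (H : Subgroup (Matrix.SpecialLinearGroup (Fin n) F))
    (hv : u1 n F ∈ H) (U : Matrix.SpecialLinearGroup (Fin n) F) (hU : U ∈ H) (c : F) (hc : c ≠ 0)
    (hUe : U.1 *ᵥ bv n F 0 = c • (bv n F (n - 1) + bv n F (n - 2)))
    (hfull : ∀ ψ : Fin n → F, ψ ⬝ᵥ bv n F 0 = 0 → TV H (bv n F 0) ψ) : H = ⊤ := by
  have h0n : 0 < n := by omega
  have hL : n - 1 < n := by omega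
  have hsingle : bv n F 0 = Pi.single (⟨0, h0n⟩ : Fin n) 1 := bv_eq_single h0n
  refine h1_top_of_centre (H := H) (⟨0, h0n⟩ : Fin n) (⟨n - 1, hL⟩ : Fin n) (by simp; omega)
    (by omega) ?_ ?_ U.1 ⟨U, hU, rfl⟩ ?_
  · -- `1 + N` is in `H`
    exact ⟨u1 n F, hv, rfl⟩
  · -- all transvections with centre `e_0`
    intro ψ hψ
    have hψ' : ψ ⬝ᵥ bv n F 0 = 0 := by
      rw [dotProduct_comm, bv_dot h0n]
      exact hψ
    have h := hfull ψ hψ'
    rw [hsingle] at h
    exact h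
  · -- the last entry of `U e_0` is `c ≠ 0`
    have h1 : U.1 ⟨n - 1, hL⟩ ⟨0, h0n⟩ = (U.1 *ᵥ bv n F 0) ⟨n - 1, hL⟩ := by
      rw [hsingle, Matrix.mulVec_single_one]
      rfl
    rw [h1, hUe]
    simp only [Pi.smul_apply, Pi.add_apply, bv_apply, smul_eq_mul]
    have h2 : ¬ (n - 1 = n - 2) := by omega
    simp [h2, hc]

end Cfsg.Agent.SLNG
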