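import Mathlib
import Cfsg.Agent.SLNG.Base
import Cfsg.Agent.SLNG.H1_Core
import Cfsg.Agent.SLNG.H1_Psi
import Cfsg.Agent.SLNG.H1_Conj
import Cfsg.Agent.SLNG.H5_Spread

set_option autoImplicit false

/-!
S2279, the case `n = 5` (`m = 0` in helper2's `Base` design).
-/

namespace Cfsg.Agent.SLNG

open Matrix Cfsg.Agent.Helper8.RgGen

variable {F : Type*} [Field F]

section pairings5

variable (s c : F)

theorem h1_5_dmu2_dg1 (hc : c ≠ 0) : dmu2 0 s c ⬝ᵥ dg1 0 c = -(9 + s) - c := by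
  simp only [dg1, dotProduct_smul, dotProduct_add, dmu2_bv]
  simp
  field_simp
  ring

theorem h1_5_dmu1_bv1 : dmu1 0 s c ⬝ᵥ bv (0 + 5) F 1 = 1 := by
  rw [dmu1_bv]; simp

/-- `ψ0(e_2) = s (10 + s + c)` at `n = 5`. -/
theorem h1_5_psi0_bv1 (hc : c ≠ 0) :
    dpsi0 0 s c hc ⬝ᵥ bv (0 + 5) F 1 = s * (10 + s + c) := by
  rw [dpsi0_dot, Usl_mulVec', one_add_Nm_mulVec_bv_succ (show 0 + 1 < 0 + 5 by omega)]
  simp only [dotProduct_add, dotProduct_smul, h1_5_dmu2_dg1 s c hc, dmu2_dg2 0 s c hc,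
    h1_5_dmu1_bv1, dmu2_e0, smul_eq_mul]
  ring

/-- `ψ0 · ℓ = -s (9 + s + c)` at `n = 5`. -/
theorem h1_5_psi0_dl (hc : c ≠ 0) :
    dpsi0 0 s c hc ⬝ᵥ dl 0 c = -s * (9 + s + c) := by
  rw [dpsi0_dot, Usl_mulVec', v_dl, dmu1_dl 0 s c hc, dmu2_dl 0 s c hc]
  simp only [dotProduct_add, dotProduct_smul, h1_5_dmu2_dg1 s c hc, smul_eq_mul]
  ring

end pairings5

/-- the top shift at `n = 5`. -/
theorem h1_5_shift (ψ : Fin (0 + 5) → F) (h0 : ψ ⬝ᵥ bv (0 + 5) F 0 = 0) :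
    ψ ᵥ* (Nm (0 + 5) F) ^ 3 = (ψ ⬝ᵥ bv (0 + 5) F 1) • bv (0 + 5) F 4 :=
  shift_top 2 ψ h0

/-- **generation at `n = 5`, any finite field**: `s = -1`, `c` a field generator with `9 + c ≠ 0`. -/
theorem h1_5_gen [Finite F] (c : F) (hc : c ≠ 0) (hc9 : 9 + c ≠ 0)
    (hgen : Subfield.closure ({c} : Set F) = ⊤) :
    Subgroup.closure ({u1 (0 + 5) F, Usl 0 (-1) c hc} :
      Set (Matrix.SpecialLinearGroup (Fin (0 + 5)) F)) = ⊤ := by
  set H := Subgroup.closure ({u1 (0 + 5) F, Usl 0 (-1) c hc} :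
      Set (Matrix.SpecialLinearGroup (Fin (0 + 5)) F)) with hH
  have hv : u1 (0 + 5) F ∈ H := Subgroup.subset_closure (by simp)
  have hU : Usl 0 (-1) c hc ∈ H := Subgroup.subset_closure (by simp)
  have h0 : TV H (bv (0 + 5) F 0) (dpsi0 0 (-1) c hc) := tv_psi0 0 (-1) c hc H hv hU
  have hlam : dpsi0 0 (-1) c hc ⬝ᵥ bv (0 + 5) F 1 = -(9 + c) := by
    rw [h1_5_psi0_bv1]; ring
  have ha : TV H (bv (0 + 5) F 0) ((-(9 + c)) • bv (0 + 5) F 4) := by
    have := h1_tv_shift_pow H hv 3 h0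
    rwa [h1_5_shift _ h0.orth, hlam] at this
  have hUinv : (Usl 0 (-1) c hc)⁻¹ ∈ H := H.inv_mem hU
  have hUe' : (((Usl 0 (-1) c hc)⁻¹ : Matrix.SpecialLinearGroup (Fin (0 + 5)) F) :
      Matrix (Fin (0 + 5)) (Fin (0 + 5)) F) *ᵥ bv (0 + 5) F 0 = dk 0 (-1) c := by
    rw [← Usl_dk 0 (-1) c hc, mulVec_mulVec, coe_inv_mul, one_mulVec]
  have hUk' : (((Usl 0 (-1) c hc)⁻¹ : Matrix.SpecialLinearGroup (Fin (0 + 5)) F) :
      Matrix (Fin (0 + 5)) (Fin (0 + 5)) F) *ᵥ dl 0 c = bv (0 + 5) F 0 := by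
    rw [← Usl_e0 0 (-1) c hc, mulVec_mulVec, coe_inv_mul, one_mulVec]
  have hfull := h1_psi_full H (by omega) hv _ hUinv (dk 0 (-1) c) (dl 0 c) hUe' hUk'
    (dpsi0 0 (-1) c hc) (dpsi0 0 (-1) c hc) (dpsi0 0 (-1) c hc) ((-(9 + c)) • bv (0 + 5) F 4)
    h0 h0 h0 ha
    (by
      rw [h1_5_psi0_dl, dpsi0_dk]
      rw [eq_top_iff, ← hgen, Subfield.closure_le]
      intro x hx
      rw [Set.mem_singleton_iff] at hx
      subst hx
      set ρ : F := -(-1 : F) * (9 + -1 + x) * -1 with hρ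
      have hmem : ρ ∈ Subfield.closure ({ρ} : Set F) := Subfield.subset_closure rfl
      have h8 : (8 : F) ∈ Subfield.closure ({ρ} : Set F) := by
        have : (8 : F) = ((8 : ℕ) : F) := by norm_num
        rw [this]; exact natCast_mem _ 8
      have : x = -ρ - 8 := by rw [hρ]; ring
      rw [SetLike.mem_coe, this]
      exact Subfield.sub_mem _ (Subfield.neg_mem _ hmem) h8)
    (by
      rw [smul_dotProduct, dk, dotProduct_smul, dotProduct_add, dotProduct_smul, dotProduct_smul,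
        bvd (0 + 5) 4 _ (by omega), bvd (0 + 5) 4 _ (by omega)]
      simp)
    (by
      rw [smul_dotProduct, dl, dotProduct_smul, dotProduct_add,
        bvd (0 + 5) 4 _ (by omega), bvd (0 + 5) 4 _ (by omega)]
      simp only [smul_eq_mul, if_true]
      norm_num
      refine ⟨fun h => hc9 ?_, hc⟩
      linear_combination -h)
    (by rw [hlam]; exact neg_ne_zero.mpr hc9)
  refine h5_spread_top (by omega) H hv _ hU c hc ?_ hfull
  rw [Usl_e0]
  rfl

/-! ### bridges and field lemmas -/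

/-- prime-field version of `h1_psi_full` in the `TV`/`bv` calculus. -/
theorem h1_psi_full_prime_bv [Fintype F] {n : ℕ} (hp : (Fintype.card F).Prime) (hn : 2 ≤ n)
    (H : Subgroup (Matrix.SpecialLinearGroup (Fin n) F)) (hv : u1 n F ∈ H)
    (ψ0 : Fin n → F) (h0 : TV H (bv n F 0) ψ0) (h01 : ψ0 ⬝ᵥ bv n F 1 ≠ 0) :
    ∀ ψ : Fin n → F, ψ ⬝ᵥ bv n F 0 = 0 → TV H (bv n F 0) ψ := by
  have hn0 : 0 < n := by omega
  have hn1 : 1 < n := by omega
  have e0 : bv n F 0 = Pi.single (⟨0, hn0⟩ : Fin n) 1 := bv_eq_single hn0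
  have key := h1_psi_full_prime (H := H) hp (⟨0, hn0⟩ : Fin n) (⟨1, hn1⟩ : Fin n) rfl rfl
    (HasM.of_mem hv) ψ0
    (by
      have := h0.orth
      rwa [bv_dot' hn0] at this)
    (by rwa [bv_dot' hn1] at h01)
    (by rw [← e0]; exact h0)
  intro ψ hψ
  have := key ψ (by rwa [bv_dot' hn0] at hψ)
  rw [← e0] at this
  exact this

/-- if an integer generates the finite field `F`, then `F` is a prime field. -/
theorem h1_prime_of_closure_int [Fintype F] (k : ℤ)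
    (h : Subfield.closure ({(k : F)} : Set F) = ⊤) : (Fintype.card F).Prime := by
  classical
  obtain ⟨p, hchar⟩ := CharP.exists F
  obtain ⟨e, hpp, hcard⟩ := FiniteField.card F p
  have : Fact p.Prime := ⟨hpp⟩
  -- every element is fixed by Frobenius
  have hfix : ∀ x : F, x ^ p = x := by
    intro x
    have hk : (k : F) ∈ (frobenius F p).eqLocusField (RingHom.id F) := by
      show frobenius F p (k : F) = RingHom.id F (k : F)
      rw [map_intCast, map_intCast]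
    have hle : Subfield.closure ({(k : F)} : Set F) ≤ (frobenius F p).eqLocusField (RingHom.id F) := by
      rw [Subfield.closure_le]
      intro y hy
      rw [Set.mem_singleton_iff] at hy
      rw [hy]; exact hk
    have hx : x ∈ (frobenius F p).eqLocusField (RingHom.id F) := hle (by rw [h]; trivial)
    have : frobenius F p x = RingHom.id F x := hx
    rwa [frobenius_def, RingHom.id_apply] at this
  obtain ⟨ζ, hζ⟩ := IsCyclic.exists_generator (α := Fˣ)
  have hord : orderOf ζ = Fintype.card F - 1 := by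
    rw [orderOf_eq_card_of_forall_mem_zpowers hζ, Nat.card_eq_fintype_card, Fintype.card_units]
  have hζp : ζ ^ (p - 1) = 1 := by
    apply Units.ext
    rw [Units.val_pow_eq_pow_val, Units.val_one]
    have h1 := hfix (ζ : F)
    have hp1 : p = (p - 1) + 1 := by have := hpp.pos; omega
    rw [hp1, pow_succ] at h1
    have hz : (ζ : F) ≠ 0 := ζ.ne_zero
    field_simp at h1
    exact h1
  have hdvd := orderOf_dvd_of_pow_eq_one hζp
  rw [hord] at hdvd
  have hle : Fintype.card F - 1 ≤ p - 1 := Nat.le_of_dvd (by have := hpp.two_le; omega) hdvd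
  have hcardp : Fintype.card F = p := by
    have h2 : p ≤ Fintype.card F := by
      rw [hcard]
      calc p = p ^ 1 := (pow_one p).symm
        _ ≤ p ^ (e : ℕ) := Nat.pow_le_pow_right hpp.pos e.pos
    have h3 : 0 < Fintype.card F := Fintype.card_pos
    have h4 := hpp.two_le
    omega
  rw [hcardp]; exact hpp

theorem h1_exists_gen5 [Fintype F] :
    ∃ a : F, a ≠ 0 ∧ Subfield.closure ({a} : Set F) = ⊤ := by
  classical
  obtain ⟨ζ, hζ⟩ := IsCyclic.exists_generator (α := Fˣ)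
  refine ⟨(ζ : F), ζ.ne_zero, ?_⟩
  rw [eq_top_iff]
  intro x _
  by_cases hx : x = 0
  · rw [hx]; exact Subfield.zero_mem _
  · obtain ⟨k, hk⟩ := hζ (Units.mk0 x hx)
    have hk' : ζ ^ k = Units.mk0 x hx := hk
    have hxk : ((ζ ^ k : Fˣ) : F) = x := by rw [hk']; rfl
    have hζmem : (ζ : F) ∈ Subfield.closure ({(ζ : F)} : Set F) :=
      Subfield.subset_closure (Set.mem_singleton _)
    have hmem : (ζ : F) ^ k ∈ Subfield.closure ({(ζ : F)} : Set F) :=
      (Subfield.closure ({(ζ : F)} : Set F)).zpow_mem hζmem k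
    rw [← Units.val_zpow_eq_zpow_val, hxk] at hmem
    exact hmem

/-- **generation at `n = 5` over a prime field** (`c = 1`, `s (11 + s) ≠ 0`). -/
theorem h1_5_gen_prime [Fintype F] (hp : (Fintype.card F).Prime) (s : F) (hs : s * (11 + s) ≠ 0) :
    Subgroup.closure ({u1 (0 + 5) F, Usl 0 s 1 one_ne_zero} :
      Set (Matrix.SpecialLinearGroup (Fin (0 + 5)) F)) = ⊤ := by
  set H := Subgroup.closure ({u1 (0 + 5) F, Usl 0 s 1 one_ne_zero} :
      Set (Matrix.SpecialLinearGroup (Fin (0 + 5)) F)) with hH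
  have hv : u1 (0 + 5) F ∈ H := Subgroup.subset_closure (by simp)
  have hU : Usl 0 s 1 one_ne_zero ∈ H := Subgroup.subset_closure (by simp)
  have h0 : TV H (bv (0 + 5) F 0) (dpsi0 0 s 1 one_ne_zero) := tv_psi0 0 s 1 one_ne_zero H hv hU
  have hfull := h1_psi_full_prime_bv hp (by omega) H hv _ h0 (by
    rw [h1_5_psi0_bv1]
    have : s * (10 + s + 1) = s * (11 + s) := by ring
    rw [this]; exact hs)
  refine h5_spread_top (by omega) H hv _ hU 1 one_ne_zero ?_ hfull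
  rw [Usl_e0]
  rfl

/-! ### conjugates of regular unipotent elements -/

theorem h1_regular_conj {n : ℕ} (g u : Matrix.SpecialLinearGroup (Fin n) F) (k : ℕ)
    (hu : IsNilpotent ((u : Matrix (Fin n) (Fin n) F) - 1) ∧
      ((u : Matrix (Fin n) (Fin n) F) - 1) ^ k ≠ 0) :
    IsNilpotent (((g * u * g⁻¹ : Matrix.SpecialLinearGroup (Fin n) F) :
        Matrix (Fin n) (Fin n) F) - 1) ∧
      (((g * u * g⁻¹ : Matrix.SpecialLinearGroup (Fin n) F) :
        Matrix (Fin n) (Fin n) F) - 1) ^ k ≠ 0 := by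
  set A : Matrix (Fin n) (Fin n) F := (g : Matrix (Fin n) (Fin n) F) with hA
  set B : Matrix (Fin n) (Fin n) F :=
    ((g⁻¹ : Matrix.SpecialLinearGroup (Fin n) F) : Matrix (Fin n) (Fin n) F) with hB
  set M : Matrix (Fin n) (Fin n) F := (u : Matrix (Fin n) (Fin n) F) - 1 with hM
  have hAB : A * B = 1 := by
    rw [hA, hB, ← Matrix.SpecialLinearGroup.coe_mul, mul_inv_cancel,
      Matrix.SpecialLinearGroup.coe_one]
  have hBA : B * A = 1 := by
    rw [hA, hB, ← Matrix.SpecialLinearGroup.coe_mul, inv_mul_cancel,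
      Matrix.SpecialLinearGroup.coe_one]
  have hconj : ((g * u * g⁻¹ : Matrix.SpecialLinearGroup (Fin n) F) :
      Matrix (Fin n) (Fin n) F) - 1 = A * M * B := by
    rw [Matrix.SpecialLinearGroup.coe_mul, Matrix.SpecialLinearGroup.coe_mul, hM, Matrix.mul_sub,
      Matrix.sub_mul, Matrix.mul_one, hAB]
  have hpow : ∀ j : ℕ, (A * M * B) ^ j = A * M ^ j * B := by
    intro j
    induction j with
    | zero => rw [pow_zero, pow_zero, Matrix.mul_one, hAB]
    | succ j ih =>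
      rw [pow_succ, ih, pow_succ]
      calc A * M ^ j * B * (A * M * B) = A * M ^ j * (B * A) * M * B := by
            simp only [Matrix.mul_assoc]
        _ = A * (M ^ j * M) * B := by rw [hBA, Matrix.mul_one, Matrix.mul_assoc A]
  rw [hconj]
  refine ⟨?_, ?_⟩
  · obtain ⟨j, hj⟩ := hu.1
    exact ⟨j, by rw [hpow, hj, Matrix.mul_zero, Matrix.zero_mul]⟩
  · intro h0
    apply hu.2
    rw [hpow] at h0
    calc M ^ k = (B * A) * M ^ k * (B * A) := by rw [hBA, Matrix.one_mul, Matrix.mul_one]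
      _ = B * (A * M ^ k * B) * A := by simp only [Matrix.mul_assoc]
      _ = 0 := by rw [h0, Matrix.mul_zero, Matrix.zero_mul]

/-! ### the exceptional case `(n, q) = (5, 2)`: explicit data over `ZMod 2`, transported -/

section small

/-- generic certificate (any `n`), after helper7's `h7_small_core`. -/
theorem h1_small_core [Fintype F] {n : ℕ} (hn : 2 ≤ n) (hp : (Fintype.card F).Prime)
    (i0 i1 iL : Fin n) (h0 : i0.val = 0) (h1 : i1.val = 1) (hL : iL.val + 1 = n)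
    (G Gi U Ui Vi : Matrix (Fin n) (Fin n) F) (ψ : Fin n → F)
    (hG : G.det = 1) (hGGi : G * Gi = 1)
    (hU : U = G * (1 + Nm n F) * Gi) (hVVi : (1 + Nm n F) * Vi = 1) (hUUi : U * Ui = 1)
    (hψ0 : ψ i0 = 0) (hψ1 : ψ i1 ≠ 0) (hUL0 : U iL i0 ≠ 0)
    (hword : ∀ H : Subgroup (Matrix.SpecialLinearGroup (Fin n) F), HasM H (1 + Nm n F) →
      HasM H Vi → HasM H U → HasM H Ui → HasM H (h1_TV (Pi.single i0 1) ψ)) :
    ∃ u g : Matrix.SpecialLinearGroup (Fin n) F,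
      (IsNilpotent ((u : Matrix (Fin n) (Fin n) F) - 1) ∧
        ((u : Matrix (Fin n) (Fin n) F) - 1) ^ (n - 1) ≠ 0) ∧
      Subgroup.closure ({u, g * u * g⁻¹} : Set (Matrix.SpecialLinearGroup (Fin n) F)) = ⊤ := by
  set g : Matrix.SpecialLinearGroup (Fin n) F := ⟨G, hG⟩ with hg
  have hginv : ((g⁻¹ : Matrix.SpecialLinearGroup (Fin n) F) : Matrix (Fin n) (Fin n) F) = Gi := by
    have h1 : ((g⁻¹ : Matrix.SpecialLinearGroup (Fin n) F) : Matrix (Fin n) (Fin n) F) * G = 1 := by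
      have : ((g⁻¹ * g : Matrix.SpecialLinearGroup (Fin n) F) : Matrix (Fin n) (Fin n) F) = 1 := by
        rw [inv_mul_cancel, Matrix.SpecialLinearGroup.coe_one]
      rwa [Matrix.SpecialLinearGroup.coe_mul] at this
    calc ((g⁻¹ : Matrix.SpecialLinearGroup (Fin n) F) : Matrix (Fin n) (Fin n) F)
        = ((g⁻¹ : Matrix.SpecialLinearGroup (Fin n) F) : Matrix (Fin n) (Fin n) F) * (G * Gi) := by
          rw [hGGi, Matrix.mul_one]
      _ = Gi := by rw [← Matrix.mul_assoc, h1, Matrix.one_mul]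
  refine ⟨u1 n F, g, u1_regular (by omega), ?_⟩
  set H := Subgroup.closure ({u1 n F, g * u1 n F * g⁻¹} :
    Set (Matrix.SpecialLinearGroup (Fin n) F)) with hH
  have hV : HasM H (1 + Nm n F) :=
    ⟨u1 n F, Subgroup.subset_closure (Set.mem_insert _ _), u1_coe⟩
  have hUH : HasM H U := by
    refine ⟨g * u1 n F * g⁻¹, Subgroup.subset_closure (Set.mem_insert_of_mem _ rfl), ?_⟩
    rw [Matrix.SpecialLinearGroup.coe_mul, Matrix.SpecialLinearGroup.coe_mul, hginv, hU, u1_coe]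
  have hVi : HasM H Vi := hV.inv hVVi
  have hUi : HasM H Ui := hUH.inv hUUi
  have hT := hword H hV hVi hUH hUi
  have hV' : HasM H (1 + h1_N F n) := hV
  have hfull := h1_psi_full_prime hp i0 i1 h0 h1 hV' ψ hψ0 hψ1 hT
  exact h1_top_of_centre i0 iL hL hn hV' hfull U hUH hUL0

theorem h1_map_one_add_Nm {K : Type*} [Field K] (φ : K →+* F) (n : ℕ) :
    (1 + Nm n K).map φ = 1 + Nm n F := by
  ext i j
  simp only [Matrix.map_apply, Matrix.add_apply, Matrix.one_apply, Nm_apply]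
  split_ifs <;> simp

theorem h1_map_TV {K : Type*} [Field K] (φ : K →+* F) {n : ℕ} (a ψ : Fin n → K) :
    (h1_TV a ψ).map φ = h1_TV (fun i => φ (a i)) (fun i => φ (ψ i)) := by
  ext i j
  simp only [h1_TV, Matrix.map_apply, Matrix.add_apply, Matrix.one_apply, vecMulVec_apply]
  split_ifs <;> simp

theorem h1_map_single {K : Type*} [Field K] (φ : K →+* F) {n : ℕ} (i0 : Fin n) :
    (fun i => φ ((Pi.single i0 (1 : K) : Fin n → K) i)) = Pi.single i0 (1 : F) := by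
  funext i
  by_cases h : i = i0
  · subst h; simp
  · simp [h]

/-- the value of a word in four letters -/
def h1_word4 {R : Type*} [Semiring R] {n : ℕ} (A : Fin 4 → Matrix (Fin n) (Fin n) R)
    (l : List (Fin 4)) : Matrix (Fin n) (Fin n) R := (l.map A).prod

theorem h1_word4_hasM {n : ℕ} (H : Subgroup (Matrix.SpecialLinearGroup (Fin n) F))
    (A : Fin 4 → Matrix (Fin n) (Fin n) F) (hA : ∀ i, HasM H (A i)) (l : List (Fin 4)) :
    HasM H (h1_word4 A l) := by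
  unfold h1_word4
  induction l with
  | nil => rw [List.map_nil, List.prod_nil]; exact HasM.one
  | cons a l ih => rw [List.map_cons, List.prod_cons]; exact (hA a).mul ih

theorem h1_word4_map {K : Type*} [Field K] (φ : K →+* F) {n : ℕ}
    (A : Fin 4 → Matrix (Fin n) (Fin n) K) (l : List (Fin 4)) :
    (h1_word4 A l).map φ = h1_word4 (fun i => (A i).map φ) l := by
  unfold h1_word4
  have := map_list_prod φ.mapMatrix (l.map A)
  rw [RingHom.mapMatrix_apply, List.map_map] at this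
  rw [this]
  rfl

/-- **transport of a certificate over `ZMod p`** (any `n`; after helper7's `h7_small_of_data`). -/
theorem h1_small_of_data [Fintype F] {p : ℕ} [hp : Fact p.Prime] (hcard : Fintype.card F = p)
    {n : ℕ} (hn : 2 ≤ n) (i0 i1 iL : Fin n) (h0 : i0.val = 0) (h1 : i1.val = 1)
    (hL : iL.val + 1 = n)
    (G Gi U Ui Vi : Matrix (Fin n) (Fin n) (ZMod p)) (ψ0 : Fin n → ZMod p) (l : List (Fin 4))
    (hG : G.det = 1) (hGGi : G * Gi = 1)
    (hU : U = G * (1 + Nm n (ZMod p)) * Gi) (hVVi : (1 + Nm n (ZMod p)) * Vi = 1)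
    (hUUi : U * Ui = 1) (hψ0 : ψ0 i0 = 0) (hψ1 : ψ0 i1 ≠ 0) (hUL0 : U iL i0 ≠ 0)
    (hword : h1_word4 ![1 + Nm n (ZMod p), Vi, U, Ui] l = h1_TV (Pi.single i0 1) ψ0) :
    ∃ u g : Matrix.SpecialLinearGroup (Fin n) F,
      (IsNilpotent ((u : Matrix (Fin n) (Fin n) F) - 1) ∧
        ((u : Matrix (Fin n) (Fin n) F) - 1) ^ (n - 1) ≠ 0) ∧
      Subgroup.closure ({u, g * u * g⁻¹} : Set (Matrix.SpecialLinearGroup (Fin n) F)) = ⊤ := by
  have hchar : CharP F p :=
    (CharP.charP_iff_prime_eq_zero hp.out).2 (hcard ▸ Nat.cast_card_eq_zero F)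
  let φ : ZMod p →+* F := ZMod.castHom (dvd_refl p) F
  have hinj : Function.Injective φ := φ.injective
  have hone : (1 : Matrix (Fin n) (Fin n) (ZMod p)).map φ = 1 :=
    Matrix.map_one φ (map_zero φ) (map_one φ)
  have hdet : ∀ A : Matrix (Fin n) (Fin n) (ZMod p), A.det = 1 → (A.map φ).det = 1 := by
    intro A hA
    have := RingHom.map_det φ A
    rw [RingHom.mapMatrix_apply] at this
    rw [← this, hA, map_one]
  have hmul : ∀ A B : Matrix (Fin n) (Fin n) (ZMod p), A * B = 1 → A.map φ * B.map φ = 1 := by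
    intro A B hAB
    rw [← Matrix.map_mul, hAB, hone]
  refine h1_small_core hn (by rw [hcard]; exact hp.out) i0 i1 iL h0 h1 hL (G.map φ) (Gi.map φ)
    (U.map φ) (Ui.map φ) (Vi.map φ) (fun i => φ (ψ0 i)) (hdet G hG) (hmul G Gi hGGi) ?_ ?_
    (hmul U Ui hUUi) ?_ ?_ ?_ ?_
  · rw [hU, Matrix.map_mul, Matrix.map_mul, h1_map_one_add_Nm]
  · rw [← h1_map_one_add_Nm φ]
    exact hmul _ _ hVVi
  · show φ (ψ0 i0) = 0
    rw [hψ0, map_zero]
  · show φ (ψ0 i1) ≠ 0
    intro h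
    apply hψ1
    apply hinj
    rw [h, map_zero]
  · rw [Matrix.map_apply]
    intro h
    apply hUL0
    apply hinj
    rw [h, map_zero]
  · intro H hV hVi hUH hUi
    have hA : ∀ i : Fin 4,
        HasM H ((fun i => (![1 + Nm n (ZMod p), Vi, U, Ui] i).map φ) i) := by
      intro i
      fin_cases i
      · show HasM H ((1 + Nm n (ZMod p)).map φ)
        rw [h1_map_one_add_Nm]
        exact hV
      · exact hVi
      · exact hUH
      · exact hUi
    have h1 := h1_word4_hasM H _ hA l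
    rw [← h1_word4_map, hword, h1_map_TV, h1_map_single] at h1
    exact h1

def h1_52G : Matrix (Fin 5) (Fin 5) (ZMod 2) :=
  !![0,0,1,0,1; 0,0,0,1,0; 0,0,1,1,0; 1,1,1,1,0; 1,0,1,0,1]
def h1_52Gi : Matrix (Fin 5) (Fin 5) (ZMod 2) :=
  !![1,0,0,0,1; 1,0,1,1,1; 0,1,1,0,0; 0,1,0,0,0; 1,1,1,0,0]
def h1_52U : Matrix (Fin 5) (Fin 5) (ZMod 2) :=
  !![1,1,0,0,0; 1,0,1,0,0; 1,0,0,0,0; 0,1,1,0,1; 1,1,1,1,0]
def h1_52Ui : Matrix (Fin 5) (Fin 5) (ZMod 2) :=
  !![0,0,1,0,0; 1,0,1,0,0; 0,1,1,0,0; 1,1,1,0,1; 1,1,0,1,0]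
def h1_52Vi : Matrix (Fin 5) (Fin 5) (ZMod 2) :=
  !![1,1,1,1,1; 0,1,1,1,1; 0,0,1,1,1; 0,0,0,1,1; 0,0,0,0,1]
def h1_52psi : Fin 5 → ZMod 2 := ![0,1,0,1,0]
/-- the word `U⁻¹ v⁻¹ U v⁻¹ U U` (letters: `0 = v`, `1 = v⁻¹`, `2 = U`, `3 = U⁻¹`) -/
def h1_52l : List (Fin 4) := [3, 1, 2, 1, 2, 2]

set_option maxRecDepth 100000 in
theorem h1_52_data :
    h1_52G * h1_52Gi = 1 ∧
    h1_52U = h1_52G * (1 + Nm 5 (ZMod 2)) * h1_52Gi ∧ (1 + Nm 5 (ZMod 2)) * h1_52Vi = 1 ∧
    h1_52U * h1_52Ui = 1 ∧ h1_52psi 0 = 0 ∧ h1_52psi 1 ≠ 0 ∧ h1_52U 4 0 ≠ 0 ∧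
    h1_word4 ![1 + Nm 5 (ZMod 2), h1_52Vi, h1_52U, h1_52Ui] h1_52l
      = h1_TV (Pi.single 0 1) h1_52psi := by
  unfold h1_52G h1_52Gi h1_52U h1_52Ui h1_52Vi h1_52psi h1_52l h1_word4 h1_TV
  decide

theorem h1_52_det : h1_52G.det = 1 := by
  have h := h1_52_data.1
  have hd : h1_52G.det * h1_52Gi.det = 1 := by rw [← Matrix.det_mul, h, Matrix.det_one]
  have h2 : ∀ x y : ZMod 2, x * y = 1 → x = 1 := by decide
  exact h2 _ _ hd

theorem h1_52 [Fintype F] (hcard : Fintype.card F = 2) :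
    ∃ u g : Matrix.SpecialLinearGroup (Fin 5) F,
      (IsNilpotent ((u : Matrix (Fin 5) (Fin 5) F) - 1) ∧
        ((u : Matrix (Fin 5) (Fin 5) F) - 1) ^ (5 - 1) ≠ 0) ∧
      Subgroup.closure ({u, g * u * g⁻¹} : Set (Matrix.SpecialLinearGroup (Fin 5) F)) = ⊤ := by
  have : Fact (Nat.Prime 2) := ⟨Nat.prime_two⟩
  obtain ⟨h1, h2, h3, h4, h5, h6, h7, h8⟩ := h1_52_data
  exact h1_small_of_data hcard (by norm_num) (0 : Fin 5) (1 : Fin 5) (4 : Fin 5) rfl rfl rfl
    h1_52G h1_52Gi h1_52U h1_52Ui h1_52Vi h1_52psi h1_52l h1_52_det h1 h2 h3 h4 h5 h6 h7 h8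

end small

/-! ### assembly: `n = 5` -/

theorem h1_two_ne_zero_of_prime [Fintype F] (hp : (Fintype.card F).Prime)
    (h2 : Fintype.card F ≠ 2) : (2 : F) ≠ 0 := by
  have hchar : CharP F (Fintype.card F) :=
    (CharP.charP_iff_prime_eq_zero hp).2 (Nat.cast_card_eq_zero F)
  intro h
  have h' : ((2 : ℕ) : F) = 0 := by exact_mod_cast h
  rw [CharP.cast_eq_zero_iff F (Fintype.card F) 2] at h'
  rcases (Nat.dvd_prime Nat.prime_two).mp h' with h1 | h1
  · exact hp.one_lt.ne' h1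
  · exact h2 h1

/-- **S2279 at `n = 5`** (in helper2's `Fin (0 + 5)` form). -/
theorem h1_n5' [Fintype F] :
    (∃ u v : Matrix.SpecialLinearGroup (Fin (0 + 5)) F,
      (IsNilpotent ((u : Matrix (Fin (0 + 5)) (Fin (0 + 5)) F) - 1) ∧
        ((u : Matrix (Fin (0 + 5)) (Fin (0 + 5)) F) - 1) ^ (0 + 5 - 1) ≠ 0) ∧
      (IsNilpotent ((v : Matrix (Fin (0 + 5)) (Fin (0 + 5)) F) - 1) ∧
        ((v : Matrix (Fin (0 + 5)) (Fin (0 + 5)) F) - 1) ^ (0 + 5 - 1) ≠ 0) ∧
      Subgroup.closure ({u, v} : Set (Matrix.SpecialLinearGroup (Fin (0 + 5)) F)) = ⊤) ∧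
    ((Fintype.card F).Prime → ∃ u g : Matrix.SpecialLinearGroup (Fin (0 + 5)) F,
      (IsNilpotent ((u : Matrix (Fin (0 + 5)) (Fin (0 + 5)) F) - 1) ∧
        ((u : Matrix (Fin (0 + 5)) (Fin (0 + 5)) F) - 1) ^ (0 + 5 - 1) ≠ 0) ∧
      Subgroup.closure ({u, g * u * g⁻¹} :
        Set (Matrix.SpecialLinearGroup (Fin (0 + 5)) F)) = ⊤) := by
  by_cases hp : (Fintype.card F).Prime
  · by_cases h2 : Fintype.card F = 2
    · obtain ⟨u, g, hu, hgen⟩ := h1_52 (F := F) h2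
      exact ⟨⟨u, g * u * g⁻¹, hu, h1_regular_conj g u _ hu, hgen⟩, fun _ => ⟨u, g, hu, hgen⟩⟩
    · have h2F : (2 : F) ≠ 0 := h1_two_ne_zero_of_prime hp h2
      obtain ⟨s, hs⟩ : ∃ s : F, s * (11 + s) ≠ 0 := by
        by_cases h5 : (5 : F) = 0
        · refine ⟨1, ?_⟩
          have : (1 : F) * (11 + 1) = 2 + 2 * 5 := by ring
          rw [this, h5, mul_zero, add_zero]
          exact h2F
        · refine ⟨-1, ?_⟩
          have : (-1 : F) * (11 + -1) = -(2 * 5) := by ring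
          rw [this]
          exact neg_ne_zero.mpr (mul_ne_zero h2F h5)
      have hgen := h1_5_gen_prime hp s hs
      obtain ⟨g, hg⟩ := h1_U_conj 0 s (1 : F) one_ne_zero (by simp)
      refine ⟨⟨u1 (0 + 5) F, Usl 0 s 1 one_ne_zero, u1_regular (by omega),
        h1_U_regular 0 s 1 one_ne_zero, hgen⟩, fun _ => ⟨u1 (0 + 5) F, g, u1_regular (by omega), ?_⟩⟩
      rw [← hg]
      exact hgen
  · refine ⟨?_, fun h => absurd h hp⟩
    obtain ⟨c, hc, hgen⟩ := h1_exists_gen5 (F := F)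
    have hc9 : 9 + c ≠ 0 := by
      intro h
      apply hp
      apply h1_prime_of_closure_int (-9)
      have : ((-9 : ℤ) : F) = c := by
        push_cast
        linear_combination -h
      rw [this]
      exact hgen
    exact ⟨u1 (0 + 5) F, Usl 0 (-1) c hc, u1_regular (by omega), h1_U_regular 0 (-1) c hc,
      h1_5_gen c hc hc9 hgen⟩

/-- **S2279 at `n = 5`**, literal form. -/
theorem h1_n5 [Fintype F] :
    (∃ u v : Matrix.SpecialLinearGroup (Fin 5) F,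
      (IsNilpotent ((u : Matrix (Fin 5) (Fin 5) F) - 1) ∧
        ((u : Matrix (Fin 5) (Fin 5) F) - 1) ^ (5 - 1) ≠ 0) ∧
      (IsNilpotent ((v : Matrix (Fin 5) (Fin 5) F) - 1) ∧
        ((v : Matrix (Fin 5) (Fin 5) F) - 1) ^ (5 - 1) ≠ 0) ∧
      Subgroup.closure ({u, v} : Set (Matrix.SpecialLinearGroup (Fin 5) F)) = ⊤) ∧
    ((Fintype.card F).Prime → ∃ u g : Matrix.SpecialLinearGroup (Fin 5) F,
      (IsNilpotent ((u : Matrix (Fin 5) (Fin 5) F) - 1) ∧
        ((u : Matrix (Fin 5) (Fin 5) F) - 1) ^ (5 - 1) ≠ 0) ∧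
      Subgroup.closure ({u, g * u * g⁻¹} : Set (Matrix.SpecialLinearGroup (Fin 5) F)) = ⊤) :=
  h1_n5'

end Cfsg.Agent.SLNG
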