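import Mathlib
import Cfsg.Agent.Helper8.RgGenD
import Cfsg.Agent.SLNG.H1_Core
import Cfsg.Agent.SLNG.H1_Psi

set_option autoImplicit false

/-!
S2279, piece `Norm` (helper2's trick O6): an element `Z` of `H` with `Z e_0 = -e_0` normalises the
root group `{1 + e_0 ⊗ ψ}`; if `ψ Z = ψ - (ψ · w) ψ0` on `e_0^⊥` and the numbers `(ψ0 N^j) · w`
generate the finite field `F`, then the axes fill `e_0^⊥`.  No seeds needed.
-/

namespace Cfsg.Agent.SLNG

open Matrix Cfsg.Agent.Helper8.RgGen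

variable {F : Type*} [Field F] {n : ℕ}

/-- scalars stabilising an additive subgroup of a finite field, set version. -/
theorem h1_scal_of_closure_set [Finite F] (P : F → Prop) (hP0 : P 0)
    (hadd : ∀ x y, P x → P y → P (x + y)) (hneg : ∀ x, P x → P (-x)) (T : Set F)
    (hT : ∀ t ∈ T, ∀ x, P x → P (t * x)) (hcl : Subfield.closure T = ⊤) (t : F) :
    ∀ x, P x → P (t * x) := by
  have := Fintype.ofFinite F
  have ht : t ∈ Subfield.closure T := by rw [hcl]; trivial
  have hpow : ∀ (y : F), (∀ x, P x → P (y * x)) → ∀ m : ℕ, ∀ x, P x → P ((y ^ m) * x) := by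
    intro y hy m
    induction m with
    | zero => intro x hx; simpa using hx
    | succ m ih =>
      intro x hx
      rw [pow_succ, mul_assoc]
      exact ih _ (hy x hx)
  induction ht using Subfield.closure_induction with
  | mem y hy => exact hT y hy
  | one => intro x hx; simpa using hx
  | add y z _ _ hy hz =>
    intro x hx
    rw [add_mul]
    exact hadd _ _ (hy x hx) (hz x hx)
  | neg y _ hy =>
    intro x hx
    rw [neg_mul]
    exact hneg _ (hy x hx)
  | inv y _ hy =>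
    intro x hx
    by_cases h0 : y = 0
    · subst h0
      simpa using hP0
    · have h1 : y ^ (Fintype.card F - 1) = 1 := FiniteField.pow_card_sub_one_eq_one y h0
      have h2 : 2 ≤ Fintype.card F := Fintype.one_lt_card
      have h3 : y⁻¹ = y ^ (Fintype.card F - 2) := by
        have : y * y ^ (Fintype.card F - 2) = 1 := by
          rw [← pow_succ']
          have : Fintype.card F - 2 + 1 = Fintype.card F - 1 := by omega
          rw [this, h1]
        exact inv_eq_of_mul_eq_one_right this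
      rw [h3]
      exact hpow y hy _ x hx
  | mul y z _ _ hy hz =>
    intro x hx
    rw [mul_assoc]
    exact hy _ (hz x hx)

/-- **Lemma A, normaliser form** (helper2's O6). -/
theorem h1_psi_full_norm [Finite F] (hn : 2 ≤ n)
    (H : Subgroup (Matrix.SpecialLinearGroup (Fin n) F)) (hv : u1 n F ∈ H)
    (Z : Matrix.SpecialLinearGroup (Fin n) F) (hZ : Z ∈ H)
    (hZe : (Z : Matrix (Fin n) (Fin n) F) *ᵥ bv n F 0 = -bv n F 0) (ψ0 w : Fin n → F)
    (h0 : TV H (bv n F 0) ψ0) (h01 : ψ0 ⬝ᵥ bv n F 1 ≠ 0)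
    (hZψ : ∀ ψ : Fin n → F, ψ ⬝ᵥ bv n F 0 = 0 →
      ψ ᵥ* (Z : Matrix (Fin n) (Fin n) F) = ψ - (ψ ⬝ᵥ w) • ψ0)
    (T : Set F) (hT : ∀ t ∈ T, ∃ j : ℕ, t = (ψ0 ᵥ* (Nm n F) ^ j) ⬝ᵥ w)
    (hcl : Subfield.closure T = ⊤) :
    ∀ ψ : Fin n → F, ψ ⬝ᵥ bv n F 0 = 0 → TV H (bv n F 0) ψ := by
  set e0 : Fin n → F := bv n F 0 with he0
  -- `Z⁻¹ e_0 = -e_0`
  have hZinv : ((Z⁻¹ : Matrix.SpecialLinearGroup (Fin n) F) : Matrix (Fin n) (Fin n) F) *ᵥ e0
      = -e0 := by
    have h1 : ((Z⁻¹ : Matrix.SpecialLinearGroup (Fin n) F) : Matrix (Fin n) (Fin n) F) *ᵥ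
        ((Z : Matrix (Fin n) (Fin n) F) *ᵥ e0) = e0 := by
      rw [Matrix.mulVec_mulVec, coe_inv_mul, Matrix.one_mulVec]
    rw [hZe, Matrix.mulVec_neg] at h1
    exact neg_eq_iff_eq_neg.mp h1
  -- (Z) the axes are stable under `ψ ↦ ψ Z`
  have stepZ : ∀ ψ : Fin n → F, TV H e0 ψ → TV H e0 (ψ ᵥ* (Z : Matrix (Fin n) (Fin n) F)) := by
    intro ψ hψ
    have c := hψ.conj (H.inv_mem hZ)
    rw [hZinv, inv_inv] at c
    have c' := c.neg
    rwa [neg_neg] at c'
  -- (D) `(ψ · w) ψ0` is an axis for every axis `ψ`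
  have stepD : ∀ ψ : Fin n → F, TV H e0 ψ → TV H e0 ((ψ ⬝ᵥ w) • ψ0) := by
    intro ψ hψ
    have h1 := stepZ ψ hψ
    rw [hZψ ψ hψ.orth] at h1
    have h2 := h1_tv_sub_right H hψ h1
    rwa [sub_sub_cancel] at h2
  -- scalars
  have hall : ∀ t : F, TV H e0 (t • ψ0) := by
    intro t
    have key := h1_scal_of_closure_set (fun r : F => TV H e0 (r • ψ0))
      (by rw [zero_smul]; exact h1_tv_zero_right H e0)
      (fun x y hx hy => by rw [add_smul]; exact h1_tv_add_right H hx hy)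
      (fun x hx => by rw [neg_smul]; exact h1_tv_neg_right H hx)
      T
      (by
        intro t ht r hr
        obtain ⟨j, rfl⟩ := hT t ht
        have s := h1_tv_shift_pow H hv j hr
        have d := stepD _ s
        rw [Matrix.smul_vecMul, smul_dotProduct, smul_eq_mul, mul_comm] at d
        exact d)
      hcl t 1 (by rw [one_smul]; exact h0)
    rwa [mul_one] at key
  -- (Δ) triangularity
  have hn0 : 0 < n := by omega
  have hn1 : 1 < n := by omega
  have he0s : e0 = Pi.single (⟨0, hn0⟩ : Fin n) 1 := bv_eq_single hn0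
  set i0 : Fin n := ⟨0, hn0⟩ with hi0
  have hvM : HasM H (1 + h1_N F n) := HasM.of_mem hv
  have hψ00 : ψ0 i0 = 0 := by
    have := h0.orth
    rw [he0s, dotProduct_single, mul_one] at this
    exact this
  have hψ01 : ψ0 (⟨1, hn1⟩ : Fin n) ≠ 0 := by
    have := h01
    rw [bv_eq_single hn1, dotProduct_single, mul_one] at this
    exact this
  have key := h1_tri_row
    (fun ψ : Fin n → F => ψ i0 = 0 ∧ ∀ t : F, HasM H (h1_TV (Pi.single i0 1) (t • ψ)))
    ⟨rfl, fun t => by rw [smul_zero, h1_TV_zero]; exact HasM.one⟩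
    (fun x y hx hy => ⟨by rw [Pi.add_apply, hx.1, hy.1, add_zero], fun t => by
      rw [smul_add, ← h1_TV_mul _ _ _ (by simp [hx.1])]
      exact (hx.2 t).mul (hy.2 t)⟩)
    (fun t' x hx => ⟨by rw [Pi.smul_apply, hx.1, smul_zero], fun t => by
      rw [smul_smul]; exact hx.2 _⟩)
    (fun x hx => ⟨h1_vecMul_N_zero x i0 rfl, fun t => by
      rw [← Matrix.smul_vecMul]
      exact h1_axes_shift i0 rfl hvM (t • x) (hx.2 t) (by rw [Pi.smul_apply, hx.1, smul_zero])⟩)
    ψ0 ⟨hψ00, fun t => by rw [← he0s]; exact hall t⟩ 1 hn1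
    (fun j hj => by
      have : j = i0 := Fin.ext (by simp only [hi0]; omega)
      rw [this]; exact hψ00)
    hψ01
  intro ψ hψ
  have hψi : ψ i0 = 0 := by
    rw [he0s, dotProduct_single, mul_one] at hψ
    exact hψ
  have := (key ψ (fun j hj => by
    have : j = i0 := Fin.ext (by simp only [hi0]; omega)
    rw [this]; exact hψi)).2 1
  rw [one_smul, ← he0s] at this
  exact this

end Cfsg.Agent.SLNG
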