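import Mathlib

set_option autoImplicit false

/-!
S2279, piece `Chain`: a matrix `M` of size `n` with a Jordan chain `W 1, …, W n`
(`M (W (j+1)) = W j`, `W 0 = 0`, `W 1 ≠ 0`) is nilpotent with `M ^ (n-1) ≠ 0`.
No determinant: the chain is linearly independent, hence a basis.
-/

namespace Cfsg.Agent.SLNG

open Matrix

variable {F : Type*} [Field F] {n : ℕ}

/-- powers of `M` move down the chain. -/
theorem h5_chain_pow (M : Matrix (Fin n) (Fin n) F) (W : ℕ → Fin n → F)
    (hstep : ∀ j, j < n → M *ᵥ W (j + 1) = W j) :
    ∀ k j : ℕ, j ≤ n → k ≤ j → (M ^ k) *ᵥ W j = W (j - k) := by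
  intro k
  induction k with
  | zero =>
    intro j _ _
    rw [pow_zero, one_mulVec, Nat.sub_zero]
  | succ k ih =>
    intro j hj hk
    obtain ⟨i, rfl⟩ : ∃ i, j = i + 1 := ⟨j - 1, by omega⟩
    rw [pow_succ, ← mulVec_mulVec, hstep i (by omega), ih i (by omega) (by omega)]
    congr 1
    omega

/-- a power at least the height kills a chain vector. -/
theorem h5_chain_kill (M : Matrix (Fin n) (Fin n) F) (W : ℕ → Fin n → F) (h0 : W 0 = 0)
    (hstep : ∀ j, j < n → M *ᵥ W (j + 1) = W j) (k j : ℕ) (hj : j ≤ n) (hk : j ≤ k) :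
    (M ^ k) *ᵥ W j = 0 := by
  obtain ⟨d, rfl⟩ : ∃ d, k = d + j := ⟨k - j, by omega⟩
  rw [pow_add, ← mulVec_mulVec, h5_chain_pow M W hstep j j hj le_rfl, Nat.sub_self, h0, mulVec_zero]

/-- the chain is linearly independent. -/
theorem h5_chain_li (M : Matrix (Fin n) (Fin n) F) (W : ℕ → Fin n → F) (h0 : W 0 = 0)
    (hstep : ∀ j, j < n → M *ᵥ W (j + 1) = W j) (h1 : W 1 ≠ 0) :
    LinearIndependent F (fun i : Fin n => W (i.val + 1)) := by
  rw [Fintype.linearIndependent_iff]
  intro g hg
  -- downward induction: `g i = 0` for all `i` with `m ≤ i`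
  have key : ∀ d : ℕ, ∀ i : Fin n, n ≤ i.val + d → g i = 0 := by
    intro d
    induction d with
    | zero =>
      intro i hi
      exact absurd i.isLt (by omega)
    | succ d ih =>
      intro i hi
      by_cases hlt : n ≤ i.val + d
      · exact ih i hlt
      · -- apply `M ^ i`
        have happ : (M ^ i.val) *ᵥ (∑ j : Fin n, g j • W (j.val + 1)) = 0 := by
          rw [hg, mulVec_zero]
        rw [mulVec_sum] at happ
        have hterm : ∀ j : Fin n, (M ^ i.val) *ᵥ (g j • W (j.val + 1))
            = if j = i then g i • W 1 else 0 := by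
          intro j
          rw [mulVec_smul]
          by_cases hji : j = i
          · subst hji
            rw [if_pos rfl, h5_chain_pow M W hstep j.val (j.val + 1) (by have := j.isLt; omega)
              (by omega)]
            congr 2
            omega
          · rw [if_neg hji]
            rcases Nat.lt_or_ge j.val i.val with h | h
            · rw [h5_chain_kill M W h0 hstep i.val (j.val + 1) (by have := j.isLt; omega) (by omega),
                smul_zero]
            · have hne : j.val ≠ i.val := fun h' => hji (Fin.ext h')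
              have hgj : g j = 0 := ih j (by omega)
              rw [hgj, zero_smul]
        rw [Finset.sum_congr rfl (fun j _ => hterm j), Finset.sum_ite_eq' Finset.univ i,
          if_pos (Finset.mem_univ i)] at happ
        rcases smul_eq_zero.mp happ with h | h
        · exact h
        · exact absurd h h1
  intro i
  exact key n i (by omega)

theorem h5_reg_of_chain (M : Matrix (Fin n) (Fin n) F) (W : ℕ → Fin n → F) (h0 : W 0 = 0)
    (hstep : ∀ j, j < n → M *ᵥ W (j + 1) = W j) (h1 : W 1 ≠ 0) (hn : 1 ≤ n) :
    IsNilpotent M ∧ M ^ (n - 1) ≠ 0 := by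
  constructor
  · refine ⟨n, ?_⟩
    have hli := h5_chain_li M W h0 hstep h1
    have : Nonempty (Fin n) := ⟨⟨0, by omega⟩⟩
    let b : Module.Basis (Fin n) F (Fin n → F) :=
      basisOfLinearIndependentOfCardEqFinrank hli (by simp)
    have hb : ∀ i : Fin n, b i = W (i.val + 1) := by
      intro i
      simp [b]
    have hlin : Matrix.toLin' (M ^ n) = 0 := by
      apply b.ext
      intro i
      rw [hb, Matrix.toLin'_apply, LinearMap.zero_apply]
      exact h5_chain_kill M W h0 hstep n (i.val + 1) (by have := i.isLt; omega)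
        (by have := i.isLt; omega)
    exact (LinearEquiv.map_eq_zero_iff _).mp hlin
  · intro hz
    have h := h5_chain_pow M W hstep (n - 1) n le_rfl (by omega)
    rw [hz, zero_mulVec] at h
    have : n - (n - 1) = 1 := by omega
    rw [this] at h
    exact h1 h.symm

end Cfsg.Agent.SLNG
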