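import Mathlib
import Cfsg.Agent.SLNG.H1_Core
import Cfsg.Agent.Helper8.RgGenD

/-!
# S2279 swarm (helper7): `SL_4(F)` for `|F| = 2, 3` — two conjugate regular unipotent generators

For `n = 4` the general family of the swarm degenerates over `F_2` and `F_3`.  Here: an explicit
`g ∈ SL_4(F_p)` (found by computer search) such that a short word in `v = 1 + N` and `U = g v g⁻¹` is a
transvection `1 + e_0 ⊗ ψ0` with `ψ0(e_1) ≠ 0`; then helper1's `h1_psi_full_prime` and `h1_top_of_centre`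
give `⟨v, U⟩ = SL_4(F)`.  The word identities are checked over `ZMod p` by `decide` and transported
along `ZMod p →+* F`.
-/

set_option autoImplicit false

namespace Cfsg.Agent.SLNG

open Matrix Cfsg.Agent.Helper8.RgGen

section core

variable {F : Type*} [Field F]

theorem h7_Nm_eq (n : ℕ) : Nm n F = h1_N F n := rfl

/-- the generic certificate -/
theorem h7_small_core [Fintype F] (hp : (Fintype.card F).Prime)
    (G Gi U Ui Vi : Matrix (Fin 4) (Fin 4) F) (ψ : Fin 4 → F)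
    (hG : G.det = 1) (hGi : Gi.det = 1) (hGGi : G * Gi = 1)
    (hU : U = G * (1 + Nm 4 F) * Gi) (hVVi : (1 + Nm 4 F) * Vi = 1) (hUUi : U * Ui = 1)
    (hψ0 : ψ 0 = 0) (hψ1 : ψ 1 ≠ 0) (hU30 : U 3 0 ≠ 0)
    (hword : ∀ H : Subgroup (SpecialLinearGroup (Fin 4) F), HasM H (1 + Nm 4 F) → HasM H Vi →
      HasM H U → HasM H Ui → HasM H (h1_TV (Pi.single 0 1) ψ)) :
    ∃ u g : SpecialLinearGroup (Fin 4) F,
      (IsNilpotent ((u : Matrix (Fin 4) (Fin 4) F) - 1) ∧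
        ((u : Matrix (Fin 4) (Fin 4) F) - 1) ^ (4 - 1) ≠ 0) ∧
      Subgroup.closure ({u, g * u * g⁻¹} : Set (SpecialLinearGroup (Fin 4) F)) = ⊤ := by
  set g : SpecialLinearGroup (Fin 4) F := ⟨G, hG⟩ with hg
  set gi : SpecialLinearGroup (Fin 4) F := ⟨Gi, hGi⟩ with hgi
  have hginv : g⁻¹ = gi := by
    symm
    apply eq_inv_of_mul_eq_one_right
    apply Subtype.ext
    show G * Gi = 1
    exact hGGi
  refine ⟨u1 4 F, g, u1_regular (by norm_num), ?_⟩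
  set H := Subgroup.closure ({u1 4 F, g * u1 4 F * g⁻¹} : Set (SpecialLinearGroup (Fin 4) F)) with hH
  have hV : HasM H (1 + Nm 4 F) :=
    ⟨u1 4 F, Subgroup.subset_closure (Set.mem_insert _ _), u1_coe⟩
  have hUH : HasM H U := by
    refine ⟨g * u1 4 F * g⁻¹, Subgroup.subset_closure (Set.mem_insert_of_mem _ rfl), ?_⟩
    rw [hginv, hU]
    rfl
  have hVi : HasM H Vi := hV.inv hVVi
  have hUi : HasM H Ui := hUH.inv hUUi
  have hT := hword H hV hVi hUH hUi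
  have hV' : HasM H (1 + h1_N F 4) := hV
  have hfull := h1_psi_full_prime hp (0 : Fin 4) (1 : Fin 4) rfl rfl hV' ψ hψ0 hψ1 hT
  exact h1_top_of_centre (0 : Fin 4) (3 : Fin 4) rfl (by norm_num) hV' hfull U hUH hU30

/-- a finite field of prime cardinality `p` has characteristic `p` -/
theorem h7_charP_of_card {p : ℕ} [Fintype F] (hp : p.Prime) (hF : Fintype.card F = p) : CharP F p := by
  obtain ⟨n, hq, hcard⟩ := FiniteField.card F (ringChar F)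
  have hdvd : ringChar F ∣ p := by
    rw [← hF, hcard]
    exact dvd_pow_self _ n.ne_zero
  have heq : ringChar F = p := ((Nat.dvd_prime hp).mp hdvd).resolve_left hq.one_lt.ne'
  rw [← heq]
  exact ringChar.charP F

theorem h7_map_one_add_Nm {K : Type*} [Field K] (φ : K →+* F) :
    (1 + Nm 4 K).map φ = 1 + Nm 4 F := by
  ext i j
  simp only [Matrix.map_apply, Matrix.add_apply, Matrix.one_apply, Nm_apply]
  split_ifs <;> simp

theorem h7_map_TV {K : Type*} [Field K] (φ : K →+* F) (a ψ : Fin 4 → K) :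
    (h1_TV a ψ).map φ = h1_TV (fun i => φ (a i)) (fun i => φ (ψ i)) := by
  ext i j
  simp only [h1_TV, Matrix.map_apply, Matrix.add_apply, Matrix.one_apply, vecMulVec_apply]
  split_ifs <;> simp

theorem h7_map_single {K : Type*} [Field K] (φ : K →+* F) :
    (fun i => φ ((Pi.single (0 : Fin 4) (1 : K) : Fin 4 → K) i)) = Pi.single (0 : Fin 4) (1 : F) := by
  funext i
  by_cases h : i = 0
  · subst h; simp
  · simp [h]

end core

/-! ### transport from `ZMod p` -/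

section transport

variable {F : Type*} [Field F]

/-- the value of a word in four letters -/
def h7_word {R : Type*} [Semiring R] (A : Fin 4 → Matrix (Fin 4) (Fin 4) R) (l : List (Fin 4)) :
    Matrix (Fin 4) (Fin 4) R := (l.map A).prod

theorem h7_word_hasM (H : Subgroup (SpecialLinearGroup (Fin 4) F))
    (A : Fin 4 → Matrix (Fin 4) (Fin 4) F) (hA : ∀ i, HasM H (A i)) (l : List (Fin 4)) :
    HasM H (h7_word A l) := by
  unfold h7_word
  induction l with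
  | nil => rw [List.map_nil, List.prod_nil]; exact HasM.one
  | cons a l ih => rw [List.map_cons, List.prod_cons]; exact (hA a).mul ih

theorem h7_word_map {K : Type*} [Field K] (φ : K →+* F) (A : Fin 4 → Matrix (Fin 4) (Fin 4) K)
    (l : List (Fin 4)) : (h7_word A l).map φ = h7_word (fun i => (A i).map φ) l := by
  unfold h7_word
  have := map_list_prod φ.mapMatrix (l.map A)
  rw [RingHom.mapMatrix_apply, List.map_map] at this
  rw [this]
  rfl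

/-- **transport of a certificate over `ZMod p`** -/
theorem h7_small_of_data [Fintype F] {p : ℕ} [hp : Fact p.Prime] (hcard : Fintype.card F = p)
    (G Gi U Ui Vi : Matrix (Fin 4) (Fin 4) (ZMod p)) (ψ0 : Fin 4 → ZMod p) (l : List (Fin 4))
    (hG : G.det = 1) (hGi : Gi.det = 1) (hGGi : G * Gi = 1)
    (hU : U = G * (1 + Nm 4 (ZMod p)) * Gi) (hVVi : (1 + Nm 4 (ZMod p)) * Vi = 1)
    (hUUi : U * Ui = 1) (hψ0 : ψ0 0 = 0) (hψ1 : ψ0 1 ≠ 0) (hU30 : U 3 0 ≠ 0)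
    (hword : h7_word ![1 + Nm 4 (ZMod p), Vi, U, Ui] l = h1_TV (Pi.single 0 1) ψ0) :
    ∃ u g : SpecialLinearGroup (Fin 4) F,
      (IsNilpotent ((u : Matrix (Fin 4) (Fin 4) F) - 1) ∧
        ((u : Matrix (Fin 4) (Fin 4) F) - 1) ^ (4 - 1) ≠ 0) ∧
      Subgroup.closure ({u, g * u * g⁻¹} : Set (SpecialLinearGroup (Fin 4) F)) = ⊤ := by
  haveI : CharP F p := h7_charP_of_card hp.out hcard
  let φ : ZMod p →+* F := ZMod.castHom (dvd_refl p) F
  have hinj : Function.Injective φ := φ.injective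
  have hone : (1 : Matrix (Fin 4) (Fin 4) (ZMod p)).map φ = 1 :=
    Matrix.map_one φ (map_zero φ) (map_one φ)
  have hdet : ∀ A : Matrix (Fin 4) (Fin 4) (ZMod p), A.det = 1 → (A.map φ).det = 1 := by
    intro A hA
    have := RingHom.map_det φ A
    rw [RingHom.mapMatrix_apply] at this
    rw [← this, hA, map_one]
  have hmul : ∀ A B : Matrix (Fin 4) (Fin 4) (ZMod p), A * B = 1 → A.map φ * B.map φ = 1 := by
    intro A B hAB
    rw [← Matrix.map_mul, hAB, hone]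
  refine h7_small_core (by rw [hcard]; exact hp.out) (G.map φ) (Gi.map φ) (U.map φ) (Ui.map φ)
    (Vi.map φ) (fun i => φ (ψ0 i)) (hdet G hG) (hdet Gi hGi) (hmul G Gi hGGi) ?_ ?_
    (hmul U Ui hUUi) ?_ ?_ ?_ ?_
  · rw [hU, Matrix.map_mul, Matrix.map_mul, h7_map_one_add_Nm]
  · rw [← h7_map_one_add_Nm φ]
    exact hmul _ _ hVVi
  · show φ (ψ0 0) = 0
    rw [hψ0, map_zero]
  · show φ (ψ0 1) ≠ 0
    intro h
    apply hψ1
    apply hinj
    rw [h, map_zero]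
  · rw [Matrix.map_apply]
    intro h
    apply hU30
    apply hinj
    rw [h, map_zero]
  · intro H hV hVi hUH hUi
    have hA : ∀ i : Fin 4, HasM H ((fun i => (![1 + Nm 4 (ZMod p), Vi, U, Ui] i).map φ) i) := by
      intro i
      fin_cases i
      · show HasM H ((1 + Nm 4 (ZMod p)).map φ)
        rw [h7_map_one_add_Nm]
        exact hV
      · exact hVi
      · exact hUH
      · exact hUi
    have h1 := h7_word_hasM H _ hA l
    rw [← h7_word_map, hword, h7_map_TV, h7_map_single] at h1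
    exact h1

end transport

/-! ### `|F| = 2` -/

section two

def h7_G2 : Matrix (Fin 4) (Fin 4) (ZMod 2) := !![0,1,1,1; 1,0,0,1; 1,1,0,1; 1,0,1,1]
def h7_Gi2 : Matrix (Fin 4) (Fin 4) (ZMod 2) := !![1,1,1,1; 0,1,1,0; 0,1,0,1; 1,0,1,1]
def h7_U2 : Matrix (Fin 4) (Fin 4) (ZMod 2) := !![0,1,1,0; 0,0,1,0; 0,0,0,1; 1,1,0,0]
def h7_Ui2 : Matrix (Fin 4) (Fin 4) (ZMod 2) := !![1,1,0,1; 1,1,0,0; 0,1,0,0; 0,0,1,0]
def h7_Vi2 : Matrix (Fin 4) (Fin 4) (ZMod 2) := !![1,1,1,1; 0,1,1,1; 0,0,1,1; 0,0,0,1]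
def h7_psi2 : Fin 4 → ZMod 2 := ![0,1,1,1]
/-- the word `v U v⁻¹ U v⁻¹ U U` (letters: `0 = v`, `1 = v⁻¹`, `2 = U`, `3 = U⁻¹`) -/
def h7_l2 : List (Fin 4) := [0, 2, 1, 2, 1, 2, 2]

set_option maxRecDepth 100000 in
theorem h7_two_data :
    h7_G2.det = 1 ∧ h7_Gi2.det = 1 ∧ h7_G2 * h7_Gi2 = 1 ∧
    h7_U2 = h7_G2 * (1 + Nm 4 (ZMod 2)) * h7_Gi2 ∧ (1 + Nm 4 (ZMod 2)) * h7_Vi2 = 1 ∧
    h7_U2 * h7_Ui2 = 1 ∧ h7_psi2 0 = 0 ∧ h7_psi2 1 ≠ 0 ∧ h7_U2 3 0 ≠ 0 ∧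
    h7_word ![1 + Nm 4 (ZMod 2), h7_Vi2, h7_U2, h7_Ui2] h7_l2
      = h1_TV (Pi.single 0 1) h7_psi2 := by
  unfold h7_G2 h7_Gi2 h7_U2 h7_Ui2 h7_Vi2 h7_psi2 h7_l2 h7_word h1_TV
  decide

theorem h7_n4_two {F : Type*} [Field F] [Fintype F] (hcard : Fintype.card F = 2) :
    ∃ u g : SpecialLinearGroup (Fin 4) F,
      (IsNilpotent ((u : Matrix (Fin 4) (Fin 4) F) - 1) ∧
        ((u : Matrix (Fin 4) (Fin 4) F) - 1) ^ (4 - 1) ≠ 0) ∧
      Subgroup.closure ({u, g * u * g⁻¹} : Set (SpecialLinearGroup (Fin 4) F)) = ⊤ := by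
  haveI : Fact (Nat.Prime 2) := ⟨Nat.prime_two⟩
  obtain ⟨h1, h2, h3, h4, h5, h6, h7, h8, h9, h10⟩ := h7_two_data
  exact h7_small_of_data hcard h7_G2 h7_Gi2 h7_U2 h7_Ui2 h7_Vi2 h7_psi2 h7_l2 h1 h2 h3 h4 h5 h6 h7
    h8 h9 h10

end two

/-! ### `|F| = 3` -/

section three

def h7_G3 : Matrix (Fin 4) (Fin 4) (ZMod 3) := !![0,0,2,1; 1,0,2,0; 1,2,1,2; 1,0,1,2]
def h7_Gi3 : Matrix (Fin 4) (Fin 4) (ZMod 3) := !![1,0,0,1; 0,0,2,1; 1,2,0,1; 2,2,0,1]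
def h7_U3 : Matrix (Fin 4) (Fin 4) (ZMod 3) := !![2,1,0,2; 1,2,2,0; 1,0,0,1; 2,2,2,0]
def h7_Ui3 : Matrix (Fin 4) (Fin 4) (ZMod 3) := !![0,2,0,1; 1,0,1,0; 2,1,2,1; 0,1,1,2]
def h7_Vi3 : Matrix (Fin 4) (Fin 4) (ZMod 3) := !![1,2,1,2; 0,1,2,1; 0,0,1,2; 0,0,0,1]
def h7_psi3 : Fin 4 → ZMod 3 := ![0,2,1,2]
/-- the word `U⁻¹ v U U U v⁻¹ U` -/
def h7_l3 : List (Fin 4) := [3, 0, 2, 2, 2, 1, 2]

set_option maxRecDepth 100000 in
theorem h7_three_data :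
    h7_G3.det = 1 ∧ h7_Gi3.det = 1 ∧ h7_G3 * h7_Gi3 = 1 ∧
    h7_U3 = h7_G3 * (1 + Nm 4 (ZMod 3)) * h7_Gi3 ∧ (1 + Nm 4 (ZMod 3)) * h7_Vi3 = 1 ∧
    h7_U3 * h7_Ui3 = 1 ∧ h7_psi3 0 = 0 ∧ h7_psi3 1 ≠ 0 ∧ h7_U3 3 0 ≠ 0 ∧
    h7_word ![1 + Nm 4 (ZMod 3), h7_Vi3, h7_U3, h7_Ui3] h7_l3
      = h1_TV (Pi.single 0 1) h7_psi3 := by
  unfold h7_G3 h7_Gi3 h7_U3 h7_Ui3 h7_Vi3 h7_psi3 h7_l3 h7_word h1_TV
  decide

theorem h7_n4_three {F : Type*} [Field F] [Fintype F] (hcard : Fintype.card F = 3) :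
    ∃ u g : SpecialLinearGroup (Fin 4) F,
      (IsNilpotent ((u : Matrix (Fin 4) (Fin 4) F) - 1) ∧
        ((u : Matrix (Fin 4) (Fin 4) F) - 1) ^ (4 - 1) ≠ 0) ∧
      Subgroup.closure ({u, g * u * g⁻¹} : Set (SpecialLinearGroup (Fin 4) F)) = ⊤ := by
  haveI : Fact (Nat.Prime 3) := ⟨Nat.prime_three⟩
  obtain ⟨h1, h2, h3, h4, h5, h6, h7, h8, h9, h10⟩ := h7_three_data
  exact h7_small_of_data hcard h7_G3 h7_Gi3 h7_U3 h7_Ui3 h7_Vi3 h7_psi3 h7_l3 h1 h2 h3 h4 h5 h6 h7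
    h8 h9 h10

end three

/-- **`SL_4(F)`, `|F| ∈ {2, 3}`: two conjugate regular unipotent generators.** -/
theorem h7_n4_small {F : Type*} [Field F] [Fintype F]
    (hcard : Fintype.card F = 2 ∨ Fintype.card F = 3) :
    ∃ u g : Matrix.SpecialLinearGroup (Fin 4) F,
      (IsNilpotent ((u : Matrix (Fin 4) (Fin 4) F) - 1) ∧
        ((u : Matrix (Fin 4) (Fin 4) F) - 1) ^ (4 - 1) ≠ 0) ∧
      Subgroup.closure ({u, g * u * g⁻¹} : Set (Matrix.SpecialLinearGroup (Fin 4) F)) = ⊤ := by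
  rcases hcard with h | h
  · exact h7_n4_two h
  · exact h7_n4_three h

end Cfsg.Agent.SLNG
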