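import Mathlib

set_option autoImplicit false

/-!
Counting lemma for the `n = 4`, characteristic `13` case of S2279: over a finite field of
characteristic `p ≥ 7` which is not a prime field, every cubic polynomial takes a value that
generates the field (as a field).
-/

namespace Cfsg.Agent.SLNG

open Polynomial

/-- `∑_{d=1}^{m} p^d ≤ 2 p^m` for `p ≥ 2`. -/
theorem h3_geom_le (p : ℕ) (hp : 2 ≤ p) (m : ℕ) :
    ∑ d ∈ Finset.Icc 1 m, p ^ d ≤ 2 * p ^ m := by
  induction m with
  | zero => simp
  | succ m ih =>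
    rw [Finset.sum_Icc_succ_top (by omega : 1 ≤ m + 1)]
    have h1 : 2 * p ^ m ≤ p ^ (m + 1) := by
      rw [pow_succ, mul_comm]
      exact Nat.mul_le_mul_left _ hp
    omega

/-- A proper subfield of a field with `p ^ k` elements is fixed by the `d`-th power of Frobenius
for some `1 ≤ d ≤ k / 2`. -/
theorem h3_proper_subfield {F : Type*} [Field F] [Fintype F] (p : ℕ) [Fact p.Prime] [CharP F p]
    (k : ℕ) (hk : Fintype.card F = p ^ k) (K : Subfield F) (hK : K ≠ ⊤) :
    ∃ d : ℕ, 1 ≤ d ∧ 2 * d ≤ k ∧ ∀ x ∈ K, x ^ (p ^ d) = x := by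
  classical
  have : Fintype K := Fintype.ofFinite K
  have hcK : CharP K p := (K.subtype).charP Subtype.val_injective p
  obtain ⟨d, -, hd⟩ := FiniteField.card K p
  have hpow : Fintype.card F = Fintype.card K ^ Module.finrank K F := Module.card_eq_pow_finrank
  have hp1 : 1 < p := (Fact.out : p.Prime).one_lt
  have hkdr : k = (d : ℕ) * Module.finrank K F := by
    rw [hk, hd, ← pow_mul] at hpow
    exact Nat.pow_right_injective hp1 hpow
  have hr2 : 2 ≤ Module.finrank K F := by
    by_contra hlt
    have h01 : Module.finrank K F = 0 ∨ Module.finrank K F = 1 := by omega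
    rcases h01 with h0 | h1
    · rw [h0, pow_zero] at hpow
      have := Fintype.one_lt_card (α := F)
      omega
    · apply hK
      rw [h1, pow_one] at hpow
      have hbij : Function.Bijective (Subtype.val : K → F) :=
        (Fintype.bijective_iff_injective_and_card _).2 ⟨Subtype.val_injective, hpow.symm⟩
      rw [eq_top_iff]
      intro x _
      obtain ⟨y, rfl⟩ := hbij.2 x
      exact y.2
  refine ⟨d, d.pos, ?_, ?_⟩
  · rw [hkdr]
    have := d.pos
    nlinarith
  · intro x hx
    have h := FiniteField.pow_card (⟨x, hx⟩ : K)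
    rw [hd] at h
    have h2 := congrArg (Subtype.val : K → F) h
    simpa using h2

/-- Over a non-prime finite field of characteristic `p ≥ 7`, a cubic polynomial takes a value
generating the field. -/
theorem h3_exists_cubic_gen {F : Type*} [Field F] [Fintype F] (p : ℕ) [Fact p.Prime] [CharP F p]
    (hp : 7 ≤ p) (hnp : ¬ (Fintype.card F).Prime) (P : Polynomial F) (hd : P.natDegree = 3) :
    ∃ s : F, Subfield.closure ({P.eval s} : Set F) = ⊤ := by
  classical
  obtain ⟨k, hpp, hk⟩ := FiniteField.card F p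
  have hk2 : 2 ≤ (k : ℕ) := by
    by_contra h
    have h1 : (k : ℕ) = 1 := by
      have := k.pos
      omega
    rw [h1, pow_one] at hk
    exact hnp (hk ▸ hpp)
  by_contra hcon
  push Not at hcon
  have hpow1 : ∀ d : ℕ, 1 ≤ d → 1 < p ^ d := fun d hd1 =>
    Nat.one_lt_pow (by omega) (by omega)
  let B : Finset F :=
    (Finset.Icc 1 ((k : ℕ) / 2)).biUnion (fun d => ((X : F[X]) ^ (p ^ d) - X).roots.toFinset)
  have hB : ∀ s : F, P.eval s ∈ B := by
    intro s
    obtain ⟨d, hd1, hd2, hx⟩ := h3_proper_subfield p k hk _ (hcon s)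
    have hxs := hx (P.eval s) (Subfield.subset_closure (Set.mem_singleton _))
    rw [Finset.mem_biUnion]
    refine ⟨d, Finset.mem_Icc.2 ⟨hd1, by omega⟩, ?_⟩
    rw [Multiset.mem_toFinset,
      Polynomial.mem_roots (FiniteField.X_pow_card_sub_X_ne_zero F (hpow1 d hd1))]
    simp [Polynomial.IsRoot, hxs]
  have hcardB : B.card ≤ 2 * p ^ ((k : ℕ) / 2) := by
    calc B.card
        ≤ ∑ d ∈ Finset.Icc 1 ((k : ℕ) / 2), (((X : F[X]) ^ (p ^ d) - X).roots.toFinset).card :=
          Finset.card_biUnion_le
      _ ≤ ∑ d ∈ Finset.Icc 1 ((k : ℕ) / 2), p ^ d := by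
          apply Finset.sum_le_sum
          intro d hdm
          have hd1 : 1 ≤ d := (Finset.mem_Icc.1 hdm).1
          calc (((X : F[X]) ^ (p ^ d) - X).roots.toFinset).card
              ≤ Multiset.card ((X : F[X]) ^ (p ^ d) - X).roots := Multiset.toFinset_card_le _
            _ ≤ ((X : F[X]) ^ (p ^ d) - X).natDegree := Polynomial.card_roots' _
            _ = p ^ d := FiniteField.X_pow_card_sub_X_natDegree_eq F (hpow1 d hd1)
      _ ≤ 2 * p ^ ((k : ℕ) / 2) := h3_geom_le p (by omega) _
  have hfib : ∀ b ∈ B, (Finset.univ.filter (fun s : F => P.eval s = b)).card ≤ 3 := by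
    intro b _
    have hdeg : (P - C b).natDegree = 3 := by rw [Polynomial.natDegree_sub_C, hd]
    have hne : P - C b ≠ 0 := by
      intro h0
      rw [h0] at hdeg
      simp at hdeg
    calc (Finset.univ.filter (fun s : F => P.eval s = b)).card
        ≤ (P - C b).roots.toFinset.card := by
          apply Finset.card_le_card
          intro s hs
          rw [Finset.mem_filter] at hs
          rw [Multiset.mem_toFinset, Polynomial.mem_roots hne]
          simp [Polynomial.IsRoot, hs.2]
      _ ≤ Multiset.card (P - C b).roots := Multiset.toFinset_card_le _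
      _ ≤ (P - C b).natDegree := Polynomial.card_roots' _
      _ = 3 := hdeg
  have hq : Fintype.card F ≤ 3 * B.card := by
    have h := Finset.card_le_mul_card_image_of_maps_to (s := (Finset.univ : Finset F)) (t := B)
      (f := fun s : F => P.eval s) (fun s _ => hB s) 3 hfib
    simpa using h
  have h1 : p ^ ((k : ℕ) / 2 + 1) ≤ p ^ (k : ℕ) :=
    Nat.pow_le_pow_right (by omega) (by omega)
  have h2 : 6 * p ^ ((k : ℕ) / 2) < p ^ ((k : ℕ) / 2 + 1) := by
    rw [pow_succ]
    have h0 : 0 < p ^ ((k : ℕ) / 2) := Nat.pow_pos (by omega)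
    nlinarith
  rw [hk] at hq
  omega

end Cfsg.Agent.SLNG
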