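import Mathlib
import Cfsg.Agent.SLNG.H1_N5
import Cfsg.Agent.SLNG.H3_Count

set_option autoImplicit false
set_option linter.unusedSectionVars false
set_option linter.unusedVariables false

/-! S2279 (helper2): choice of the parameter `s` for `n = 4` over a non-prime finite field. -/

namespace Cfsg.Agent.SLNG

open Polynomial

variable {F : Type*} [Field F]

/-- over a non-prime finite field a field generator is not an integer. -/
theorem gen_ne_int [Fintype F] (hnp : ¬ (Fintype.card F).Prime) (s : F)
    (hs : Subfield.closure ({s} : Set F) = ⊤) (k : ℤ) : s ≠ (k : F) := by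
  intro h
  apply hnp
  apply h1_prime_of_closure_int k
  rw [← h]
  exact hs

/-- over a non-prime finite field, an element of every subfield is not a generator. -/
theorem gen_not_mem_all [Fintype F] (hnp : ¬ (Fintype.card F).Prime) (s : F)
    (hs : Subfield.closure ({s} : Set F) = ⊤) (h : ∀ K : Subfield F, s ∈ K) : False := by
  apply hnp
  apply h1_prime_of_closure_int 1
  rw [eq_top_iff, ← hs, Subfield.closure_le]
  intro x hx
  rw [Set.mem_singleton_iff] at hx
  rw [hx]
  exact h _

/-- the two scalars produced by the normaliser trick at `n = 4`. -/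
def n4t1 (s : F) : F := -(13 * s ^ 2 + 130 * s + 220)

def n4t2 (s : F) : F := -((s + 5) * (s + 10) * (3 * s + 8))

theorem n4_mem_closure (s : F) (h13 : (13 : F) ≠ 0) (hs : 3 * s ^ 2 + 30 * s + 40 ≠ 0) :
    s ∈ Subfield.closure ({n4t1 s, n4t2 s} : Set F) := by
  set K := Subfield.closure ({n4t1 s, n4t2 s} : Set F) with hK
  have h1 : n4t1 s ∈ K := Subfield.subset_closure (by simp)
  have h2 : n4t2 s ∈ K := Subfield.subset_closure (by simp)
  have hnum : ∀ k : ℕ, ((k : ℕ) : F) ∈ K := fun k => natCast_mem K k
  have e13 : (13 : F) ∈ K := by exact_mod_cast hnum 13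
  have e220 : (220 : F) ∈ K := by exact_mod_cast hnum 220
  have e3 : (3 : F) ∈ K := by exact_mod_cast hnum 3
  have e40 : (40 : F) ∈ K := by exact_mod_cast hnum 40
  have e23 : (23 : F) ∈ K := by exact_mod_cast hnum 23
  have e400 : (400 : F) ∈ K := by exact_mod_cast hnum 400
  -- `w0 = s (s + 10)`
  have hw0 : s * (s + 10) = (-(n4t1 s) - 220) / 13 := by
    rw [n4t1]
    field_simp
    ring
  have hw0K : s * (s + 10) ∈ K := by
    rw [hw0]
    exact K.div_mem (K.sub_mem (K.neg_mem h1) e220) e13
  have hdK : 3 * (s * (s + 10)) + 40 ∈ K := K.add_mem (K.mul_mem e3 hw0K) e40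
  have hd : 3 * (s * (s + 10)) + 40 ≠ 0 := by
    have : 3 * (s * (s + 10)) + 40 = 3 * s ^ 2 + 30 * s + 40 := by ring
    rw [this]
    exact hs
  have hsK : s = (-(n4t2 s) - 23 * (s * (s + 10)) - 400) / (3 * (s * (s + 10)) + 40) := by
    rw [eq_div_iff hd, n4t2]
    ring
  rw [hsK]
  exact K.div_mem (K.sub_mem (K.sub_mem (K.neg_mem h2) (K.mul_mem e23 hw0K)) e400) hdK

/-- **choice of `s` at `n = 4`, non-prime `F`.** -/
theorem n4_exists_s [Fintype F] (hnp : ¬ (Fintype.card F).Prime) :
    ∃ s : F, s ≠ 0 ∧ s + 5 ≠ 0 ∧ s + 10 ≠ 0 ∧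
      Subfield.closure ({n4t1 s, n4t2 s} : Set F) = ⊤ := by
  classical
  -- it suffices to find a generator `s` with `closure {t1, t2} = ⊤`
  suffices h : ∃ s : F, Subfield.closure ({s} : Set F) = ⊤ ∧
      Subfield.closure ({n4t1 s, n4t2 s} : Set F) = ⊤ by
    obtain ⟨s, hs, hcl⟩ := h
    refine ⟨s, ?_, ?_, ?_, hcl⟩
    · have := gen_ne_int hnp s hs 0
      simpa using this
    · have := gen_ne_int hnp s hs (-5)
      intro h5
      apply this
      push_cast
      linear_combination h5
    · have := gen_ne_int hnp s hs (-10)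
      intro h10
      apply this
      push_cast
      linear_combination h10
  by_cases h13 : (13 : F) = 0
  · -- characteristic 13: counting lemma
    have hchar : CharP F 13 := by
      have : Fact (Nat.Prime 13) := ⟨by norm_num⟩
      exact (CharP.charP_iff_prime_eq_zero (by norm_num : Nat.Prime 13)).2 (by exact_mod_cast h13)
    have : Fact (Nat.Prime 13) := ⟨by norm_num⟩
    have h3 : (3 : F) ≠ 0 := by
      intro h
      have : (1 : F) = 0 := by linear_combination h13 - 4 * h
      exact one_ne_zero this
    set P : F[X] := -((X + C 5) * (X + C 10) * (C 3 * X + C 8)) with hP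
    have hdeg : P.natDegree = 3 := by
      rw [hP, natDegree_neg]
      have e1 : (X + C (5 : F)).natDegree = 1 := natDegree_X_add_C _
      have e2 : (X + C (10 : F)).natDegree = 1 := natDegree_X_add_C _
      have e3 : (C (3 : F) * X + C 8).natDegree = 1 := natDegree_linear h3
      have n1 : (X + C (5 : F)) ≠ 0 := by intro h; rw [h] at e1; simp at e1
      have n2 : (X + C (10 : F)) ≠ 0 := by intro h; rw [h] at e2; simp at e2
      have n3 : (C (3 : F) * X + C 8) ≠ 0 := by intro h; rw [h] at e3; simp at e3
      rw [natDegree_mul (mul_ne_zero n1 n2) n3, natDegree_mul n1 n2, e1, e2, e3]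
    obtain ⟨s, hs⟩ := h3_exists_cubic_gen 13 (by norm_num) hnp P hdeg
    have hev : P.eval s = n4t2 s := by
      rw [hP, n4t2]
      simp
    rw [hev] at hs
    have hcl : Subfield.closure ({n4t1 s, n4t2 s} : Set F) = ⊤ := by
      rw [eq_top_iff, ← hs]
      exact Subfield.closure_mono (by intro x hx; rw [Set.mem_singleton_iff] at hx; rw [hx]; simp)
    refine ⟨s, ?_, hcl⟩
    -- `t2 s ∈ closure {s}`
    rw [eq_top_iff, ← hs, Subfield.closure_le]
    intro x hx
    rw [Set.mem_singleton_iff] at hx
    rw [hx, n4t2]
    set K := Subfield.closure ({s} : Set F)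
    have hsK : s ∈ K := Subfield.subset_closure (Set.mem_singleton _)
    have hnum : ∀ k : ℕ, ((k : ℕ) : F) ∈ K := fun k => natCast_mem K k
    have e5 : (5 : F) ∈ K := by exact_mod_cast hnum 5
    have e10 : (10 : F) ∈ K := by exact_mod_cast hnum 10
    have e3 : (3 : F) ∈ K := by exact_mod_cast hnum 3
    have e8 : (8 : F) ∈ K := by exact_mod_cast hnum 8
    exact K.neg_mem (K.mul_mem (K.mul_mem (K.add_mem hsK e5) (K.add_mem hsK e10))
      (K.add_mem (K.mul_mem e3 hsK) e8))
  · obtain ⟨a, ha, hgen⟩ := h1_exists_gen5 (F := F)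
    by_cases hq : 3 * a ^ 2 + 30 * a + 40 = 0
    · -- take `s = a + 1`
      have hgen' : Subfield.closure ({a + 1} : Set F) = ⊤ := by
        rw [eq_top_iff, ← hgen, Subfield.closure_le]
        intro x hx
        rw [Set.mem_singleton_iff] at hx
        rw [hx]
        have h1 : a + 1 ∈ Subfield.closure ({a + 1} : Set F) :=
          Subfield.subset_closure (Set.mem_singleton _)
        have h2 := Subfield.sub_mem _ h1 (Subfield.one_mem (Subfield.closure ({a + 1} : Set F)))
        rwa [add_sub_cancel_right] at h2
      have hq' : 3 * (a + 1) ^ 2 + 30 * (a + 1) + 40 ≠ 0 := by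
        intro h
        have h6 : 6 * a + 33 = 0 := by linear_combination h - hq
        by_cases h2 : (2 : F) = 0
        · have : a ^ 2 = 0 := by linear_combination hq - (a ^ 2 + 15 * a + 20) * h2
          exact ha (pow_eq_zero_iff (by norm_num) |>.mp this)
        · by_cases h3 : (3 : F) = 0
          · have : (1 : F) = 0 := by linear_combination hq - (a ^ 2 + 10 * a + 13) * h3
            exact one_ne_zero this
          · have h60 : (6 : F) ≠ 0 := by
              have : (6 : F) = 2 * 3 := by norm_num
              rw [this]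
              exact mul_ne_zero h2 h3
            apply gen_not_mem_all hnp a hgen
            intro K
            have : a = -33 / 6 := by
              rw [eq_div_iff h60]
              linear_combination h6
            rw [this]
            have hnum : ∀ k : ℕ, ((k : ℕ) : F) ∈ K := fun k => natCast_mem K k
            have e33 : (33 : F) ∈ K := by exact_mod_cast hnum 33
            have e6 : (6 : F) ∈ K := by exact_mod_cast hnum 6
            exact K.div_mem (K.neg_mem e33) e6
      refine ⟨a + 1, hgen', ?_⟩
      rw [eq_top_iff, ← hgen', Subfield.closure_le]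
      intro x hx
      rw [Set.mem_singleton_iff] at hx
      rw [hx]
      exact n4_mem_closure (a + 1) h13 hq'
    · refine ⟨a, hgen, ?_⟩
      rw [eq_top_iff, ← hgen, Subfield.closure_le]
      intro x hx
      rw [Set.mem_singleton_iff] at hx
      rw [hx]
      exact n4_mem_closure a h13 hq

end Cfsg.Agent.SLNG
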