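import Mathlib
import Cfsg.Agent.SLNG.H1_N5
import Cfsg.Agent.SLNG.H1_Norm
import Cfsg.Agent.SLNG.N4Field
import Cfsg.Agent.SLNG.H5_Chain
import Cfsg.Agent.SLNG.H7_N4Small

set_option autoImplicit false

/-!
S2279, the case `n = 4` (backup by helper1): the one-parameter family `c = s + 5` of helper5/helper2,
with explicit `4 × 4` matrices.
-/

namespace Cfsg.Agent.SLNG

open Matrix Cfsg.Agent.Helper8.RgGen

variable {F : Type*} [Field F]

/-! ### the data -/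

def h1_4l (s : F) : Fin 4 → F := ![0, 0, s + 5, s + 5]
def h1_4m (s : F) : Fin 4 → F := ![1, 0, 0, -(s + 5)]
def h1_4mu1 (s : F) : Fin 4 → F := ![0, 1, -(2 + s) / (s + 5), s / (s + 5)]
def h1_4mu2 (s : F) : Fin 4 → F := ![-1, -(8 + s) / (s + 5), -1 / (s + 5), 1 / (s + 5)]

theorem h1_4_p11 (s : F) (hc : s + 5 ≠ 0) : h1_4mu1 s ⬝ᵥ h1_4l s = -2 := by
  simp only [h1_4mu1, h1_4l, dotProduct, Fin.sum_univ_four]
  simp
  field_simp
  ring

theorem h1_4_p21 (s : F) (hc : s + 5 ≠ 0) : h1_4mu2 s ⬝ᵥ h1_4l s = 0 := by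
  simp only [h1_4mu2, h1_4l, dotProduct, Fin.sum_univ_four]
  simp
  field_simp
  ring

theorem h1_4_p12 (s : F) (hc : s + 5 ≠ 0) : h1_4mu1 s ⬝ᵥ h1_4m s = -s := by
  simp only [h1_4mu1, h1_4m, dotProduct, Fin.sum_univ_four]
  simp
  field_simp
  ring

theorem h1_4_p22 (s : F) (hc : s + 5 ≠ 0) : h1_4mu2 s ⬝ᵥ h1_4m s = -2 := by
  simp only [h1_4mu2, h1_4m, dotProduct, Fin.sum_univ_four]
  simp
  field_simp
  ring

/-- `Y`. -/
def h1_4Y (s : F) : Matrix (Fin 4) (Fin 4) F := h1_Y (h1_4l s) (h1_4m s) (h1_4mu1 s) (h1_4mu2 s)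

theorem h1_4Y_det (s : F) (hc : s + 5 ≠ 0) : (h1_4Y s).det = 1 :=
  h1_Y_det _ _ _ _ s (h1_4_p11 s hc) (h1_4_p21 s hc) (h1_4_p12 s hc) (h1_4_p22 s hc)

def h1_4Ysl (s : F) (hc : s + 5 ≠ 0) : Matrix.SpecialLinearGroup (Fin 4) F :=
  ⟨h1_4Y s, h1_4Y_det s hc⟩

/-- `U = v * Y`. -/
def h1_4U (s : F) (hc : s + 5 ≠ 0) : Matrix.SpecialLinearGroup (Fin 4) F :=
  u1 4 F * h1_4Ysl s hc

/-- the explicit matrix of `U`. -/
def h1_4Um (s : F) : Matrix (Fin 4) (Fin 4) F :=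
  !![0, -3 / (s + 5), -1 / (s + 5), 1 / (s + 5);
     0, s + 6, -(s + 1), s;
     s + 5, 3 * s + 18, -2 * (s + 1), 2 * s;
     s + 5, 2 * s + 13, -(s + 1), s]

theorem h1_4U_coe (s : F) (hc : s + 5 ≠ 0) :
    ((h1_4U s hc : Matrix.SpecialLinearGroup (Fin 4) F) : Matrix (Fin 4) (Fin 4) F) = h1_4Um s := by
  rw [h1_4U, Matrix.SpecialLinearGroup.coe_mul, u1_coe]
  show (1 + Nm 4 F) * h1_4Y s = h1_4Um s
  ext i j
  fin_cases i <;> fin_cases j <;>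
  simp [h1_4Y, h1_Y, h1_4Um, h1_4l, h1_4m, h1_4mu1, h1_4mu2, Matrix.mul_apply, Fin.sum_univ_four,
    Nm_apply, Matrix.add_apply, Matrix.one_apply] <;>
  field_simp <;> ring

/-! ### generic facts on `h1_Y` -/

theorem h1_Y_mulVec {n : ℕ} (l m μ1 μ2 x : Fin n → F) :
    h1_Y l m μ1 μ2 *ᵥ x = x + (μ1 ⬝ᵥ x) • l + (μ2 ⬝ᵥ x) • m := by
  have : h1_Y l m μ1 μ2 = h1_TV l μ1 + h1_TV m μ2 - 1 := by
    simp only [h1_Y, h1_TV]; abel
  rw [this, Matrix.sub_mulVec, Matrix.add_mulVec, h1_TV_mulVec, h1_TV_mulVec, Matrix.one_mulVec]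
  abel

theorem h1_vecMul_Y {n : ℕ} (l m μ1 μ2 x : Fin n → F) :
    x ᵥ* h1_Y l m μ1 μ2 = x + (x ⬝ᵥ l) • μ1 + (x ⬝ᵥ m) • μ2 := by
  have : h1_Y l m μ1 μ2 = h1_TV l μ1 + h1_TV m μ2 - 1 := by
    simp only [h1_Y, h1_TV]; abel
  rw [this, Matrix.vecMul_sub, Matrix.vecMul_add, h1_vecMul_TV, h1_vecMul_TV, Matrix.vecMul_one]
  abel

/-! ### explicit vectors -/

theorem h1_4bv0 : bv 4 F 0 = ![1, 0, 0, 0] := by
  ext i; fin_cases i <;> simp [bv_apply]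

theorem h1_4bv1 : bv 4 F 1 = ![0, 1, 0, 0] := by
  ext i; fin_cases i <;> simp [bv_apply]

theorem h1_4bv2 : bv 4 F 2 = ![0, 0, 1, 0] := by
  ext i; fin_cases i <;> simp [bv_apply]

theorem h1_4bv3 : bv 4 F 3 = ![0, 0, 0, 1] := by
  ext i; fin_cases i <;> simp [bv_apply]

theorem h1_4Um_e0 (s : F) : h1_4Um s *ᵥ bv 4 F 0 = h1_4l s := by
  rw [h1_4bv0]
  ext i
  fin_cases i <;> simp [h1_4Um, h1_4l, Matrix.mulVec, dotProduct, Fin.sum_univ_four]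

/-- `ψ0 = -s μ2 U`, explicitly. -/
def h1_4psi0 (s : F) : Fin 4 → F :=
  ![0, s * (s + 10), -s * (s ^ 2 + 10 * s + 10) / (s + 5), s * (s ^ 2 + 9 * s + 1) / (s + 5)]

theorem h1_4psi0_eq (s : F) (hc : s + 5 ≠ 0) :
    (-s) • (h1_4mu2 s ᵥ* h1_4Um s) = h1_4psi0 s := by
  ext i
  fin_cases i
  · simp only [h1_4psi0, h1_4mu2, h1_4Um, Matrix.vecMul, dotProduct, Fin.sum_univ_four,
      Pi.smul_apply, smul_eq_mul]
    simp
    right
    field_simp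
    ring
  · simp only [h1_4psi0, h1_4mu2, h1_4Um, Matrix.vecMul, dotProduct, Fin.sum_univ_four,
      Pi.smul_apply, smul_eq_mul]
    simp
    field_simp
    ring
  · simp only [h1_4psi0, h1_4mu2, h1_4Um, Matrix.vecMul, dotProduct, Fin.sum_univ_four,
      Pi.smul_apply, smul_eq_mul]
    simp
    field_simp
    ring
  · simp only [h1_4psi0, h1_4mu2, h1_4Um, Matrix.vecMul, dotProduct, Fin.sum_univ_four,
      Pi.smul_apply, smul_eq_mul]
    simp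
    field_simp
    ring

/-- `m' = U⁻¹ m`. -/
def h1_4mp (s : F) : Fin 4 → F :=
  ![s + 6, -(s + 5), -3 * (s + 2) * (s + 5), -(3 * s + 8) * (s + 5)]

theorem h1_4Um_mp (s : F) (hc : s + 5 ≠ 0) : h1_4Um s *ᵥ h1_4mp s = h1_4m s := by
  ext i
  fin_cases i <;>
  simp [h1_4mp, h1_4m, h1_4Um, Matrix.mulVec, dotProduct, Fin.sum_univ_four] <;>
  field_simp <;> ring

/-! ### regular unipotency: a Jordan chain -/

/-- the Jordan chain of `U - 1` starting from `e_0`. -/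
def h1_4W (s : F) : ℕ → Fin 4 → F
  | 0 => 0
  | 1 => ![3, -(s + 5), -(s + 5) ^ 2, -(s + 5) ^ 2]
  | 2 => ![1, -(s + 5), -4 * (s + 5), -3 * (s + 5)]
  | 3 => ![-1, 0, s + 5, s + 5]
  | 4 => ![1, 0, 0, 0]
  | _ => 0

theorem h1_4U_regular (s : F) (hc : s + 5 ≠ 0) :
    IsNilpotent (((h1_4U s hc : Matrix.SpecialLinearGroup (Fin 4) F) :
        Matrix (Fin 4) (Fin 4) F) - 1) ∧
      (((h1_4U s hc : Matrix.SpecialLinearGroup (Fin 4) F) :
        Matrix (Fin 4) (Fin 4) F) - 1) ^ (4 - 1) ≠ 0 := by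
  rw [h1_4U_coe]
  refine h5_reg_of_chain (h1_4Um s - 1) (h1_4W s) rfl ?_ ?_ (by norm_num)
  · intro j hj
    interval_cases j
    · ext i
      fin_cases i <;>
      simp [h1_4W, h1_4Um, Matrix.mulVec, dotProduct, Fin.sum_univ_four] <;>
      field_simp <;> ring
    · ext i
      fin_cases i <;>
      simp [h1_4W, h1_4Um, Matrix.mulVec, dotProduct, Fin.sum_univ_four] <;>
      field_simp <;> ring
    · ext i
      fin_cases i <;>
      simp [h1_4W, h1_4Um, Matrix.mulVec, dotProduct, Fin.sum_univ_four] <;>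
      field_simp <;> ring
    · ext i
      fin_cases i <;>
      simp [h1_4W, h1_4Um, Matrix.mulVec, dotProduct, Fin.sum_univ_four] <;>
      field_simp <;> ring
  · intro h
    have := congrFun h 1
    simp [h1_4W] at this
    apply hc
    linear_combination -this

/-! ### the group-theoretic part -/

section gen

variable (s : F) (hc : s + 5 ≠ 0)

theorem h1_4U_e0 : ((h1_4U s hc : Matrix.SpecialLinearGroup (Fin 4) F) :
    Matrix (Fin 4) (Fin 4) F) *ᵥ bv 4 F 0 = h1_4l s := by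
  rw [h1_4U_coe, h1_4Um_e0]

theorem h1_4Uinv_l : (((h1_4U s hc)⁻¹ : Matrix.SpecialLinearGroup (Fin 4) F) :
    Matrix (Fin 4) (Fin 4) F) *ᵥ h1_4l s = bv 4 F 0 := by
  rw [← h1_4U_e0 s hc, Matrix.mulVec_mulVec, coe_inv_mul, Matrix.one_mulVec]

theorem h1_4Uinv_m : (((h1_4U s hc)⁻¹ : Matrix.SpecialLinearGroup (Fin 4) F) :
    Matrix (Fin 4) (Fin 4) F) *ᵥ h1_4m s = h1_4mp s := by
  rw [← h1_4Um_mp s hc, ← h1_4U_coe s hc, Matrix.mulVec_mulVec, coe_inv_mul, Matrix.one_mulVec]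

/-- generation follows from "all axes". -/
theorem h1_4_top_of_full (H : Subgroup (Matrix.SpecialLinearGroup (Fin 4) F)) (hv : u1 4 F ∈ H)
    (hU : h1_4U s hc ∈ H)
    (hfull : ∀ ψ : Fin 4 → F, ψ ⬝ᵥ bv 4 F 0 = 0 → TV H (bv 4 F 0) ψ) : H = ⊤ := by
  refine h5_spread_top (by norm_num) H hv _ hU (s + 5) hc ?_ hfull
  rw [h1_4U_e0]
  show h1_4l s = (s + 5) • (bv 4 F 3 + bv 4 F 2)
  rw [h1_4bv3, h1_4bv2]
  ext i
  fin_cases i <;> simp [h1_4l]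

/-- the transvection `1 + e_0 ⊗ ψ0` is in `H`. -/
theorem h1_4_tv_psi0 (H : Subgroup (Matrix.SpecialLinearGroup (Fin 4) F)) (hv : u1 4 F ∈ H)
    (hU : h1_4U s hc ∈ H) : TV H (bv 4 F 0) (h1_4psi0 s) := by
  have hUV : ((h1_4U s hc : Matrix.SpecialLinearGroup (Fin 4) F) : Matrix (Fin 4) (Fin 4) F)
      = (1 + h1_N F 4) * h1_Y (h1_4l s) (h1_4m s) (h1_4mu1 s) (h1_4mu2 s) := by
    rw [h1_4U, Matrix.SpecialLinearGroup.coe_mul, u1_coe]
    rfl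
  have hUe : ((h1_4U s hc : Matrix.SpecialLinearGroup (Fin 4) F) : Matrix (Fin 4) (Fin 4) F) *ᵥ
      Pi.single (0 : Fin 4) 1 = h1_4l s := by
    rw [← h1_4U_e0 s hc, bv_eq_single (by norm_num : 0 < 4)]
    rfl
  have hvM : HasM H (1 + h1_N F 4) := HasM.of_mem hv
  have key := h1_word (H := H) (0 : Fin 4) _ _ _ _ s (h1_4_p11 s hc) (h1_4_p21 s hc)
    (h1_4_p12 s hc) (h1_4_p22 s hc) _ _ (HasM.of_mem hU) hvM hUV hUe
  rw [h1_4U_coe, h1_4psi0_eq s hc] at key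
  rw [bv_eq_single (by norm_num : 0 < 4)]
  exact key

/-- the normalising element `Z = U⁻¹ Y U`. -/
def h1_4Z : Matrix.SpecialLinearGroup (Fin 4) F :=
  (h1_4U s hc)⁻¹ * h1_4Ysl s hc * h1_4U s hc

theorem h1_4Z_mem (H : Subgroup (Matrix.SpecialLinearGroup (Fin 4) F)) (hv : u1 4 F ∈ H)
    (hU : h1_4U s hc ∈ H) : h1_4Z s hc ∈ H := by
  have hY : h1_4Ysl s hc ∈ H := by
    have : h1_4Ysl s hc = (u1 4 F)⁻¹ * h1_4U s hc := by rw [h1_4U, inv_mul_cancel_left]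
    rw [this]
    exact H.mul_mem (H.inv_mem hv) hU
  exact H.mul_mem (H.mul_mem (H.inv_mem hU) hY) hU

theorem h1_4Z_coe : ((h1_4Z s hc : Matrix.SpecialLinearGroup (Fin 4) F) :
    Matrix (Fin 4) (Fin 4) F) =
    (((h1_4U s hc)⁻¹ : Matrix.SpecialLinearGroup (Fin 4) F) : Matrix (Fin 4) (Fin 4) F) *
      h1_4Y s * ((h1_4U s hc : Matrix.SpecialLinearGroup (Fin 4) F) : Matrix (Fin 4) (Fin 4) F) := by
  rw [h1_4Z, Matrix.SpecialLinearGroup.coe_mul, Matrix.SpecialLinearGroup.coe_mul]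
  rfl

theorem h1_4Z_e0 : ((h1_4Z s hc : Matrix.SpecialLinearGroup (Fin 4) F) :
    Matrix (Fin 4) (Fin 4) F) *ᵥ bv 4 F 0 = -bv 4 F 0 := by
  rw [h1_4Z_coe, ← Matrix.mulVec_mulVec, ← Matrix.mulVec_mulVec, h1_4U_e0, h1_4Y, h1_Y_mulVec,
    h1_4_p11 s hc, h1_4_p21 s hc]
  have : h1_4l s + (-2 : F) • h1_4l s + (0 : F) • h1_4m s = -h1_4l s := by module
  rw [this, Matrix.mulVec_neg, h1_4Uinv_l]

theorem h1_4Z_vecMul (hs : s ≠ 0) (ψ : Fin 4 → F) (hψ : ψ ⬝ᵥ bv 4 F 0 = 0) :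
    ψ ᵥ* ((h1_4Z s hc : Matrix.SpecialLinearGroup (Fin 4) F) : Matrix (Fin 4) (Fin 4) F)
      = ψ - (ψ ⬝ᵥ (s⁻¹ • h1_4mp s)) • h1_4psi0 s := by
  rw [h1_4Z_coe, ← Matrix.vecMul_vecMul, ← Matrix.vecMul_vecMul, h1_4Y, h1_vecMul_Y,
    ← Matrix.dotProduct_mulVec, ← Matrix.dotProduct_mulVec, h1_4Uinv_l, h1_4Uinv_m, hψ, zero_smul,
    add_zero, Matrix.add_vecMul, Matrix.vecMul_vecMul, coe_inv_mul, Matrix.vecMul_one,
    Matrix.smul_vecMul, ← h1_4psi0_eq s hc, ← h1_4U_coe s hc, dotProduct_smul, smul_eq_mul, smul_smul]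
  have h : s⁻¹ * (ψ ⬝ᵥ h1_4mp s) * -s = -(ψ ⬝ᵥ h1_4mp s) := by
    field_simp
  rw [h, neg_smul, sub_neg_eq_add]

theorem h1_4shift (a b c d : F) : ![a, b, c, d] ᵥ* Nm 4 F = ![0, a, b, c] := by
  ext i
  fin_cases i <;> simp [Matrix.vecMul, dotProduct, Fin.sum_univ_four, Nm_apply]

theorem h1_4_t1 (hs : s ≠ 0) (hc5 : s + 5 ≠ 0) :
    (h1_4psi0 s ᵥ* (Nm 4 F) ^ 1) ⬝ᵥ (s⁻¹ • h1_4mp s) = n4t1 s := by
  rw [pow_one, h1_4psi0, h1_4shift]
  simp only [h1_4mp, n4t1, dotProduct, Fin.sum_univ_four, Pi.smul_apply, smul_eq_mul]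
  simp
  field_simp
  ring

theorem h1_4_t2 (hs : s ≠ 0) (hc5 : s + 5 ≠ 0) :
    (h1_4psi0 s ᵥ* (Nm 4 F) ^ 2) ⬝ᵥ (s⁻¹ • h1_4mp s) = n4t2 s := by
  rw [pow_two, ← Matrix.vecMul_vecMul, h1_4psi0, h1_4shift, h1_4shift]
  simp only [h1_4mp, n4t2, dotProduct, Fin.sum_univ_four, Pi.smul_apply, smul_eq_mul]
  simp
  field_simp
  ring

theorem h1_4_psi0_bv1 : h1_4psi0 s ⬝ᵥ bv 4 F 1 = s * (s + 10) := by
  rw [h1_4bv1]
  simp [h1_4psi0, dotProduct, Fin.sum_univ_four]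

/-- **generation, non-prime fields** (helper2's normaliser trick). -/
theorem h1_4_gen_nonprime [Finite F] (hs : s ≠ 0) (h10 : s + 10 ≠ 0)
    (hcl : Subfield.closure ({n4t1 s, n4t2 s} : Set F) = ⊤) :
    Subgroup.closure ({u1 4 F, h1_4U s hc} : Set (Matrix.SpecialLinearGroup (Fin 4) F)) = ⊤ := by
  set H := Subgroup.closure ({u1 4 F, h1_4U s hc} : Set (Matrix.SpecialLinearGroup (Fin 4) F))
    with hH
  have hv : u1 4 F ∈ H := Subgroup.subset_closure (by simp)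
  have hU : h1_4U s hc ∈ H := Subgroup.subset_closure (by simp)
  have h0 := h1_4_tv_psi0 s hc H hv hU
  have hfull := h1_psi_full_norm (by norm_num) H hv (h1_4Z s hc) (h1_4Z_mem s hc H hv hU)
    (h1_4Z_e0 s hc) (h1_4psi0 s) (s⁻¹ • h1_4mp s) h0
    (by rw [h1_4_psi0_bv1]; exact mul_ne_zero hs h10)
    (fun ψ hψ => h1_4Z_vecMul s hc hs ψ hψ) ({n4t1 s, n4t2 s} : Set F)
    (by
      intro t ht
      rcases ht with rfl | ht
      · exact ⟨1, (h1_4_t1 s hs hc).symm⟩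
      · rw [Set.mem_singleton_iff] at ht
        subst ht
        exact ⟨2, (h1_4_t2 s hs hc).symm⟩)
    hcl
  exact h1_4_top_of_full s hc H hv hU hfull

/-- **generation, prime fields**. -/
theorem h1_4_gen_prime [Fintype F] (hp : (Fintype.card F).Prime) (hs : s ≠ 0) (h10 : s + 10 ≠ 0) :
    Subgroup.closure ({u1 4 F, h1_4U s hc} : Set (Matrix.SpecialLinearGroup (Fin 4) F)) = ⊤ := by
  set H := Subgroup.closure ({u1 4 F, h1_4U s hc} : Set (Matrix.SpecialLinearGroup (Fin 4) F))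
    with hH
  have hv : u1 4 F ∈ H := Subgroup.subset_closure (by simp)
  have hU : h1_4U s hc ∈ H := Subgroup.subset_closure (by simp)
  have h0 := h1_4_tv_psi0 s hc H hv hU
  have hfull := h1_psi_full_prime_bv hp (by norm_num) H hv (h1_4psi0 s) h0
    (by rw [h1_4_psi0_bv1]; exact mul_ne_zero hs h10)
  exact h1_4_top_of_full s hc H hv hU hfull

end gen

/-! ### conjugacy at `s = -6` (`c = -1`) -/

/-- the columns of `P` are the Jordan chain of `U - 1` at `s = -6`. -/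
def h1_4P : Matrix (Fin 4) (Fin 4) F := !![3, 1, -1, 1; 1, 1, 0, 0; -1, 4, -1, 0; -1, 3, -1, 0]

theorem h1_4P_det : (h1_4P : Matrix (Fin 4) (Fin 4) F).det = 1 := by
  rw [h1_4P, Matrix.det_succ_row_zero]
  simp [Fin.sum_univ_succ, Matrix.det_fin_three, Fin.succAbove, Matrix.submatrix]
  ring

theorem h1_4P_mul : h1_4Um (-6 : F) * h1_4P = h1_4P * (1 + Nm 4 F) := by
  have h1 : (-6 : F) + 5 = -1 := by norm_num
  ext i j
  fin_cases i <;> fin_cases j <;>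
  simp [h1_4Um, h1_4P, h1, Matrix.mul_apply, Fin.sum_univ_four, Nm_apply, Matrix.add_apply,
    Matrix.one_apply] <;>
  norm_num

def h1_4Psl : Matrix.SpecialLinearGroup (Fin 4) F := ⟨h1_4P, h1_4P_det⟩

theorem h1_4U_conj (hc : (-6 : F) + 5 ≠ 0) :
    ∃ g : Matrix.SpecialLinearGroup (Fin 4) F, h1_4U (-6 : F) hc = g * u1 4 F * g⁻¹ := by
  refine ⟨h1_4Psl, ?_⟩
  rw [eq_mul_inv_iff_mul_eq]
  apply Subtype.ext
  rw [Matrix.SpecialLinearGroup.coe_mul, Matrix.SpecialLinearGroup.coe_mul, h1_4U_coe, u1_coe]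
  exact h1_4P_mul

/-! ### assembly: `n = 4` -/

theorem h1_natprime_ne_zero_of_prime [Fintype F] (hp : (Fintype.card F).Prime) (q : ℕ)
    (hq : q.Prime) (h : Fintype.card F ≠ q) : ((q : ℕ) : F) ≠ 0 := by
  have hchar : CharP F (Fintype.card F) :=
    (CharP.charP_iff_prime_eq_zero hp).2 (Nat.cast_card_eq_zero F)
  intro h'
  rw [CharP.cast_eq_zero_iff F (Fintype.card F) q] at h'
  rcases (Nat.dvd_prime hq).mp h' with h1 | h1
  · exact hp.one_lt.ne' h1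
  · exact h h1

/-- **S2279 at `n = 4`**. -/
theorem h1_n4 [Fintype F] :
    (∃ u v : Matrix.SpecialLinearGroup (Fin 4) F,
      (IsNilpotent ((u : Matrix (Fin 4) (Fin 4) F) - 1) ∧
        ((u : Matrix (Fin 4) (Fin 4) F) - 1) ^ (4 - 1) ≠ 0) ∧
      (IsNilpotent ((v : Matrix (Fin 4) (Fin 4) F) - 1) ∧
        ((v : Matrix (Fin 4) (Fin 4) F) - 1) ^ (4 - 1) ≠ 0) ∧
      Subgroup.closure ({u, v} : Set (Matrix.SpecialLinearGroup (Fin 4) F)) = ⊤) ∧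
    ((Fintype.card F).Prime → ∃ u g : Matrix.SpecialLinearGroup (Fin 4) F,
      (IsNilpotent ((u : Matrix (Fin 4) (Fin 4) F) - 1) ∧
        ((u : Matrix (Fin 4) (Fin 4) F) - 1) ^ (4 - 1) ≠ 0) ∧
      Subgroup.closure ({u, g * u * g⁻¹} : Set (Matrix.SpecialLinearGroup (Fin 4) F)) = ⊤) := by
  by_cases hp : (Fintype.card F).Prime
  · by_cases h23 : Fintype.card F = 2 ∨ Fintype.card F = 3
    · obtain ⟨u, g, hu, hgen⟩ := h7_n4_small (F := F) h23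
      exact ⟨⟨u, g * u * g⁻¹, hu, h1_regular_conj g u _ hu, hgen⟩, fun _ => ⟨u, g, hu, hgen⟩⟩
    · push Not at h23
      have h2 : (2 : F) ≠ 0 := by
        have := h1_natprime_ne_zero_of_prime hp 2 Nat.prime_two h23.1
        exact_mod_cast this
      have h3 : (3 : F) ≠ 0 := by
        have := h1_natprime_ne_zero_of_prime hp 3 Nat.prime_three h23.2
        exact_mod_cast this
      have hc : (-6 : F) + 5 ≠ 0 := by norm_num
      have hs : (-6 : F) ≠ 0 := by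
        have : (-6 : F) = -(2 * 3) := by norm_num
        rw [this]
        exact neg_ne_zero.mpr (mul_ne_zero h2 h3)
      have h10 : (-6 : F) + 10 ≠ 0 := by
        have : (-6 : F) + 10 = 2 * 2 := by norm_num
        rw [this]
        exact mul_ne_zero h2 h2
      have hgen := h1_4_gen_prime (-6 : F) hc hp hs h10
      obtain ⟨g, hg⟩ := h1_4U_conj (F := F) hc
      refine ⟨⟨u1 4 F, h1_4U (-6 : F) hc, u1_regular (by norm_num), h1_4U_regular _ hc, hgen⟩,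
        fun _ => ⟨u1 4 F, g, u1_regular (by norm_num), ?_⟩⟩
      rw [← hg]
      exact hgen
  · refine ⟨?_, fun h => absurd h hp⟩
    obtain ⟨s, hs, hc, h10, hcl⟩ := n4_exists_s (F := F) hp
    exact ⟨u1 4 F, h1_4U s hc, u1_regular (by norm_num), h1_4U_regular s hc,
      h1_4_gen_nonprime s hc hs h10 hcl⟩

end Cfsg.Agent.SLNG
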