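import Mathlib
import Cfsg.Agent.SLNG.H1_N5

set_option autoImplicit false

/-!
# S2279 swarm (helper8): assembly glue

`h8_Concl F n` is the conclusion of S2279 at degree `n`, spelled exactly as in the template;
`h8_asm` glues the cases `n = 4`, `n = 5` (helper1's `h1_n5`) and `n = m + 6`.
-/

namespace Cfsg.Agent.SLNG

open Matrix

variable {F : Type*} [Field F] [Fintype F]

/-- the conclusion of S2279 at degree `n` (template spelling). -/
def h8_Concl (F : Type*) [Field F] [Fintype F] (n : ℕ) : Prop :=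
  (∃ u v : Matrix.SpecialLinearGroup (Fin n) F, (IsNilpotent ((u : Matrix (Fin n) (Fin n) F) - 1) ∧ ((u : Matrix (Fin n) (Fin n) F) - 1) ^ (n - 1) ≠ 0) ∧ (IsNilpotent ((v : Matrix (Fin n) (Fin n) F) - 1) ∧ ((v : Matrix (Fin n) (Fin n) F) - 1) ^ (n - 1) ≠ 0) ∧
      Subgroup.closure ({u, v} : Set (Matrix.SpecialLinearGroup (Fin n) F)) = ⊤) ∧
    ((Fintype.card F).Prime → ∃ u g : Matrix.SpecialLinearGroup (Fin n) F, (IsNilpotent ((u : Matrix (Fin n) (Fin n) F) - 1) ∧ ((u : Matrix (Fin n) (Fin n) F) - 1) ^ (n - 1) ≠ 0) ∧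
      Subgroup.closure ({u, g * u * g⁻¹} : Set (Matrix.SpecialLinearGroup (Fin n) F)) = ⊤)

/-- a conjugate pair gives both clauses. -/
theorem h8_concl_of_conj {n : ℕ} (u g : Matrix.SpecialLinearGroup (Fin n) F)
    (hu : IsNilpotent ((u : Matrix (Fin n) (Fin n) F) - 1) ∧
      ((u : Matrix (Fin n) (Fin n) F) - 1) ^ (n - 1) ≠ 0)
    (hcl : Subgroup.closure ({u, g * u * g⁻¹} : Set (Matrix.SpecialLinearGroup (Fin n) F)) = ⊤) :
    h8_Concl F n :=
  ⟨⟨u, g * u * g⁻¹, hu, h1_regular_conj g u (n - 1) hu, hcl⟩, fun _ => ⟨u, g, hu, hcl⟩⟩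

/-- over a non-prime field any pair of regular unipotent generators will do. -/
theorem h8_concl_of_nonprime {n : ℕ} (hp : ¬ (Fintype.card F).Prime)
    (u v : Matrix.SpecialLinearGroup (Fin n) F)
    (hu : IsNilpotent ((u : Matrix (Fin n) (Fin n) F) - 1) ∧
      ((u : Matrix (Fin n) (Fin n) F) - 1) ^ (n - 1) ≠ 0)
    (hv : IsNilpotent ((v : Matrix (Fin n) (Fin n) F) - 1) ∧
      ((v : Matrix (Fin n) (Fin n) F) - 1) ^ (n - 1) ≠ 0)
    (hcl : Subgroup.closure ({u, v} : Set (Matrix.SpecialLinearGroup (Fin n) F)) = ⊤) :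
    h8_Concl F n :=
  ⟨⟨u, v, hu, hv, hcl⟩, fun h => absurd h hp⟩

/-- the clause for prime fields alone gives everything when the field is prime. -/
theorem h8_concl_of_prime_clause {n : ℕ} (_hp : (Fintype.card F).Prime)
    (h : ∃ u g : Matrix.SpecialLinearGroup (Fin n) F, (IsNilpotent ((u : Matrix (Fin n) (Fin n) F) - 1) ∧ ((u : Matrix (Fin n) (Fin n) F) - 1) ^ (n - 1) ≠ 0) ∧
      Subgroup.closure ({u, g * u * g⁻¹} : Set (Matrix.SpecialLinearGroup (Fin n) F)) = ⊤) :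
    h8_Concl F n := by
  obtain ⟨u, g, hu, hcl⟩ := h
  exact h8_concl_of_conj u g hu hcl

theorem h8_concl_five : h8_Concl F 5 := h1_n5

/-- **assembly**: the cases `n = 4` and `n = m + 6` give S2279. -/
theorem h8_asm (h4 : h8_Concl F 4) (h6 : ∀ m : ℕ, h8_Concl F (m + 6)) (n : ℕ) (hn : 4 ≤ n) :
    h8_Concl F n := by
  rcases Nat.lt_or_ge n 6 with h | h
  · interval_cases n
    · exact h4
    · exact h8_concl_five
  · obtain ⟨m, rfl⟩ : ∃ m, n = m + 6 := ⟨n - 6, by omega⟩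
    exact h6 m

/-- the same with the degree written `m + 1 + 5` (the form of `SLNG/Base.lean`). -/
theorem h8_asm' (h4 : h8_Concl F 4) (h6 : ∀ m : ℕ, h8_Concl F (m + 1 + 5)) (n : ℕ) (hn : 4 ≤ n) :
    h8_Concl F n := by
  rcases Nat.lt_or_ge n 6 with h | h
  · interval_cases n
    · exact h4
    · exact h8_concl_five
  · obtain ⟨m, rfl⟩ : ∃ m, n = m + 1 + 5 := ⟨n - 6, by omega⟩
    exact h6 m

end Cfsg.Agent.SLNG
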