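import Mathlib
import Cfsg.Agent.SLNG.Base
import Cfsg.Agent.SLNG.H1_Psi
import Cfsg.Agent.SLNG.H5_Spread

set_option autoImplicit false
set_option linter.unusedSectionVars false
set_option linter.unusedVariables false
set_option linter.unusedSimpArgs false

/-! S2279 (helper2): `⟨v, U⟩ = SL_n(F)` for `n ≥ 6`. -/

namespace Cfsg.Agent.SLNG

open Matrix Cfsg.Agent.Helper8.RgGen

variable {F : Type*} [Field F]

theorem dl_bv_top (m : ℕ) (c : F) : bv (m + 5) F (m + 4) ⬝ᵥ dl m c = c := by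
  simp only [dl, dotProduct_smul, dotProduct_add, bvd (m+5) (m+4) _ (by omega)]
  simp

theorem dl_bv_top' (m : ℕ) (c : F) : bv (m + 5) F (m + 3) ⬝ᵥ dl m c = c := by
  simp only [dl, dotProduct_smul, dotProduct_add, bvd (m+5) (m+3) _ (by omega)]
  simp

theorem dk_bv_top (m : ℕ) (s c : F) : bv (m + 5) F (m + 4) ⬝ᵥ dk m s c = c * (1 + s) := by
  simp only [dk, dotProduct_smul, dotProduct_add, bvd (m+5) (m+4) _ (by omega)]
  simp

theorem dk_bv_top' (m : ℕ) (s c : F) : bv (m + 5) F (m + 3) ⬝ᵥ dk m s c = c * s := by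
  simp only [dk, dotProduct_smul, dotProduct_add, bvd (m+5) (m+3) _ (by omega)]
  simp

/-- generation for `n = m + 6 ≥ 6`: `s = z` an integer with `z (10 + z) ≠ 0` in `F`, and
`ρ = s² (10 + s) c` generating `F`. -/
theorem gen_top [Finite F] (m : ℕ) (z : ℤ) (c : F) (hc : c ≠ 0)
    (hz : ((z * (10 + z) : ℤ) : F) ≠ 0)
    (hρ : Subfield.closure ({(z : F) * ((z : F) * (10 + (z : F)) * c)} : Set F) = ⊤) :
    Subgroup.closure ({u1 (m + 1 + 5) F, Usl (m + 1) (z : F) c hc} :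
      Set (Matrix.SpecialLinearGroup (Fin (m + 1 + 5)) F)) = ⊤ := by
  set H := Subgroup.closure ({u1 (m + 1 + 5) F, Usl (m + 1) (z : F) c hc} :
      Set (Matrix.SpecialLinearGroup (Fin (m + 1 + 5)) F)) with hH
  have hv : u1 (m + 1 + 5) F ∈ H := Subgroup.subset_closure (by simp)
  have hU : Usl (m + 1) (z : F) c hc ∈ H := Subgroup.subset_closure (by simp)
  set s : F := (z : F) with hs
  set lam : F := s * (10 + s) with hlam
  have hlam0 : lam ≠ 0 := by
    have : ((z * (10 + z) : ℤ) : F) = lam := by push_cast; rfl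
    rwa [this] at hz
  have h0 := tv_psi0 (m + 1) s c hc H hv hU
  have h00 : dpsi0 (m + 1) s c hc ⬝ᵥ bv (m + 1 + 5) F 0 = 0 := h0.orth
  have hb1 := dpsi0_bv1 m s c hc
  have hb2 := dpsi0_bv2 m s c hc
  -- the two top shifts
  have ha := h1_tv_shift_pow H hv (m + 4) h0
  have hb := h1_tv_shift_pow H hv (m + 3) h0
  have ea := shift_top (F := F) (m + 3) (dpsi0 (m + 1) s c hc) h00
  have eb := shift_top2 (F := F) (m + 3) (dpsi0 (m + 1) s c hc) h00
  rw [hb1] at ea eb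
  rw [hb2] at eb
  rw [ea] at ha
  rw [eb] at hb
  -- ψ1
  have h1 := h1_tv_add_right H (h1_tv_zsmul_right H (z * (10 + z)) hb)
    (h1_tv_zsmul_right H (-(z * (10 + z) + 2 * z)) ha)
  have e1 : (z * (10 + z)) • (lam • bv (m + 3 + 3) F (m + 3 + 1) + (2 * s) • bv (m + 3 + 3) F (m + 3 + 2))
      + (-(z * (10 + z) + 2 * z)) • (lam • bv (m + 3 + 3) F (m + 3 + 2))
      = (lam * lam) • (bv (m + 1 + 5) F (m + 1 + 3) - bv (m + 1 + 5) F (m + 1 + 4)) := by
    rw [← Int.cast_smul_eq_zsmul F, ← Int.cast_smul_eq_zsmul F]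
    push_cast
    rw [← hs, ← hlam]
    show _ = (lam * lam) • (bv (m + 3 + 3) F (m + 3 + 1) - bv (m + 3 + 3) F (m + 3 + 2))
    module
  rw [e1] at h1
  refine h5_spread_top (by omega) H hv _ hU c hc (Usl_e0 (m + 1) s c hc) ?_
  refine h1_psi_full H (by omega) hv _ hU (dl (m + 1) c) (dk (m + 1) s c)
    (Usl_e0 (m + 1) s c hc) (Usl_dk (m + 1) s c hc) _ _ _ _ h0 h0 ha h1 ?_ ?_ ?_ ?_
  · rw [dpsi0_dk, smul_dotProduct]
    have : bv (m + 3 + 3) F (m + 3 + 2) ⬝ᵥ dl (m + 1) c = c := dl_bv_top (m + 1) c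
    rw [this, smul_eq_mul]
    exact hρ
  · rw [smul_dotProduct, sub_dotProduct, dl_bv_top, dl_bv_top', sub_self, smul_zero]
  · rw [smul_dotProduct, sub_dotProduct, dk_bv_top, dk_bv_top', smul_eq_mul]
    have : c * s - c * (1 + s) = -c := by ring
    rw [this]
    exact mul_ne_zero (mul_ne_zero hlam0 hlam0) (neg_ne_zero.mpr hc)
  · rw [hb1]; exact hlam0

end Cfsg.Agent.SLNG
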