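import Mathlib
import Cfsg.Agent.SLNG.Gen
import Cfsg.Agent.SLNG.H1_Conj
import Cfsg.Agent.SLNG.H1_N5

set_option autoImplicit false
set_option linter.unusedSectionVars false
set_option linter.unusedVariables false

/-! S2279 (helper2): the statement for `n = m + 1 + 5 ≥ 6`, all finite fields. -/

namespace Cfsg.Agent.SLNG

open Matrix Cfsg.Agent.Helper8.RgGen

variable {F : Type*} [Field F]

/-- a field of prime cardinality has no proper subfield. -/
theorem sub_top_of_prime [Fintype F] (hp : (Fintype.card F).Prime) (K : Subfield F) : K = ⊤ := by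
  rw [eq_top_iff]
  intro x _
  have hF : Fact (Fintype.card F).Prime := ⟨hp⟩
  let φ := ZMod.ringEquivOfPrime F hp rfl
  have hx : x = (((φ.symm x).val : ℕ) : F) := by
    conv_lhs => rw [← φ.apply_symm_apply x, ← ZMod.natCast_zmod_val (φ.symm x)]
    rw [map_natCast]
  rw [hx]
  exact natCast_mem K _

/-- an integer `z` with `z (10 + z) ≠ 0` in `F` (`z = 1` in characteristic `2`, else `z = -2`). -/
theorem exists_z10 (F : Type*) [Field F] : ∃ z : ℤ, ((z * (10 + z) : ℤ) : F) ≠ 0 := by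
  by_cases h2 : (2 : F) = 0
  · refine ⟨1, ?_⟩
    have : ((((1 : ℤ)) * (10 + (1 : ℤ)) : ℤ) : F) = 1 + 2 * 5 := by
      push_cast; ring
    rw [this, h2, zero_mul, add_zero]
    exact one_ne_zero
  · refine ⟨-2, ?_⟩
    have : ((((-2 : ℤ)) * (10 + (-2 : ℤ)) : ℤ) : F) = -(2 ^ 4) := by
      push_cast; ring
    rw [this]
    exact neg_ne_zero.mpr (pow_ne_zero _ h2)

/-- **S2279 for `n = m + 1 + 5 ≥ 6`.** -/
theorem main6 [Fintype F] (m : ℕ) :
    (∃ u v : Matrix.SpecialLinearGroup (Fin (m + 1 + 5)) F,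
      (IsNilpotent ((u : Matrix (Fin (m + 1 + 5)) (Fin (m + 1 + 5)) F) - 1) ∧
        ((u : Matrix (Fin (m + 1 + 5)) (Fin (m + 1 + 5)) F) - 1) ^ (m + 1 + 5 - 1) ≠ 0) ∧
      (IsNilpotent ((v : Matrix (Fin (m + 1 + 5)) (Fin (m + 1 + 5)) F) - 1) ∧
        ((v : Matrix (Fin (m + 1 + 5)) (Fin (m + 1 + 5)) F) - 1) ^ (m + 1 + 5 - 1) ≠ 0) ∧
      Subgroup.closure ({u, v} : Set (Matrix.SpecialLinearGroup (Fin (m + 1 + 5)) F)) = ⊤) ∧
    ((Fintype.card F).Prime → ∃ u g : Matrix.SpecialLinearGroup (Fin (m + 1 + 5)) F,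
      (IsNilpotent ((u : Matrix (Fin (m + 1 + 5)) (Fin (m + 1 + 5)) F) - 1) ∧
        ((u : Matrix (Fin (m + 1 + 5)) (Fin (m + 1 + 5)) F) - 1) ^ (m + 1 + 5 - 1) ≠ 0) ∧
      Subgroup.closure ({u, g * u * g⁻¹} :
        Set (Matrix.SpecialLinearGroup (Fin (m + 1 + 5)) F)) = ⊤) := by
  obtain ⟨z, hz⟩ := exists_z10 F
  by_cases hp : (Fintype.card F).Prime
  · have hc : ((-1 : F)) ^ (m + 1) ≠ 0 := pow_ne_zero _ (neg_ne_zero.mpr one_ne_zero)
    have hgen := gen_top m z ((-1 : F) ^ (m + 1)) hc hz (sub_top_of_prime hp _)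
    obtain ⟨g, hg⟩ := h1_U_conj (m + 1) (z : F) ((-1 : F) ^ (m + 1)) hc rfl
    refine ⟨⟨u1 (m + 1 + 5) F, Usl (m + 1) (z : F) ((-1 : F) ^ (m + 1)) hc, u1_regular (by omega),
      h1_U_regular (m + 1) (z : F) _ hc, hgen⟩,
      fun _ => ⟨u1 (m + 1 + 5) F, g, u1_regular (by omega), ?_⟩⟩
    rw [← hg]
    exact hgen
  · refine ⟨?_, fun h => absurd h hp⟩
    obtain ⟨a, ha, hgen⟩ := h1_exists_gen5 (F := F)
    have hz' : (z : F) * (10 + (z : F)) ≠ 0 := by
      have := hz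
      push_cast at this
      exact this
    have hz0 : (z : F) ≠ 0 := left_ne_zero_of_mul hz'
    have hk : (z : F) * ((z : F) * (10 + (z : F))) ≠ 0 := mul_ne_zero hz0 hz'
    have hc : a / ((z : F) * ((z : F) * (10 + (z : F)))) ≠ 0 := div_ne_zero ha hk
    have hρ : (z : F) * ((z : F) * (10 + (z : F)) * (a / ((z : F) * ((z : F) * (10 + (z : F)))))) = a := by
      have h10 : (10 + (z : F)) ≠ 0 := right_ne_zero_of_mul hz'
      field_simp
    have hgen' := gen_top m z (a / ((z : F) * ((z : F) * (10 + (z : F))))) hc hz (by rw [hρ]; exact hgen)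
    exact ⟨u1 (m + 1 + 5) F, Usl (m + 1) (z : F) _ hc, u1_regular (by omega),
      h1_U_regular (m + 1) (z : F) _ hc, hgen'⟩

end Cfsg.Agent.SLNG
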