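import Mathlib
import Cfsg.Agent.SLNG.H3_Count

set_option autoImplicit false

/-! S2279 (helper2): helper5's piece `CUB13`, from helper3's counting lemma. -/

namespace Cfsg.Agent.SLNG

open Polynomial

theorem h2_cub13 {F : Type*} [Field F] [Fintype F] (h13 : (13 : F) = 0)
    (hnp : ¬ (Fintype.card F).Prime) :
    ∃ c : F, Subfield.closure ({3 * c ^ 3 + 8 * c ^ 2 - 35 * c} : Set F) = ⊤ := by
  have hF : Fact (Nat.Prime 13) := ⟨by norm_num⟩
  have hchar : CharP F 13 :=
    (CharP.charP_iff_prime_eq_zero (by norm_num : Nat.Prime 13)).2 (by exact_mod_cast h13)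
  have h3 : (3 : F) ≠ 0 := by
    intro h
    have : (1 : F) = 0 := by linear_combination h13 - 4 * h
    exact one_ne_zero this
  set P : F[X] := C 3 * X ^ 3 + C 8 * X ^ 2 + C (-35) * X + C 0 with hP
  have hdeg : P.natDegree = 3 := natDegree_cubic h3
  obtain ⟨c, hc⟩ := h3_exists_cubic_gen 13 (by norm_num) hnp P hdeg
  refine ⟨c, ?_⟩
  have hev : P.eval c = 3 * c ^ 3 + 8 * c ^ 2 - 35 * c := by
    rw [hP]
    simp
    ring
  rw [← hev]
  exact hc

end Cfsg.Agent.SLNG
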