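import Mathlib
import Cfsg.Agent.SLNG.H1_Core

set_option autoImplicit false

/-!
Assembly of the generic layer: generation of `SL_n(F)` over a prime field by `v = 1 + N` and
`u = v * y`, `y = 1 + l ⊗ μ₁ + m ⊗ μ₂` with `y ^ 2` a transvection.
-/

namespace Cfsg.Agent.SLNG

open Matrix

variable {F : Type*} [Field F] {n : ℕ}

/-- **generation over a prime field** (black box): `v = 1 + N`, `u = v y`, `u e_0 = l`,
`l_{n-1} ≠ 0`, and the axis `-s • μ₂ u` of the transvection `u⁻¹ y² u` has a nonzero entry at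
index `1`; then `⟨u, v⟩ = SL_n(F)`. -/
theorem h1_gen_prime [Fintype F] (hp : (Fintype.card F).Prime) (hn : 2 ≤ n)
    (i0 i1 iL : Fin n) (h0 : i0.val = 0) (h1 : i1.val = 1) (hL : iL.val + 1 = n)
    (l m μ1 μ2 : Fin n → F) (s : F) (h11 : μ1 ⬝ᵥ l = -2) (h21 : μ2 ⬝ᵥ l = 0)
    (h12 : μ1 ⬝ᵥ m = -s) (h22 : μ2 ⬝ᵥ m = -2)
    (u v : Matrix.SpecialLinearGroup (Fin n) F)
    (hv : (v : Matrix (Fin n) (Fin n) F) = 1 + h1_N F n)
    (huv : (u : Matrix (Fin n) (Fin n) F) = (v : Matrix (Fin n) (Fin n) F) * h1_Y l m μ1 μ2)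
    (hue : (u : Matrix (Fin n) (Fin n) F) *ᵥ (Pi.single i0 1) = l)
    (hlL : l iL ≠ 0)
    (hψ1 : ((-s) • (μ2 ᵥ* (u : Matrix (Fin n) (Fin n) F))) i1 ≠ 0) :
    Subgroup.closure ({u, v} : Set (Matrix.SpecialLinearGroup (Fin n) F)) = ⊤ := by
  set H := Subgroup.closure ({u, v} : Set (Matrix.SpecialLinearGroup (Fin n) F)) with hH
  have huH : HasM H (u : Matrix (Fin n) (Fin n) F) :=
    HasM.of_mem (Subgroup.subset_closure (by simp))
  have hvH : HasM H (v : Matrix (Fin n) (Fin n) F) :=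
    HasM.of_mem (Subgroup.subset_closure (by simp))
  have hw := h1_word i0 l m μ1 μ2 s h11 h21 h12 h22 _ _ huH hvH huv hue
  have hw0 := h1_word_axis0 i0 l μ2 s h21 _ hue
  have hT := h1_psi_full_prime hp i0 i1 h0 h1 (hv ▸ hvH) _ hw0 hψ1 hw
  refine h1_top_of_centre i0 iL hL hn (hv ▸ hvH) hT _ huH ?_
  have : (u : Matrix (Fin n) (Fin n) F) iL i0 = ((u : Matrix (Fin n) (Fin n) F) *ᵥ (Pi.single i0 1)) iL := by
    rw [Matrix.mulVec_single_one]
    rfl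
  rw [this, hue]
  exact hlL

end Cfsg.Agent.SLNG
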