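import Mathlib
import Cfsg.Agent.SLNG.H7_N4Small

/-!
# S2279 swarm (helper7): the tiny-field certificate for general `n`

Same as `h7_small_of_data` (in `SLNG/H7_N4Small.lean`) for matrices of any size `n ≥ 2`: an explicit
`G ∈ SL_n(ZMod p)`, `U = G (1 + N) G⁻¹`, and a word in `v = 1 + N`, `v⁻¹`, `U`, `U⁻¹` equal to a transvection
`1 + e_0 ⊗ ψ0` with `ψ0(e_1) ≠ 0`, together with `U_{n-1,0} ≠ 0`, give two conjugate regular unipotent
generators of `SL_n(F)` for every field `F` with `p` elements.  All hypotheses are closed by `decide`.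
-/

set_option autoImplicit false

namespace Cfsg.Agent.SLNG

open Matrix Cfsg.Agent.Helper8.RgGen

variable {F : Type*} [Field F] {n : ℕ}

theorem h7_small_core_n [Fintype F] (hp : (Fintype.card F).Prime) (hn : 2 ≤ n)
    (i0 i1 iL : Fin n) (h0 : i0.val = 0) (h1 : i1.val = 1) (hL : iL.val + 1 = n)
    (G Gi U Ui Vi : Matrix (Fin n) (Fin n) F) (ψ : Fin n → F)
    (hG : G.det = 1) (hGi : Gi.det = 1) (hGGi : G * Gi = 1)
    (hU : U = G * (1 + Nm n F) * Gi) (hVVi : (1 + Nm n F) * Vi = 1) (hUUi : U * Ui = 1)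
    (hψ0 : ψ i0 = 0) (hψ1 : ψ i1 ≠ 0) (hUL : U iL i0 ≠ 0)
    (hword : ∀ H : Subgroup (SpecialLinearGroup (Fin n) F), HasM H (1 + Nm n F) → HasM H Vi →
      HasM H U → HasM H Ui → HasM H (h1_TV (Pi.single i0 1) ψ)) :
    ∃ u g : SpecialLinearGroup (Fin n) F,
      (IsNilpotent ((u : Matrix (Fin n) (Fin n) F) - 1) ∧
        ((u : Matrix (Fin n) (Fin n) F) - 1) ^ (n - 1) ≠ 0) ∧
      Subgroup.closure ({u, g * u * g⁻¹} : Set (SpecialLinearGroup (Fin n) F)) = ⊤ := by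
  set g : SpecialLinearGroup (Fin n) F := ⟨G, hG⟩ with hg
  set gi : SpecialLinearGroup (Fin n) F := ⟨Gi, hGi⟩ with hgi
  have hginv : g⁻¹ = gi := by
    symm
    apply eq_inv_of_mul_eq_one_right
    apply Subtype.ext
    show G * Gi = 1
    exact hGGi
  refine ⟨u1 n F, g, u1_regular (by omega), ?_⟩
  set H := Subgroup.closure ({u1 n F, g * u1 n F * g⁻¹} : Set (SpecialLinearGroup (Fin n) F)) with hH
  have hV : HasM H (1 + Nm n F) :=
    ⟨u1 n F, Subgroup.subset_closure (Set.mem_insert _ _), u1_coe⟩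
  have hUH : HasM H U := by
    refine ⟨g * u1 n F * g⁻¹, Subgroup.subset_closure (Set.mem_insert_of_mem _ rfl), ?_⟩
    rw [hginv, hU]
    rfl
  have hVi : HasM H Vi := hV.inv hVVi
  have hUi : HasM H Ui := hUH.inv hUUi
  have hT := hword H hV hVi hUH hUi
  have hV' : HasM H (1 + h1_N F n) := hV
  have hfull := h1_psi_full_prime hp i0 i1 h0 h1 hV' ψ hψ0 hψ1 hT
  exact h1_top_of_centre i0 iL hL hn hV' hfull U hUH hUL

theorem h7_map_one_add_Nm_n {K : Type*} [Field K] (φ : K →+* F) :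
    (1 + Nm n K).map φ = 1 + Nm n F := by
  ext i j
  simp only [Matrix.map_apply, Matrix.add_apply, Matrix.one_apply, Nm_apply]
  split_ifs <;> simp

theorem h7_map_TV_n {K : Type*} [Field K] (φ : K →+* F) (a ψ : Fin n → K) :
    (h1_TV a ψ).map φ = h1_TV (fun i => φ (a i)) (fun i => φ (ψ i)) := by
  ext i j
  simp only [h1_TV, Matrix.map_apply, Matrix.add_apply, Matrix.one_apply, vecMulVec_apply]
  split_ifs <;> simp

theorem h7_map_single_n {K : Type*} [Field K] (φ : K →+* F) (i0 : Fin n) :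
    (fun i => φ ((Pi.single i0 (1 : K) : Fin n → K) i)) = Pi.single i0 (1 : F) := by
  funext i
  by_cases h : i = i0
  · subst h; simp
  · simp [h]

/-- the value of a word in four letters -/
def h7_word_n {R : Type*} [Semiring R] (A : Fin 4 → Matrix (Fin n) (Fin n) R) (l : List (Fin 4)) :
    Matrix (Fin n) (Fin n) R := (l.map A).prod

theorem h7_word_n_hasM (H : Subgroup (SpecialLinearGroup (Fin n) F))
    (A : Fin 4 → Matrix (Fin n) (Fin n) F) (hA : ∀ i, HasM H (A i)) (l : List (Fin 4)) :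
    HasM H (h7_word_n A l) := by
  unfold h7_word_n
  induction l with
  | nil => rw [List.map_nil, List.prod_nil]; exact HasM.one
  | cons a l ih => rw [List.map_cons, List.prod_cons]; exact (hA a).mul ih

theorem h7_word_n_map {K : Type*} [Field K] (φ : K →+* F) (A : Fin 4 → Matrix (Fin n) (Fin n) K)
    (l : List (Fin 4)) : (h7_word_n A l).map φ = h7_word_n (fun i => (A i).map φ) l := by
  unfold h7_word_n
  have := map_list_prod φ.mapMatrix (l.map A)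
  rw [RingHom.mapMatrix_apply, List.map_map] at this
  rw [this]
  rfl

/-- **transport of a certificate over `ZMod p`**, any `n ≥ 2` (letters of the word: `0 = v`, `1 = v⁻¹`,
`2 = U`, `3 = U⁻¹`) -/
theorem h7_small_of_data_n [Fintype F] {p : ℕ} [hp : Fact p.Prime] (hcard : Fintype.card F = p)
    (hn : 2 ≤ n) (i0 i1 iL : Fin n) (h0 : i0.val = 0) (h1 : i1.val = 1) (hL : iL.val + 1 = n)
    (G Gi U Ui Vi : Matrix (Fin n) (Fin n) (ZMod p)) (ψ0 : Fin n → ZMod p) (l : List (Fin 4))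
    (hG : G.det = 1) (hGi : Gi.det = 1) (hGGi : G * Gi = 1)
    (hU : U = G * (1 + Nm n (ZMod p)) * Gi) (hVVi : (1 + Nm n (ZMod p)) * Vi = 1)
    (hUUi : U * Ui = 1) (hψ0 : ψ0 i0 = 0) (hψ1 : ψ0 i1 ≠ 0) (hUL : U iL i0 ≠ 0)
    (hword : h7_word_n ![1 + Nm n (ZMod p), Vi, U, Ui] l = h1_TV (Pi.single i0 1) ψ0) :
    ∃ u g : SpecialLinearGroup (Fin n) F,
      (IsNilpotent ((u : Matrix (Fin n) (Fin n) F) - 1) ∧
        ((u : Matrix (Fin n) (Fin n) F) - 1) ^ (n - 1) ≠ 0) ∧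
      Subgroup.closure ({u, g * u * g⁻¹} : Set (SpecialLinearGroup (Fin n) F)) = ⊤ := by
  have hchar : CharP F p := h7_charP_of_card hp.out hcard
  let φ : ZMod p →+* F := ZMod.castHom (dvd_refl p) F
  have hinj : Function.Injective φ := φ.injective
  have hone : (1 : Matrix (Fin n) (Fin n) (ZMod p)).map φ = 1 :=
    Matrix.map_one φ (map_zero φ) (map_one φ)
  have hdet : ∀ A : Matrix (Fin n) (Fin n) (ZMod p), A.det = 1 → (A.map φ).det = 1 := by
    intro A hA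
    have := RingHom.map_det φ A
    rw [RingHom.mapMatrix_apply] at this
    rw [← this, hA, map_one]
  have hmul : ∀ A B : Matrix (Fin n) (Fin n) (ZMod p), A * B = 1 → A.map φ * B.map φ = 1 := by
    intro A B hAB
    rw [← Matrix.map_mul, hAB, hone]
  refine h7_small_core_n (by rw [hcard]; exact hp.out) hn i0 i1 iL h0 h1 hL (G.map φ) (Gi.map φ)
    (U.map φ) (Ui.map φ) (Vi.map φ) (fun i => φ (ψ0 i)) (hdet G hG) (hdet Gi hGi)
    (hmul G Gi hGGi) ?_ ?_ (hmul U Ui hUUi) ?_ ?_ ?_ ?_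
  · rw [hU, Matrix.map_mul, Matrix.map_mul, h7_map_one_add_Nm_n]
  · rw [← h7_map_one_add_Nm_n φ]
    exact hmul _ _ hVVi
  · show φ (ψ0 i0) = 0
    rw [hψ0, map_zero]
  · show φ (ψ0 i1) ≠ 0
    intro h
    apply hψ1
    apply hinj
    rw [h, map_zero]
  · rw [Matrix.map_apply]
    intro h
    apply hUL
    apply hinj
    rw [h, map_zero]
  · intro H hV hVi hUH hUi
    have hA : ∀ i : Fin 4, HasM H ((fun i => (![1 + Nm n (ZMod p), Vi, U, Ui] i).map φ) i) := by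
      intro i
      fin_cases i
      · show HasM H ((1 + Nm n (ZMod p)).map φ)
        rw [h7_map_one_add_Nm_n]
        exact hV
      · exact hVi
      · exact hUH
      · exact hUi
    have h1 := h7_word_n_hasM H _ hA l
    rw [← h7_word_n_map, hword, h7_map_TV_n, h7_map_single_n] at h1
    exact h1

end Cfsg.Agent.SLNG

/-! ### `n = 5`, `|F| = 2` (data found by helper1) -/

namespace Cfsg.Agent.SLNG

open Matrix Cfsg.Agent.Helper8.RgGen

def h7_G52 : Matrix (Fin 5) (Fin 5) (ZMod 2) :=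
  !![0,0,1,0,1; 0,0,0,1,0; 0,0,1,1,0; 1,1,1,1,0; 1,0,1,0,1]
def h7_Gi52 : Matrix (Fin 5) (Fin 5) (ZMod 2) :=
  !![1,0,0,0,1; 1,0,1,1,1; 0,1,1,0,0; 0,1,0,0,0; 1,1,1,0,0]
def h7_U52 : Matrix (Fin 5) (Fin 5) (ZMod 2) :=
  !![1,1,0,0,0; 1,0,1,0,0; 1,0,0,0,0; 0,1,1,0,1; 1,1,1,1,0]
def h7_Ui52 : Matrix (Fin 5) (Fin 5) (ZMod 2) :=
  !![0,0,1,0,0; 1,0,1,0,0; 0,1,1,0,0; 1,1,1,0,1; 1,1,0,1,0]
def h7_Vi52 : Matrix (Fin 5) (Fin 5) (ZMod 2) :=
  !![1,1,1,1,1; 0,1,1,1,1; 0,0,1,1,1; 0,0,0,1,1; 0,0,0,0,1]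
def h7_psi52 : Fin 5 → ZMod 2 := ![0,1,0,1,0]
/-- the word `U⁻¹ (v⁻¹ U)² U` -/
def h7_l52 : List (Fin 4) := [3, 1, 2, 1, 2, 2]

set_option maxRecDepth 100000 in
theorem h7_five_two_data :
    h7_G52.det = 1 ∧ h7_Gi52.det = 1 ∧ h7_G52 * h7_Gi52 = 1 ∧
    h7_U52 = h7_G52 * (1 + Nm 5 (ZMod 2)) * h7_Gi52 ∧ (1 + Nm 5 (ZMod 2)) * h7_Vi52 = 1 ∧
    h7_U52 * h7_Ui52 = 1 ∧ h7_psi52 0 = 0 ∧ h7_psi52 1 ≠ 0 ∧ h7_U52 4 0 ≠ 0 ∧
    h7_word_n ![1 + Nm 5 (ZMod 2), h7_Vi52, h7_U52, h7_Ui52] h7_l52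
      = h1_TV (Pi.single 0 1) h7_psi52 := by
  unfold h7_G52 h7_Gi52 h7_U52 h7_Ui52 h7_Vi52 h7_psi52 h7_l52 h7_word_n h1_TV
  decide

/-- **`SL_5(F)`, `|F| = 2`: two conjugate regular unipotent generators.** -/
theorem h7_n5_two {F : Type*} [Field F] [Fintype F] (hcard : Fintype.card F = 2) :
    ∃ u g : Matrix.SpecialLinearGroup (Fin 5) F,
      (IsNilpotent ((u : Matrix (Fin 5) (Fin 5) F) - 1) ∧
        ((u : Matrix (Fin 5) (Fin 5) F) - 1) ^ (5 - 1) ≠ 0) ∧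
      Subgroup.closure ({u, g * u * g⁻¹} : Set (Matrix.SpecialLinearGroup (Fin 5) F)) = ⊤ := by
  have : Fact (Nat.Prime 2) := ⟨Nat.prime_two⟩
  obtain ⟨h1, h2, h3, h4, h5, h6, h7, h8, h9, h10⟩ := h7_five_two_data
  exact h7_small_of_data_n hcard (by norm_num) (0 : Fin 5) (1 : Fin 5) (4 : Fin 5) rfl rfl rfl
    h7_G52 h7_Gi52 h7_U52 h7_Ui52 h7_Vi52 h7_psi52 h7_l52 h1 h2 h3 h4 h5 h6 h7 h8 h9 h10

end Cfsg.Agent.SLNG
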