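import Mathlib
import Cfsg.Agent.SLNG.H7_N4Small
import Cfsg.Agent.SLNG.H8_Asm

/-!
# S2279 swarm (helper8): `SL_4(F)` for `|F| = p ≥ 5` prime — two conjugate regular unipotent generators

The member `s = -6`, `c = s + 5 = -1` of the `n = 4` family has integer entries: `v = 1 + N`,
`U = G v G⁻¹` with `G ∈ SL_4(ℤ)`, and `U⁻¹ (v⁻¹ U)² U = 1 + e_0 ⊗ (0, -24, 84, -102)`.  All matrix
identities are checked over `ℤ` by `decide` and mapped to `F`; `24 ≠ 0` in `F` since `p ≥ 5`;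
then helper7's `h7_small_core` (helper1's `h1_psi_full_prime` + `h1_top_of_centre`).
-/

set_option autoImplicit false

namespace Cfsg.Agent.SLNG

open Matrix Cfsg.Agent.Helper8.RgGen

def h8_Vz : Matrix (Fin 4) (Fin 4) ℤ := !![1,1,0,0; 0,1,1,0; 0,0,1,1; 0,0,0,1]
def h8_Viz : Matrix (Fin 4) (Fin 4) ℤ := !![1,-1,1,-1; 0,1,-1,1; 0,0,1,-1; 0,0,0,1]
def h8_Uz : Matrix (Fin 4) (Fin 4) ℤ := !![0,3,1,-1; 0,0,5,-6; -1,0,10,-12; -1,1,5,-6]
def h8_Uiz : Matrix (Fin 4) (Fin 4) ℤ := !![0,2,-1,0; 0,1,-1,1; 6,-19,18,-18; 5,-16,15,-15]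
def h8_Gz : Matrix (Fin 4) (Fin 4) ℤ := !![-3,-1,1,-1; -1,-1,0,0; 1,-4,1,0; 1,-3,1,0]
def h8_Giz : Matrix (Fin 4) (Fin 4) ℤ := !![0,-1,1,-1; 0,0,-1,1; 0,1,-4,5; -1,4,-6,7]
def h8_Tz : Matrix (Fin 4) (Fin 4) ℤ := !![1,-24,84,-102; 0,1,0,0; 0,0,1,0; 0,0,0,1]
def h8_psiz : Fin 4 → ℤ := ![0,-24,84,-102]

set_option maxRecDepth 100000 in
theorem h8_int_data :
    h8_Gz.det = 1 ∧ h8_Giz.det = 1 ∧ h8_Gz * h8_Giz = 1 ∧
    h8_Uz = h8_Gz * h8_Vz * h8_Giz ∧ h8_Vz * h8_Viz = 1 ∧ h8_Uz * h8_Uiz = 1 ∧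
    h8_Uiz * (h8_Viz * h8_Uz) * (h8_Viz * h8_Uz) * h8_Uz = h8_Tz := by
  unfold h8_Gz h8_Giz h8_Uz h8_Uiz h8_Vz h8_Viz h8_Tz
  decide


section transport

variable {F : Type*} [Field F]

theorem h8_map_Vz : h8_Vz.map (Int.castRingHom F) = 1 + Nm 4 F := by
  ext i j
  fin_cases i <;> fin_cases j <;> simp [h8_Vz, Nm_apply]

theorem h8_map_Tz :
    h8_Tz.map (Int.castRingHom F)
      = h1_TV (Pi.single 0 1) (fun i => ((h8_psiz i : ℤ) : F)) := by
  ext i j
  fin_cases i <;> fin_cases j <;> simp [h8_Tz, h8_psiz, h1_TV, vecMulVec_apply]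

theorem h8_24_ne_zero [Fintype F] (hp : (Fintype.card F).Prime) (h5 : 5 ≤ Fintype.card F) :
    ((-24 : ℤ) : F) ≠ 0 := by
  have : CharP F (Fintype.card F) := h7_charP_of_card hp rfl
  intro h
  rw [CharP.intCast_eq_zero_iff F (Fintype.card F)] at h
  have h24 : (Fintype.card F : ℤ) ∣ 24 := by
    have := dvd_neg.mpr h
    simpa using this
  have h24' : Fintype.card F ∣ 24 := by exact_mod_cast h24
  have hle : Fintype.card F ≤ 24 := Nat.le_of_dvd (by norm_num) h24'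
  generalize Fintype.card F = p at hp h5 h24' hle
  interval_cases p <;> revert hp h24' <;> decide

/-- clause 2 of S2279 at `n = 4` for a prime field with at least five elements. -/
theorem h8_n4_prime_clause [Fintype F] (hp : (Fintype.card F).Prime) (h5 : 5 ≤ Fintype.card F) :
    ∃ u g : SpecialLinearGroup (Fin 4) F,
      (IsNilpotent ((u : Matrix (Fin 4) (Fin 4) F) - 1) ∧
        ((u : Matrix (Fin 4) (Fin 4) F) - 1) ^ (4 - 1) ≠ 0) ∧
      Subgroup.closure ({u, g * u * g⁻¹} : Set (SpecialLinearGroup (Fin 4) F)) = ⊤ := by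
  obtain ⟨hG, hGi, hGGi, hU, hVVi, hUUi, hW⟩ := h8_int_data
  let φ : ℤ →+* F := Int.castRingHom F
  have hone : (1 : Matrix (Fin 4) (Fin 4) ℤ).map φ = 1 :=
    Matrix.map_one φ (map_zero φ) (map_one φ)
  have hdet : ∀ A : Matrix (Fin 4) (Fin 4) ℤ, A.det = 1 → (A.map φ).det = 1 := by
    intro A hA
    have := RingHom.map_det φ A
    rw [RingHom.mapMatrix_apply] at this
    rw [← this, hA, map_one]
  have hmul : ∀ A B : Matrix (Fin 4) (Fin 4) ℤ, A * B = 1 → A.map φ * B.map φ = 1 := by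
    intro A B hAB
    rw [← Matrix.map_mul, hAB, hone]
  refine h7_small_core hp (h8_Gz.map φ) (h8_Giz.map φ) (h8_Uz.map φ) (h8_Uiz.map φ)
    (h8_Viz.map φ) (fun i => ((h8_psiz i : ℤ) : F)) (hdet _ hG) (hdet _ hGi) (hmul _ _ hGGi) ?_ ?_
    (hmul _ _ hUUi) ?_ ?_ ?_ ?_
  · rw [hU, Matrix.map_mul, Matrix.map_mul, h8_map_Vz]
  · rw [← h8_map_Vz]
    exact hmul _ _ hVVi
  · simp [h8_psiz]
  · have h := h8_24_ne_zero hp h5
    simpa [h8_psiz] using h
  · simp [h8_Uz]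
  · intro H hV hVi hUH hUi
    have h1 : HasM H (h8_Uiz.map φ * (h8_Viz.map φ * h8_Uz.map φ)
        * (h8_Viz.map φ * h8_Uz.map φ) * h8_Uz.map φ) :=
      ((hUi.mul (hVi.mul hUH)).mul (hVi.mul hUH)).mul hUH
    have h2 : h8_Uiz.map φ * (h8_Viz.map φ * h8_Uz.map φ)
        * (h8_Viz.map φ * h8_Uz.map φ) * h8_Uz.map φ = h8_Tz.map φ := by
      rw [← hW]
      simp only [Matrix.map_mul]
    rw [h2, h8_map_Tz] at h1
    exact h1

/-- S2279 at `n = 4` for a prime field with at least five elements. -/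
theorem h8_n4_prime [Fintype F] (hp : (Fintype.card F).Prime) (h5 : 5 ≤ Fintype.card F) :
    h8_Concl F 4 :=
  h8_concl_of_prime_clause hp (h8_n4_prime_clause hp h5)

/-- S2279 at `n = 4` for every prime field. -/
theorem h8_n4_all_prime [Fintype F] (hp : (Fintype.card F).Prime) : h8_Concl F 4 := by
  rcases Nat.lt_or_ge (Fintype.card F) 5 with h | h
  · have h2 := hp.two_le
    have hcard : Fintype.card F = 2 ∨ Fintype.card F = 3 := by
      generalize Fintype.card F = p at hp h h2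
      interval_cases p
      · left; rfl
      · right; rfl
      · exact absurd hp (by decide)
    exact h8_concl_of_prime_clause hp (h7_n4_small hcard)
  · exact h8_n4_prime hp h

end transport

end Cfsg.Agent.SLNG
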