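import Mathlib
import Cfsg.Agent.SLNG.H3_Count

set_option autoImplicit false

/-!
The characteristic-13 cubic generator lemma for the `n = 4` case of S2279: a corollary of
`h3_exists_cubic_gen`.
-/

namespace Cfsg.Agent.SLNG

open Polynomial

theorem h9_charP13 {F : Type*} [Field F] (h13 : (13 : F) = 0) : CharP F 13 := by
  have hp : Nat.Prime 13 := by norm_num
  obtain ⟨r, hr⟩ := CharP.exists F
  have hdvd : r ∣ 13 := by
    have := (CharP.cast_eq_zero_iff F r 13).1 (by exact_mod_cast h13)
    exact this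
  rcases (Nat.dvd_prime hp).1 hdvd with h1 | h1
  · subst h1
    have h10 : ((1 : ℕ) : F) = 0 := CharP.cast_eq_zero F 1
    rw [Nat.cast_one] at h10
    exact absurd h10 one_ne_zero
  · subst h1
    exact hr

theorem h9_cub13 {F : Type*} [Field F] [Fintype F] (h13 : (13 : F) = 0)
    (hnp : ¬ (Fintype.card F).Prime) :
    ∃ c : F, Subfield.closure ({3 * c ^ 3 + 8 * c ^ 2 - 35 * c} : Set F) = ⊤ := by
  have : Fact (Nat.Prime 13) := ⟨by norm_num⟩
  have : CharP F 13 := h9_charP13 h13
  have h3 : (3 : F) ≠ 0 := by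
    intro h
    have : ((3 : ℕ) : F) = 0 := by exact_mod_cast h
    have hd := (CharP.cast_eq_zero_iff F 13 3).1 this
    omega
  set P : Polynomial F := C 3 * X ^ 3 + C 8 * X ^ 2 - C 35 * X with hP
  have hd : P.natDegree = 3 := by
    have : P = C 3 * X ^ 3 + (C 8 * X ^ 2 - C 35 * X) := by rw [hP]; ring
    rw [this]
    have hlt : (C (8:F) * X ^ 2 - C 35 * X).natDegree < (C (3:F) * X ^ 3).natDegree := by
      rw [natDegree_C_mul_X_pow 3 3 h3]
      have h1 : (C (8:F) * X ^ 2 - C 35 * X).natDegree ≤ 2 := by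
        refine (natDegree_sub_le _ _).trans ?_
        refine max_le ?_ ?_
        · exact natDegree_C_mul_X_pow_le _ _
        · exact (natDegree_C_mul_le _ _).trans (natDegree_X_le.trans (by norm_num))
      omega
    rw [natDegree_add_eq_left_of_natDegree_lt hlt, natDegree_C_mul_X_pow 3 3 h3]
  obtain ⟨s, hs⟩ := h3_exists_cubic_gen (F := F) 13 (by norm_num) hnp P hd
  refine ⟨s, ?_⟩
  have he : P.eval s = 3 * s ^ 3 + 8 * s ^ 2 - 35 * s := by
    simp [hP]
  rw [← he]
  exact hs

end Cfsg.Agent.SLNG
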