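import Mathlib
import Cfsg.Agent.Helper8.RgGenD

/-!
# S2279 swarm, piece ROT: the signed cyclic shift

`sgnRot N ε` has columns `-e_1, e_2, …, e_{N-1}, ε e_0` (0-based); its determinant is `(-1)^N * ε`.
-/

set_option autoImplicit false

namespace Cfsg.Agent.SLNG

open Matrix Cfsg.Agent.Helper8.RgGen

variable {F : Type*} [Field F]

/-- The signed cyclic shift: column `0` is `-e_1`, column `j` is `e_{j+1}` for `1 ≤ j ≤ N-2`, the last column is
`ε e_0`. -/
def sgnRot (N : ℕ) (ε : F) : Matrix (Fin N) (Fin N) F :=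
  Matrix.of fun i j => if j.val + 1 = i.val then (if j.val = 0 then -1 else 1)
    else if i.val = 0 ∧ j.val + 1 = N then ε else 0

theorem sgnRot_apply (N : ℕ) (ε : F) (i j : Fin N) :
    sgnRot N ε i j = if j.val + 1 = i.val then (if j.val = 0 then -1 else 1)
      else if i.val = 0 ∧ j.val + 1 = N then ε else 0 := rfl

theorem l_rot_det_aux (k : ℕ) (ε : F) : (sgnRot (k + 2) ε).det = (-1) ^ (k + 2) * ε := by
  rw [Matrix.det_succ_row_zero]
  rw [Finset.sum_eq_single (Fin.last (k + 1))]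
  · -- the surviving term
    have hA : sgnRot (k + 2) ε 0 (Fin.last (k + 1)) = ε := by
      rw [sgnRot_apply]
      simp
    have hB : (sgnRot (k + 2) ε).submatrix Fin.succ (Fin.last (k + 1)).succAbove
        = Matrix.diagonal (fun i : Fin (k + 1) => if i.val = 0 then (-1 : F) else 1) := by
      ext i j
      rw [Matrix.submatrix_apply, sgnRot_apply, Fin.succAbove_last, Matrix.diagonal_apply]
      simp only [Fin.val_succ, Fin.coe_castSucc, add_left_inj, Nat.succ_ne_zero, false_and,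
        if_false]
      by_cases h : i = j
      · subst h; simp
      · have h' : ¬ j.val = i.val := fun e => h (Fin.ext e.symm)
        simp [h, h']
    have hD : (∏ i : Fin (k + 1), (if i.val = 0 then (-1 : F) else 1)) = -1 := by
      rw [Fin.prod_univ_succ]
      simp
    rw [hA, hB, Matrix.det_diagonal, hD]
    simp only [Fin.val_last]
    ring
  · intro j _ hj
    have : sgnRot (k + 2) ε 0 j = 0 := by
      rw [sgnRot_apply]
      have h1 : ¬ (j.val + 1 = (0 : Fin (k + 2)).val) := by simp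
      have h2 : ¬ ((0 : Fin (k + 2)).val = 0 ∧ j.val + 1 = k + 2) := by
        rintro ⟨_, h⟩
        apply hj
        apply Fin.ext
        simp only [Fin.val_last]
        omega
      rw [if_neg h1, if_neg h2]
    rw [this]; ring
  · intro h; exact absurd (Finset.mem_univ _) h

/-- (1) the determinant of the signed cyclic shift. -/
theorem sgnRot_det (N : ℕ) (hN : 2 ≤ N) (ε : F) : (sgnRot N ε).det = (-1) ^ N * ε := by
  obtain ⟨k, rfl⟩ : ∃ k, N = k + 2 := ⟨N - 2, by omega⟩
  exact l_rot_det_aux k ε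

theorem l_rot_mulVec_bv (N : ℕ) (ε : F) {j : ℕ} (hj : j < N) (i : Fin N) :
    (sgnRot N ε *ᵥ bv N F j) i = sgnRot N ε i ⟨j, hj⟩ := by
  rw [bv_eq_single hj, mulVec_single_one]
  rfl

/-- (2) the first column. -/
theorem sgnRot_bv0 (N : ℕ) (hN : 2 ≤ N) (ε : F) : sgnRot N ε *ᵥ bv N F 0 = -bv N F 1 := by
  funext i
  rw [l_rot_mulVec_bv N ε (by omega : 0 < N), sgnRot_apply, Pi.neg_apply, bv_apply]
  simp only [zero_add, if_true]
  by_cases h : i.val = 1
  · simp [h]
  · have h1 : ¬ (1 = i.val) := fun e => h e.symm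
    have h2 : ¬ (i.val = 0 ∧ 1 = N) := by rintro ⟨_, h⟩; omega
    simp [h, h1, h2]

/-- (3) the middle columns. -/
theorem sgnRot_bv_mid (N : ℕ) (ε : F) (j : ℕ) (h1 : 1 ≤ j) (hj : j + 1 < N) :
    sgnRot N ε *ᵥ bv N F j = bv N F (j + 1) := by
  funext i
  rw [l_rot_mulVec_bv N ε (by omega : j < N), sgnRot_apply, bv_apply]
  have hj0 : ¬ (j = 0) := by omega
  by_cases h : i.val = j + 1
  · simp [h, hj0]
  · have h' : ¬ (j + 1 = i.val) := fun e => h e.symm
    have h2 : ¬ (i.val = 0 ∧ j + 1 = N) := by rintro ⟨_, h⟩; omega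
    simp [h, h', h2]

/-- (4) the last column. -/
theorem sgnRot_bv_last (N : ℕ) (hN : 2 ≤ N) (ε : F) :
    sgnRot N ε *ᵥ bv N F (N - 1) = ε • bv N F 0 := by
  funext i
  rw [l_rot_mulVec_bv N ε (by omega : N - 1 < N), sgnRot_apply, Pi.smul_apply, bv_apply, smul_eq_mul]
  have h1 : ¬ (N - 1 + 1 = i.val) := by have := i.isLt; omega
  rw [if_neg h1]
  by_cases h : i.val = 0
  · have h2 : i.val = 0 ∧ N - 1 + 1 = N := ⟨h, by omega⟩
    rw [if_pos h2, if_pos h, mul_one]
  · have h2 : ¬ (i.val = 0 ∧ N - 1 + 1 = N) := fun hh => h hh.1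
    rw [if_neg h2, if_neg h, mul_zero]

end Cfsg.Agent.SLNG
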